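import Mathlib
import Cfsg.Agent.Lib.Fusion.SylIn

/-!
Project MPZ (S5242): definitions.  Cochains are functions on lists of points of a `G`-set; a coefficient
system is a pair of families `a ≤ b` of additive subgroups of one `G`-module.  See `plans/MPZ.md`.
-/

set_option autoImplicit false

namespace CfsgLib.MPZ

open Subgroup

section Core

variable {G : Type*} [Group G] {Ω : Type*} [MulAction G Ω] {B : Type*} [AddCommGroup B]

/-- The coboundary (alternating sum over the faces of a list). -/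
def d {Ω : Type*} : (List Ω → B) → List Ω → B
  | _, [] => 0
  | ξ, y :: l => ξ l - d (fun l' => ξ (y :: l')) l

/-- The action on lists. -/
def sm (g : G) (l : List Ω) : List Ω := l.map (fun y => g • y)

/-- The pointwise stabiliser in `H` of a list. -/
def St (H : Subgroup G) (l : List Ω) : Subgroup G where
  carrier := {g | g ∈ H ∧ ∀ y ∈ l, g • y = y}
  one_mem' := ⟨H.one_mem, fun y _ => one_smul G y⟩
  mul_mem' := fun {a b} ha hb => ⟨H.mul_mem ha.1 hb.1, fun y hy => by rw [mul_smul, hb.2 y hy, ha.2 y hy]⟩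
  inv_mem' := fun {a} ha => ⟨H.inv_mem ha.1, fun y hy => by rw [inv_smul_eq_iff, ha.2 y hy]⟩

/-- Conjugate subgroup `g P g⁻¹`. -/
abbrev cj (g : G) (P : Subgroup G) : Subgroup G := P.map (MulAut.conj g).toMonoidHom

variable [DistribMulAction G B]

/-- The coefficient system `b / a` on the convex `H`-invariant family `R` of lists. -/
structure Sys (H : Subgroup G) (R : List Ω → Prop) (b a : List Ω → AddSubgroup B) : Prop where
  cvx : ∀ l l' l'', l ⊆ l' → l' ⊆ l'' → R l → R l'' → R l'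
  inv : ∀ g ∈ H, ∀ l, R l → R (sm g l)
  le : ∀ l, R l → a l ≤ b l
  mono_a : ∀ l l', R l → R l' → l ⊆ l' → a l ≤ a l'
  mono_b : ∀ l l', R l → R l' → l ⊆ l' → b l ≤ b l'
  smul_a : ∀ g ∈ H, ∀ l, R l → ∀ u ∈ a l, g • u ∈ a (sm g l)
  smul_b : ∀ g ∈ H, ∀ l, R l → ∀ u ∈ b l, g • u ∈ b (sm g l)
  triv : ∀ l, R l → ∀ g ∈ St H l, ∀ u ∈ b l, g • u - u ∈ a l

/-- Cochains of the system `b / a`. -/
structure Coch (H : Subgroup G) (R : List Ω → Prop) (b a : List Ω → AddSubgroup B) (ξ : List Ω → B) :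
    Prop where
  mem : ∀ l, R l → ξ l ∈ b l
  zero : ∀ l, ¬ R l → ξ l = 0
  eqv : ∀ g ∈ H, ∀ l, R l → ξ (sm g l) - g • ξ l ∈ a (sm g l)

/-- Exactness at lists of length `m`. -/
def Ex (H : Subgroup G) (R : List Ω → Prop) (b a : List Ω → AddSubgroup B) (m : ℕ) : Prop :=
  ∀ ξ, Coch H R b a ξ → (∀ l, R l → l.length = m + 1 → d ξ l ∈ a l) →
    ∃ η, Coch H R b a η ∧ ∀ l, R l → l.length = m → ξ l - d η l ∈ a l

/-- `W` is an `H`-set with `p`-groups as stabilisers on which every `p`-subgroup has a fixed point. -/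
structure Amb (p : ℕ) (H : Subgroup G) (W : Set Ω) : Prop where
  inv : ∀ g ∈ H, ∀ y ∈ W, g • y ∈ W
  pgrp : ∀ y ∈ W, IsPGroup p (St H [y])
  fix : ∀ P ≤ H, IsPGroup p P → ∃ y ∈ W, ∀ g ∈ P, g • y = y

/-- All entries lie in `W`. -/
def In (W : Set Ω) (l : List Ω) : Prop := ∀ y ∈ l, y ∈ W

/-- The points of `W` fixed by `Y`. -/
def FixW (W : Set Ω) (Y : Subgroup G) : Set Ω := {y | y ∈ W ∧ ∀ g ∈ Y, g • y = y}

/-- The elements of `β` fixed by `P` modulo `α`. -/
def Fq (β α : AddSubgroup B) (P : Subgroup G) : AddSubgroup B where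
  carrier := {u | u ∈ β ∧ ∀ g ∈ P, g • u - u ∈ α}
  zero_mem' := ⟨β.zero_mem, fun g _ => by simp⟩
  add_mem' := fun {u v} hu hv => ⟨β.add_mem hu.1 hv.1, fun g hg => by
    have := α.add_mem (hu.2 g hg) (hv.2 g hg)
    rwa [show g • u - u + (g • v - v) = g • (u + v) - (u + v) by rw [smul_add]; abel] at this⟩
  neg_mem' := fun {u} hu => ⟨β.neg_mem hu.1, fun g hg => by
    have := α.neg_mem (hu.2 g hg)
    rwa [show -(g • u - u) = g • (-u) - -u by rw [smul_neg]; abel] at this⟩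

/-- The elements of `β` fixed by `P`. -/
def Fx (β : AddSubgroup B) (P : Subgroup G) : AddSubgroup B where
  carrier := {u | u ∈ β ∧ ∀ g ∈ P, g • u = u}
  zero_mem' := ⟨β.zero_mem, fun g _ => smul_zero g⟩
  add_mem' := fun {u v} hu hv => ⟨β.add_mem hu.1 hv.1, fun g hg => by rw [smul_add, hu.2 g hg, hv.2 g hg]⟩
  neg_mem' := fun {u} hu => ⟨β.neg_mem hu.1, fun g hg => by rw [smul_neg, hu.2 g hg]⟩

/-- Non-empty lists in `W` whose stabiliser lies in the family `𝓕`. -/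
def LR (H : Subgroup G) (W : Set Ω) (𝓕 : Subgroup G → Prop) (l : List Ω) : Prop :=
  l ≠ [] ∧ In W l ∧ 𝓕 (St H l)

/-- Exactness for the fixed point system of the module `β` on the family `𝓕`. -/
def LEx (H : Subgroup G) (W : Set Ω) (β : AddSubgroup B) (𝓕 : Subgroup G → Prop) (m : ℕ) : Prop :=
  Ex H (LR H W 𝓕) (fun l => Fx β (St H l)) (fun _ => ⊥) m

/-- `β` is an `H`-invariant subgroup of `p`-power exponent. -/
structure Md (p : ℕ) (H : Subgroup G) (β : AddSubgroup B) : Prop where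
  inv : ∀ g ∈ H, ∀ u ∈ β, g • u ∈ β
  tor : ∃ e : ℕ, ∀ u ∈ β, p ^ e • u = 0

/-- A convex `H`-invariant family of `p`-subgroups of `H`. -/
structure Fam (p : ℕ) (H : Subgroup G) (𝓕 : Subgroup G → Prop) : Prop where
  cvx : ∀ P₁ P₂ P₃, P₁ ≤ P₂ → P₂ ≤ P₃ → P₃ ≤ H → IsPGroup p P₃ → 𝓕 P₁ → 𝓕 P₃ → 𝓕 P₂
  inv : ∀ g ∈ H, ∀ P ≤ H, 𝓕 P → 𝓕 (cj g P)

/-- The norm from the index `p` subgroup `A₀` to `Q` maps the fixed points of `A₀` in `β` into `U`. -/
def Kill (p : ℕ) (Q A₀ : Subgroup G) (β U : AddSubgroup B) : Prop :=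
  ∀ u ∈ β, (∀ g ∈ A₀, g • u = u) → ∀ a ∈ Q, a ∉ A₀ → (∑ i ∈ Finset.range p, a ^ i • u) ∈ U

/-- Type G: index `p` subgroups over `Y` have the same fixed points. -/
def TG (p : ℕ) (Y : Subgroup G) (β : AddSubgroup B) (Q : Subgroup G) : Prop :=
  ∀ A₀, Y ≤ A₀ → A₀ ≤ Q → A₀.relIndex Q = p → Fx β A₀ ≤ Fx β Q

/-- Type T: a transvection group. -/
def TT (p : ℕ) (Y : Subgroup G) (β : AddSubgroup B) (Q : Subgroup G) : Prop :=
  Y.relIndex Q = p ∧ (Fx β Q).relIndex β = p

/-- The family `𝒬` of the local theorem. -/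
structure QF (p : ℕ) (H Y : Subgroup G) (W : Set Ω) (β : AddSubgroup B) (𝒬 : Subgroup G → Prop) : Prop where
  le : Y ≤ H
  norm : H ≤ normalizer (Y : Set G)
  fixW : ∀ g ∈ Y, ∀ y ∈ W, g • y = y
  fixβ : ∀ g ∈ Y, ∀ u ∈ β, g • u = u
  up : ∀ P P', Y ≤ P → P ≤ P' → P' ≤ H → IsPGroup p P' → 𝒬 P → 𝒬 P'
  inv : ∀ g ∈ H, ∀ P ≤ H, 𝒬 P → 𝒬 (cj g P)
  ex : ∀ P, Y ≤ P → P ≤ H → IsPGroup p P → 𝒬 P →
    ∃ Q, Y ≤ Q ∧ Q ≤ P ∧ 𝒬 Q ∧ (TG p Y β Q ∨ TT p Y β Q)

/-- The subgroup generated by the norms to `Q` from its index `p` subgroups over `Y` (on elements of order `p`). -/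
def Nm (p : ℕ) (Y : Subgroup G) (β : AddSubgroup B) (Q : Subgroup G) : AddSubgroup B :=
  AddSubgroup.closure {v | ∃ A₀ u a, Y ≤ A₀ ∧ A₀ ≤ Q ∧ A₀.relIndex Q = p ∧ u ∈ β ∧ p • u = 0 ∧
    (∀ g ∈ A₀, g • u = u) ∧ a ∈ Q ∧ a ∉ A₀ ∧ v = ∑ i ∈ Finset.range p, a ^ i • u}

/-- The error system of the local theorem. -/
def kk (p : ℕ) (Y : Subgroup G) (β : AddSubgroup B) (𝒬 : Subgroup G → Prop) (P : Subgroup G) : AddSubgroup B :=
  β ⊓ ⨅ Q : {Q : Subgroup G // Y ≤ Q ∧ Q ≤ P ∧ 𝒬 Q}, Nm p Y β Q.1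

/-- A coefficient system indexed by the `p`-subgroups of a family. -/
structure GSys (p : ℕ) (𝓕 : Subgroup G → Prop) (b a : Subgroup G → AddSubgroup B) : Prop where
  fam : Fam p ⊤ 𝓕
  le : ∀ P : Subgroup G, IsPGroup p P → 𝓕 P → a P ≤ b P
  anti_a : ∀ P Q : Subgroup G, P ≤ Q → IsPGroup p Q → 𝓕 P → 𝓕 Q → a Q ≤ a P
  anti_b : ∀ P Q : Subgroup G, P ≤ Q → IsPGroup p Q → 𝓕 P → 𝓕 Q → b Q ≤ b P
  smul_a : ∀ (g : G) (P : Subgroup G), IsPGroup p P → 𝓕 P → ∀ u ∈ a P, g • u ∈ a (cj g P)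
  smul_b : ∀ (g : G) (P : Subgroup G), IsPGroup p P → 𝓕 P → ∀ u ∈ b P, g • u ∈ b (cj g P)
  triv : ∀ P : Subgroup G, IsPGroup p P → 𝓕 P → ∀ g ∈ P, ∀ u ∈ b P, g • u - u ∈ a P
  tor : ∀ P : Subgroup G, IsPGroup p P → 𝓕 P → ∃ e : ℕ, ∀ u ∈ b P, p ^ e • u ∈ a P

/-- Exactness for a system indexed by subgroups, on the `G`-set `Ω`. -/
def GEx (Ω : Type*) [MulAction G Ω] (𝓕 : Subgroup G → Prop) (b a : Subgroup G → AddSubgroup B) (m : ℕ) :
    Prop :=
  Ex (⊤ : Subgroup G) (LR ⊤ (Set.univ : Set Ω) 𝓕) (fun l => b (St ⊤ l)) (fun l => a (St ⊤ l)) m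

end Core

section Thompson

variable {G : Type*} [Group G]

/-- `P` is `p`-centric. -/
def Cen (p : ℕ) (P : Subgroup G) : Prop :=
  ∀ R : Subgroup G, R ≤ centralizer (P : Set G) → IsPGroup p R → R ≤ P

/-- The largest order of an abelian subgroup of `P`. -/
noncomputable def dd (P : Subgroup G) : ℕ :=
  sSup {n | ∃ A : Subgroup G, A ≤ P ∧ IsMulCommutative A ∧ Nat.card A = n}

/-- `A` is an abelian subgroup of `P` of largest order. -/
def MA (P A : Subgroup G) : Prop := A ≤ P ∧ IsMulCommutative A ∧ Nat.card A = dd P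

/-- The Thompson subgroup. -/
def JJ (P : Subgroup G) : Subgroup G := sSup {A | MA P A}

/-- The centre of `P` as a subgroup of `G`. -/
def Zc (P : Subgroup G) : Subgroup G := P ⊓ centralizer (P : Set G)

instance (P : Subgroup G) : IsMulCommutative (Zc P) :=
  ⟨⟨fun a b => Subtype.ext ((mem_centralizer_iff.1 a.2.2 b b.2.1).symm)⟩⟩

instance (P : Subgroup G) : CommGroup (Zc P) :=
  { (inferInstance : Group (Zc P)) with mul_comm := fun a b => mul_comm' a b }

/-- Integer valued functions on `G`, with the conjugation action. -/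
def ZB (G : Type*) : Type _ := G → ℤ

instance : AddCommGroup (ZB G) := inferInstanceAs (AddCommGroup (G → ℤ))

instance : DistribMulAction G (ZB G) where
  smul g u := fun x => u (g⁻¹ * x * g)
  one_smul u := funext fun x => show u (1⁻¹ * x * 1) = u x by simp
  mul_smul g h u := funext fun x =>
    show u ((g * h)⁻¹ * x * (g * h)) = u (h⁻¹ * (g⁻¹ * x * g) * h) by simp [mul_assoc]
  smul_zero _ := rfl
  smul_add _ _ _ := rfl

theorem ZB.smul_apply (g : G) (u : ZB G) (x : G) : (g • u) x = u (g⁻¹ * x * g) := rfl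

/-- Functions supported on the centre of `P`. -/
def zb (P : Subgroup G) : AddSubgroup (ZB G) where
  carrier := {u | ∀ x, x ∉ Zc P → u x = 0}
  zero_mem' := fun _ _ => rfl
  add_mem' := fun {u v} hu hv x hx => show u x + v x = 0 by rw [hu x hx, hv x hx, add_zero]
  neg_mem' := fun {u} hu x hx => show -u x = 0 by rw [hu x hx, neg_zero]

variable [Finite G]

/-- The element `∏ x ^ u x` of the centre of `P`. -/
noncomputable def val0 (P : Subgroup G) (u : ZB G) : Zc P :=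
  haveI := Fintype.ofFinite (Zc P)
  ∏ x : Zc P, x ^ u x

/-- The element `∏ x ^ u x` of the centre of `P`, in `G`. -/
noncomputable def val (P : Subgroup G) (u : ZB G) : G := val0 P u

theorem val_zero (P : Subgroup G) : val P 0 = 1 := by
  have : ∀ x : Zc P, x ^ (0 : ZB G) x = 1 := fun x => zpow_zero x
  simp [val, val0, this]

theorem val_add (P : Subgroup G) (u v : ZB G) : val P (u + v) = val P u * val P v := by
  have : ∀ x : Zc P, x ^ (u + v) x = x ^ u x * x ^ v x := fun x => zpow_add x _ _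
  simp only [val, val0, this, Finset.prod_mul_distrib, coe_mul]

theorem val_neg (P : Subgroup G) (u : ZB G) : val P (-u) = (val P u)⁻¹ := by
  rw [eq_inv_iff_mul_eq_one, ← val_add, neg_add_cancel, val_zero]

/-- The functions supported on `Z(P)` whose value lies in `T`. -/
def zq (T P : Subgroup G) : AddSubgroup (ZB G) where
  carrier := {u | u ∈ zb P ∧ val P u ∈ T}
  zero_mem' := ⟨(zb P).zero_mem, by rw [val_zero]; exact T.one_mem⟩
  add_mem' := fun {u v} hu hv => ⟨(zb P).add_mem hu.1 hv.1, by rw [val_add]; exact T.mul_mem hu.2 hv.2⟩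
  neg_mem' := fun {u} hu => ⟨(zb P).neg_mem hu.1, by rw [val_neg]; exact T.inv_mem hu.2⟩

end Thompson

section Ext

variable {G : Type*} [Group G] {V : Type*} [AddCommGroup V]

/-- `e` embeds the additive group `V` of `p`-power exponent into the centre of `G`, with image `A`. -/
structure Cext (p : ℕ) (e : V → G) (A : Subgroup G) : Prop where
  add : ∀ v w, e (v + w) = e v * e w
  inj : Function.Injective e
  cen : ∀ v g, g * e v = e v * g
  mem : ∀ g, g ∈ A ↔ ∃ v, e v = g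
  tor : ∃ k : ℕ, ∀ v : V, p ^ k • v = 0

/-- `V`-valued functions on `G`, with the translation action. -/
def FB (G V : Type*) : Type _ := G → V

instance : AddCommGroup (FB G V) := inferInstanceAs (AddCommGroup (G → V))

instance : DistribMulAction G (FB G V) where
  smul g f := fun u => f (g⁻¹ * u)
  one_smul f := funext fun u => show f (1⁻¹ * u) = f u by simp
  mul_smul g h f := funext fun u => show f ((g * h)⁻¹ * u) = f (h⁻¹ * (g⁻¹ * u)) by simp [mul_assoc]
  smul_zero _ := rfl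
  smul_add _ _ _ := rfl

theorem FB.smul_apply (g : G) (f : FB G V) (u : G) : (g • f) u = f (g⁻¹ * u) := rfl

/-- The homomorphism `P → V` represented by `f`. -/
def gam (f : FB G V) (x : G) : V := f x - f 1

/-- Constant functions. -/
def cst (G V : Type*) [Group G] [AddCommGroup V] : AddSubgroup (FB G V) where
  carrier := {f | ∀ u, f u = f 1}
  zero_mem' := fun _ => rfl
  add_mem' := fun {f g} hf hg u => show f u + g u = f 1 + g 1 by rw [hf u, hg u]
  neg_mem' := fun {f} hf u => show -f u = -f 1 by rw [hf u]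

/-- `A`-invariant functions that represent a homomorphism `P → V`. -/
def bG (A P : Subgroup G) : AddSubgroup (FB G V) where
  carrier := {f | (∀ a ∈ A, ∀ u, f (a * u) = f u) ∧ ∀ x ∈ P, ∀ u, f (x * u) = f u + gam f x}
  zero_mem' := ⟨fun _ _ _ => rfl, fun x _ u => show (0 : V) = 0 + (0 - 0) by simp⟩
  add_mem' := fun {f g} hf hg => ⟨fun a ha u => show f (a * u) + g (a * u) = f u + g u by
      rw [hf.1 a ha, hg.1 a ha], fun x hx u =>
    show f (x * u) + g (x * u) = f u + g u + (f x + g x - (f 1 + g 1)) by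
      rw [hf.2 x hx, hg.2 x hx, gam, gam]; abel⟩
  neg_mem' := fun {f} hf => ⟨fun a ha u => show -f (a * u) = -f u by rw [hf.1 a ha], fun x hx u =>
    show -f (x * u) = -f u + (-f x - -f 1) by rw [hf.2 x hx, gam]; abel⟩

/-- Functions invariant under `A` and `P` (they represent the trivial homomorphism). -/
def aG (A P : Subgroup G) : AddSubgroup (FB G V) where
  carrier := {f | (∀ a ∈ A, ∀ u, f (a * u) = f u) ∧ ∀ x ∈ P, ∀ u, f (x * u) = f u}
  zero_mem' := ⟨fun _ _ _ => rfl, fun _ _ _ => rfl⟩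
  add_mem' := fun {f g} hf hg => ⟨fun a ha u => show f (a * u) + g (a * u) = f u + g u by
      rw [hf.1 a ha, hg.1 a ha], fun x hx u => show f (x * u) + g (x * u) = f u + g u by
      rw [hf.2 x hx, hg.2 x hx]⟩
  neg_mem' := fun {f} hf => ⟨fun a ha u => show -f (a * u) = -f u by rw [hf.1 a ha], fun x hx u =>
    show -f (x * u) = -f u by rw [hf.2 x hx]⟩

theorem gam_add (f g : FB G V) (x : G) : gam (f + g) x = gam f x + gam g x :=
  show f x + g x - (f 1 + g 1) = f x - f 1 + (g x - g 1) by abel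

theorem gam_neg (f : FB G V) (x : G) : gam (-f) x = -gam f x :=
  show -f x - -f 1 = -(f x - f 1) by abel

theorem gam_zero (x : G) : gam (0 : FB G V) x = 0 := show (0 : V) - 0 = 0 from sub_zero 0

theorem Cext.zero {p : ℕ} {e : V → G} {A : Subgroup G} (h : Cext p e A) : e 0 = 1 := by
  have := h.add 0 0
  rw [add_zero] at this
  exact mul_eq_left.1 this.symm

theorem Cext.neg {p : ℕ} {e : V → G} {A : Subgroup G} (h : Cext p e A) (v : V) : e (-v) = (e v)⁻¹ := by
  rw [eq_inv_iff_mul_eq_one, ← h.add, neg_add_cancel, h.zero]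

/-- The functions representing a homomorphism `γ` such that `x ↦ x e(γ x)` is a conjugation in `G`. -/
def kG {p : ℕ} {e : V → G} {A : Subgroup G} (h : Cext p e A) (P : Subgroup G) : AddSubgroup (FB G V) where
  carrier := {f | f ∈ bG A P ∧ ∃ g : G, ∀ x ∈ P, g * x * g⁻¹ = x * e (gam f x)}
  zero_mem' := ⟨(bG A P).zero_mem, 1, fun x _ => by rw [gam_zero, h.zero]; simp⟩
  add_mem' := fun {f f'} hf hf' => ⟨(bG A P).add_mem hf.1 hf'.1, by
    obtain ⟨g, hg⟩ := hf.2
    obtain ⟨g', hg'⟩ := hf'.2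
    refine ⟨g * g', fun x hx => ?_⟩
    calc g * g' * x * (g * g')⁻¹ = g * (g' * x * g'⁻¹) * g⁻¹ := by group
      _ = g * x * (e (gam f' x) * g⁻¹) := by rw [hg' x hx]; group
      _ = g * x * g⁻¹ * e (gam f' x) := by rw [← h.cen]; group
      _ = _ := by rw [hg x hx, gam_add, h.add, mul_assoc]⟩
  neg_mem' := fun {f} hf => ⟨(bG A P).neg_mem hf.1, by
    obtain ⟨g, hg⟩ := hf.2
    refine ⟨g⁻¹, fun x hx => ?_⟩
    have h1 : g⁻¹ * (x * e (gam f x)) * g = x := by rw [← hg x hx]; group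
    rw [gam_neg, h.neg, inv_inv, eq_mul_inv_iff_mul_eq]
    calc g⁻¹ * x * g * e (gam f x) = g⁻¹ * x * (g * e (gam f x)) := by group
      _ = g⁻¹ * (x * e (gam f x)) * g := by rw [h.cen]; group
      _ = x := h1⟩

end Ext

end CfsgLib.MPZ
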