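import Mathlib
import Cfsg.Agent.Lib.MPZ.Defs

set_option autoImplicit false

namespace CfsgLib.MPZ

open Subgroup CfsgLib.Fusion

/-! MPZ package CORE: the coboundary, lists, stabilisers, cochains. -/

section D

variable {Ω : Type*} {B : Type*} [AddCommGroup B]

theorem d_nil (ξ : List Ω → B) : d ξ [] = 0 := rfl

theorem d_cons (ξ : List Ω → B) (y : Ω) (l : List Ω) :
    d ξ (y :: l) = ξ l - d (fun l' => ξ (y :: l')) l := rfl

theorem d_map {B' : Type*} [AddCommGroup B'] (f : B →+ B') (ξ : List Ω → B) (l : List Ω) :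
    d (fun l => f (ξ l)) l = f (d ξ l) := by
  induction l generalizing ξ with
  | nil => exact (map_zero f).symm
  | cons y l ih => rw [d_cons, d_cons, map_sub, ih fun l' => ξ (y :: l')]

theorem d_zero (l : List Ω) : d (fun _ => (0 : B)) l = 0 := by
  induction l with
  | nil => rfl
  | cons y l ih => rw [d_cons, ih, sub_zero]

theorem d_add (ξ η : List Ω → B) (l : List Ω) : d (fun l => ξ l + η l) l = d ξ l + d η l := by
  induction l generalizing ξ η with
  | nil => exact (add_zero 0).symm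
  | cons y l ih => rw [d_cons, d_cons, d_cons, ih (fun l' => ξ (y :: l')) fun l' => η (y :: l')]; abel

theorem d_neg (ξ : List Ω → B) (l : List Ω) : d (fun l => -ξ l) l = -d ξ l := d_map (negAddMonoidHom : B →+ B) ξ l

theorem d_sub (ξ η : List Ω → B) (l : List Ω) : d (fun l => ξ l - η l) l = d ξ l - d η l := by
  simp only [sub_eq_add_neg, d_add, d_neg]

theorem d_nsmul (n : ℕ) (ξ : List Ω → B) (l : List Ω) : d (fun l => n • ξ l) l = n • d ξ l := d_map (nsmulAddMonoidHom n : B →+ B) ξ l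

theorem d_sum {ι : Type*} (s : Finset ι) (ξ : ι → List Ω → B) (l : List Ω) :
    d (fun l => ∑ i ∈ s, ξ i l) l = ∑ i ∈ s, d (ξ i) l := by
  classical
  induction s using Finset.induction_on with
  | empty => simpa using d_zero l
  | insert i s hi ih => simp only [Finset.sum_insert hi, d_add, ih]

theorem d_d (ξ : List Ω → B) (l : List Ω) : d (d ξ) l = 0 := by
  induction l generalizing ξ with
  | nil => rfl
  | cons y l ih =>
    rw [d_cons]
    simp only [d_cons]
    rw [d_sub, ih, sub_zero, sub_self]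

theorem d_mem (U : AddSubgroup B) {ξ : List Ω → B} {l : List Ω}
    (h : ∀ l', l' ⊆ l → l'.length + 1 = l.length → ξ l' ∈ U) : d ξ l ∈ U := by
  induction l generalizing ξ with
  | nil => exact U.zero_mem
  | cons y l ih =>
    exact U.sub_mem (h l (List.subset_cons_self y l) rfl) (ih fun l' h1 h2 =>
      h _ (List.cons_subset_cons y h1) (by simpa using h2))

theorem d_congr {ξ η : List Ω → B} {l : List Ω}
    (h : ∀ l', l' ⊆ l → l'.length + 1 = l.length → ξ l' = η l') : d ξ l = d η l := by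
  rw [← sub_eq_zero, ← d_sub]
  exact d_mem ⊥ fun l' h1 h2 => sub_eq_zero.2 (h l' h1 h2)

theorem d_cone (O : Finset Ω) (ξ : List Ω → B) (l : List Ω) :
    d (fun l => ∑ y ∈ O, ξ (y :: l)) l = O.card • ξ l - ∑ y ∈ O, d ξ (y :: l) := by
  simp only [d_cons, Finset.sum_sub_distrib, Finset.sum_const, d_sum]
  abel

theorem d_one (ξ : List Ω → B) (x : Ω) : d ξ [x] = ξ [] := sub_zero _

theorem d_two (ξ : List Ω → B) (x y : Ω) : d ξ [x, y] = ξ [y] - ξ [x] := by simp only [d_cons, d_nil, sub_zero]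

theorem d_three (ξ : List Ω → B) (x y z : Ω) : d ξ [x, y, z] = ξ [y, z] - ξ [x, z] + ξ [x, y] := by simp only [d_cons, d_nil, sub_zero]; abel

open Classical in
/-- The coboundary cut off outside `R`. -/
noncomputable def dR (R : List Ω → Prop) (η : List Ω → B) (l : List Ω) : B := if R l then d η l else 0

/-- The part of length `m`. -/
def trunc (m : ℕ) (ξ : List Ω → B) (l : List Ω) : B := if l.length = m then ξ l else 0

theorem dR_pos {R : List Ω → Prop} (η : List Ω → B) {l : List Ω} (h : R l) : dR R η l = d η l := if_pos h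

theorem dR_neg {R : List Ω → Prop} (η : List Ω → B) {l : List Ω} (h : ¬ R l) : dR R η l = 0 := if_neg h

theorem trunc_pos {m : ℕ} (ξ : List Ω → B) {l : List Ω} (h : l.length = m) : trunc m ξ l = ξ l := if_pos h

theorem trunc_neg {m : ℕ} (ξ : List Ω → B) {l : List Ω} (h : l.length ≠ m) : trunc m ξ l = 0 := if_neg h

theorem d_trunc {m : ℕ} (ξ : List Ω → B) {l : List Ω} (h : l.length = m + 1) :
    d (trunc m ξ) l = d ξ l := d_congr fun l' _ h2 => trunc_pos ξ (by omega)

theorem d_dR {R : List Ω → Prop} (cvx : ∀ l l' l'', l ⊆ l' → l' ⊆ l'' → R l → R l'' → R l')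
    {η : List Ω → B} (h0 : ∀ l, ¬ R l → η l = 0) {l : List Ω} (hl : R l) : d (dR R η) l = 0 := by
  rw [← d_d η l]
  refine d_congr fun l' h1 _ => ?_
  by_cases h : R l'
  · exact dR_pos η h
  · rw [dR_neg η h]
    exact (d_mem ⊥ fun l'' h2 _ => h0 l'' fun h3 => h (cvx _ _ _ h2 h1 h3 hl)).symm

end D

section Cj

variable {G : Type*} [Group G] {p : ℕ}

theorem mem_cj {g x : G} {P : Subgroup G} : x ∈ cj g P ↔ g⁻¹ * x * g ∈ P := 
  ⟨fun ⟨y, hy, e⟩ => by rw [← e]; simpa [mul_assoc] using hy, fun h => ⟨_, h, by simp [mul_assoc]⟩⟩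

theorem conj_mem_cj {g x : G} {P : Subgroup G} : g * x * g⁻¹ ∈ cj g P ↔ x ∈ P := by simp [mem_cj, mul_assoc]

theorem cj_one (P : Subgroup G) : cj 1 P = P := by ext x; simp [mem_cj]

theorem cj_mul (g h : G) (P : Subgroup G) : cj (g * h) P = cj g (cj h P) := by ext x; simp [mem_cj, mul_assoc]

theorem cj_eq_iff {g : G} {P : Subgroup G} : cj g P = P ↔ g ∈ normalizer (P : Set G) := by
  rw [mem_normalizer_iff, SetLike.ext_iff]
  exact ⟨fun h x => by rw [← h (g * x * g⁻¹), conj_mem_cj], fun h x => by rw [mem_cj, h]; simp [mul_assoc]⟩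

theorem cj_mono (g : G) {P Q : Subgroup G} (h : P ≤ Q) : cj g P ≤ cj g Q := map_mono h

theorem cj_le_cj_iff (g : G) {P Q : Subgroup G} : cj g P ≤ cj g Q ↔ P ≤ Q := map_le_map_iff_of_injective (MulAut.conj g).injective

theorem cj_inj (g : G) {P Q : Subgroup G} : cj g P = cj g Q ↔ P = Q := (map_injective (MulAut.conj g).injective).eq_iff

theorem cj_le {g : G} {H P : Subgroup G} (hg : g ∈ H) (h : P ≤ H) : cj g P ≤ H := fun x hx => by
  have := mul_mem (mul_mem hg (h (mem_cj.1 hx))) (inv_mem hg)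
  simpa [mul_assoc] using this

theorem card_cj (g : G) (P : Subgroup G) : Nat.card (cj g P) = Nat.card P := card_map_of_injective (MulAut.conj g).injective

theorem relIndex_cj (g : G) (P Q : Subgroup G) : (cj g P).relIndex (cj g Q) = P.relIndex Q := relIndex_map_map_of_injective _ _ (MulAut.conj g).injective

theorem isPGroup_cj (g : G) {P : Subgroup G} (h : IsPGroup p P) : IsPGroup p (cj g P) := h.map _

/-- Orbit representatives for an action given by a function. -/
theorem exists_rep {X : Type*} (H : Subgroup G) (act : G → X → X) (h1 : ∀ x, act 1 x = x)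
    (hmul : ∀ g h x, act (g * h) x = act g (act h x)) :
    ∃ (rep : X → X) (γ : X → G), (∀ x, γ x ∈ H) ∧ (∀ x, act (γ x) (rep x) = x) ∧
      ∀ h ∈ H, ∀ x, rep (act h x) = rep x := by
  let s : Setoid X := ⟨fun x y => ∃ h ∈ H, act h x = y, fun x => ⟨1, one_mem _, h1 x⟩,
    fun ⟨h, hh, e⟩ => ⟨h⁻¹, inv_mem hh, by rw [← e, ← hmul, inv_mul_cancel, h1]⟩,
    fun ⟨h, hh, e⟩ ⟨k, hk, e'⟩ => ⟨k * h, mul_mem hk hh, by rw [hmul, e, e']⟩⟩
  choose γ h2 h3 using fun x => (Quotient.mk_out (s := s) x : ∃ h ∈ H, act h _ = x)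
  exact ⟨fun x => (Quotient.mk s x).out, γ, h2, h3, fun h hh x =>
    congrArg Quotient.out (Quotient.sound (s := s) ⟨h, hh, rfl⟩).symm⟩

end Cj

section Lists

variable {G : Type*} [Group G] {Ω : Type*} [MulAction G Ω] {H K : Subgroup G}

theorem sm_nil (g : G) : sm g ([] : List Ω) = [] := rfl

theorem sm_cons (g : G) (y : Ω) (l : List Ω) : sm g (y :: l) = g • y :: sm g l := rfl

theorem sm_one (l : List Ω) : sm (1 : G) l = l := by simp [sm]

theorem sm_mul (g h : G) (l : List Ω) : sm (g * h) l = sm g (sm h l) := by simp [sm, mul_smul]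

theorem sm_inv_sm (g : G) (l : List Ω) : sm g⁻¹ (sm g l) = l := by rw [← sm_mul, inv_mul_cancel, sm_one]

theorem sm_sm_inv (g : G) (l : List Ω) : sm g (sm g⁻¹ l) = l := by rw [← sm_mul, mul_inv_cancel, sm_one]

theorem length_sm (g : G) (l : List Ω) : (sm g l).length = l.length := List.length_map _

theorem mem_sm {g : G} {l : List Ω} {y : Ω} : y ∈ sm g l ↔ g⁻¹ • y ∈ l := 
  List.mem_map.trans ⟨fun ⟨x, hx, e⟩ => by rwa [← e, inv_smul_smul], fun h => ⟨_, h, smul_inv_smul g y⟩⟩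

theorem sm_subset (g : G) {l l' : List Ω} (h : l ⊆ l') : sm g l ⊆ sm g l' := List.map_subset _ h

theorem sm_eq_nil {g : G} {l : List Ω} : sm g l = [] ↔ l = [] := List.map_eq_nil_iff

theorem sm_eq_self {g : G} {l : List Ω} : sm g l = l ↔ ∀ y ∈ l, g • y = y := by
  induction l with
  | nil => simp [sm]
  | cons y l ih => rw [sm_cons, List.cons.injEq, ih, List.forall_mem_cons]

theorem mem_St {g : G} {l : List Ω} : g ∈ St H l ↔ g ∈ H ∧ ∀ y ∈ l, g • y = y := Iff.rfl

theorem St_le (H : Subgroup G) (l : List Ω) : St H l ≤ H := fun _ h => h.1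

theorem St_anti (H : Subgroup G) {l l' : List Ω} (h : l ⊆ l') : St H l' ≤ St H l := fun _ hg => ⟨hg.1, fun y hy => hg.2 y (h hy)⟩

theorem St_mono (h : H ≤ K) (l : List Ω) : St H l ≤ St K l := fun _ hg => ⟨h hg.1, hg.2⟩

theorem St_nil (H : Subgroup G) : St H ([] : List Ω) = H := by ext g; simp [mem_St]

theorem St_inf (H K : Subgroup G) (l : List Ω) : St (H ⊓ K) l = St H l ⊓ K := by ext g; simp only [mem_St, mem_inf]; tauto

theorem St_eq_inf (h : K ≤ H) (l : List Ω) : St K l = St H l ⊓ K := by rw [← St_inf, inf_eq_right.2 h]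

theorem St_sm {g : G} (hg : g ∈ H) (l : List Ω) : St H (sm g l) = cj g (St H l) := by
  ext x
  rw [mem_cj, mem_St, mem_St, mul_mem_cancel_right hg, mul_mem_cancel_left (inv_mem hg)]
  refine and_congr_right fun _ => ⟨fun h y hy => ?_, fun h y hy => ?_⟩
  · rw [mul_smul, mul_smul, h _ (mem_sm.2 (by rwa [inv_smul_smul])), inv_smul_smul]
  · have := h _ (mem_sm.1 hy)
    rwa [mul_smul, mul_smul, smul_inv_smul, smul_left_cancel_iff] at this

theorem mem_St_cons {g : G} {y : Ω} {l : List Ω} : g ∈ St H (y :: l) ↔ g ∈ St H l ∧ g • y = y := by simp only [mem_St, List.forall_mem_cons]; tauto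

variable {B : Type*} [AddCommGroup B]

theorem d_sm (g : G) (ξ : List Ω → B) (l : List Ω) : d (fun l => ξ (sm g l)) l = d ξ (sm g l) := by
  induction l generalizing ξ with
  | nil => rfl
  | cons y l ih => rw [sm_cons, d_cons, d_cons, ← ih]; rfl

variable [DistribMulAction G B]

theorem d_smul (g : G) (ξ : List Ω → B) (l : List Ω) : d (fun l => g • ξ l) l = g • d ξ l := d_map (DistribSMul.toAddMonoidHom B g) ξ l

theorem mem_Fx {β : AddSubgroup B} {P : Subgroup G} {u : B} :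
    u ∈ Fx β P ↔ u ∈ β ∧ ∀ g ∈ P, g • u = u := Iff.rfl

theorem mem_Fq {β α : AddSubgroup B} {P : Subgroup G} {u : B} :
    u ∈ Fq β α P ↔ u ∈ β ∧ ∀ g ∈ P, g • u - u ∈ α := Iff.rfl

theorem Fq_bot (β : AddSubgroup B) (P : Subgroup G) : Fq β ⊥ P = Fx β P := by ext u; simp [mem_Fq, mem_Fx, sub_eq_zero]

variable {R : List Ω → Prop} {a b c a' b' : List Ω → AddSubgroup B} {ξ η : List Ω → B}

theorem coch_zero (H : Subgroup G) (R : List Ω → Prop) (b a : List Ω → AddSubgroup B) :
    Coch H R b a (fun _ => 0) := ⟨fun _ _ => zero_mem _, fun _ _ => rfl, fun _ _ _ _ => by simp⟩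

theorem Coch.add (h : Coch H R b a ξ) (h' : Coch H R b a η) : Coch H R b a (fun l => ξ l + η l) := 
  ⟨fun l hl => add_mem (h.mem l hl) (h'.mem l hl), fun l hl => by rw [h.zero l hl, h'.zero l hl, add_zero],
    fun g hg l hl => by convert add_mem (h.eqv g hg l hl) (h'.eqv g hg l hl) using 1; rw [smul_add]; abel⟩

theorem Coch.neg (h : Coch H R b a ξ) : Coch H R b a (fun l => -ξ l) := 
  ⟨fun l hl => neg_mem (h.mem l hl), fun l hl => by rw [h.zero l hl, neg_zero],
    fun g hg l hl => by convert neg_mem (h.eqv g hg l hl) using 1; rw [smul_neg]; abel⟩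

theorem Coch.sub (h : Coch H R b a ξ) (h' : Coch H R b a η) : Coch H R b a (fun l => ξ l - η l) := by simpa only [sub_eq_add_neg] using h.add h'.neg

theorem Coch.trunc (h : Coch H R b a ξ) (m : ℕ) : Coch H R b a (trunc m ξ) := by
  refine ⟨fun l hl => ?_, fun l hl => ?_, fun g hg l hl => ?_⟩ <;> by_cases e : l.length = m
  · rw [trunc_pos ξ e]; exact h.mem l hl
  · rw [trunc_neg ξ e]; exact zero_mem _
  · rw [trunc_pos ξ e, h.zero l hl]
  · exact trunc_neg ξ e
  · rw [trunc_pos ξ e, trunc_pos ξ ((length_sm g l).trans e)]; exact h.eqv g hg l hl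
  · rw [trunc_neg ξ e, trunc_neg ξ ((length_sm g l).trans_ne e), smul_zero, sub_zero]; exact zero_mem _

theorem Coch.mono (h : Coch H R b a ξ) (inv : ∀ g ∈ H, ∀ l, R l → R (sm g l)) (hb : ∀ l, R l → ξ l ∈ b' l)
    (ha : ∀ l, R l → a l ≤ a' l) : Coch H R b' a' ξ := ⟨hb, h.zero, fun g hg l hl => ha _ (inv g hg l hl) (h.eqv g hg l hl)⟩

/-- With `a = ⊥` cochains are equivariant on all lists. -/
theorem Coch.eqv_bot (h : Coch H R b (fun _ => ⊥) ξ) (inv : ∀ g ∈ H, ∀ l, R l → R (sm g l)) {g : G} (hg : g ∈ H)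
    (l : List Ω) : ξ (sm g l) = g • ξ l := by
  by_cases hl : R l
  · exact sub_eq_zero.1 (h.eqv g hg l hl)
  · rw [h.zero l hl, smul_zero, h.zero _ fun e => hl (sm_inv_sm g l ▸ inv _ (inv_mem hg) _ e)]

theorem Sys.d_mem_a (S : Sys H R b a) (h0 : ∀ l, ¬ R l → ξ l = 0) {l : List Ω} (hl : R l)
    (h : ∀ l', R l' → l' ⊆ l → l'.length + 1 = l.length → ξ l' ∈ a l') : d ξ l ∈ a l := 
  d_mem _ fun l' h1 h2 => by
    by_cases e : R l'
    · exact S.mono_a l' l e hl h1 (h l' e h1 h2)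
    · rw [h0 l' e]; exact zero_mem _

theorem Sys.d_mem_b (S : Sys H R b a) (h0 : ∀ l, ¬ R l → ξ l = 0) {l : List Ω} (hl : R l)
    (h : ∀ l', R l' → l' ⊆ l → l'.length + 1 = l.length → ξ l' ∈ b l') : d ξ l ∈ b l := 
  d_mem _ fun l' h1 h2 => by
    by_cases e : R l'
    · exact S.mono_b l' l e hl h1 (h l' e h1 h2)
    · rw [h0 l' e]; exact zero_mem _

theorem Coch.dR (h : Coch H R b a η) (S : Sys H R b a) : Coch H R b a (dR R η) := by
  refine ⟨fun l hl => ?_, fun l hl => dR_neg η hl, fun g hg l hl => ?_⟩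
  · rw [dR_pos η hl]; exact S.d_mem_b h.zero hl fun l' e _ _ => h.mem l' e
  · rw [dR_pos η hl, dR_pos η (S.inv g hg l hl), ← d_sm, ← d_smul, ← d_sub]
    refine d_mem _ fun l' h1 _ => ?_
    by_cases e : R l'
    · exact S.mono_a _ _ (S.inv g hg l' e) (S.inv g hg l hl) (sm_subset g h1) (h.eqv g hg l' e)
    · rw [h.zero l' e, smul_zero, h.zero _ fun e' => e (sm_inv_sm g l' ▸ S.inv _ (inv_mem hg) _ e'), sub_zero]
      exact zero_mem _

/-- Cochains of `c / b` lift to cochains of `c / a`. -/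
theorem Coch.lift (h : Coch H R c b η) (S : Sys H R c a) :
    ∃ η', Coch H R c a η' ∧ ∀ l, R l → η' l - η l ∈ b l := by
  classical
  obtain ⟨rep, γ, h1, h2, h3⟩ := exists_rep H (sm (Ω := Ω)) sm_one sm_mul
  have h4 : ∀ l, R l → R (rep l) := fun l hl => by
    have := S.inv _ (inv_mem (h1 l)) l hl
    rwa [(congrArg (sm (γ l)⁻¹) (h2 l)).symm.trans (sm_inv_sm _ _)] at this
  refine ⟨fun l => if R l then γ l • η (rep l) else 0, ⟨fun l hl => ?_, fun l hl => if_neg hl, fun g hg l hl => ?_⟩,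
    fun l hl => ?_⟩
  · have := S.smul_b _ (h1 l) _ (h4 l hl) _ (h.mem _ (h4 l hl))
    rw [h2] at this
    rwa [if_pos hl]
  · have e : sm (γ (sm g l)) (rep l) = sm g l := by rw [← h3 g hg l, h2]
    have := S.smul_a _ (h1 (sm g l)) _ (h4 l hl) _ (S.triv _ (h4 l hl) ((γ (sm g l))⁻¹ * g * γ l)
      ⟨mul_mem (mul_mem (inv_mem (h1 _)) hg) (h1 l), sm_eq_self.1 (by
        rw [sm_mul, sm_mul, h2]; exact (congrArg (sm _) e).symm.trans (sm_inv_sm _ _))⟩ _
      (h.mem _ (h4 l hl)))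
    rw [e, smul_sub, ← mul_smul, ← mul_assoc, ← mul_assoc, mul_inv_cancel, one_mul, mul_smul] at this
    rw [if_pos hl, if_pos (S.inv g hg l hl), h3 g hg, ← neg_sub]
    exact neg_mem this
  · have := neg_mem (h.eqv _ (h1 l) _ (h4 l hl))
    rwa [h2, neg_sub, ← if_pos hl (t := γ l • η (rep l)) (e := 0)] at this

end Lists

end CfsgLib.MPZ
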