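import Mathlib
import Cfsg.Agent.Lib.MPZ.Core

set_option autoImplicit false

namespace CfsgLib.MPZ

open Subgroup CfsgLib.Fusion

/-! MPZ package LES: the long exact sequences, in the form of three implications. -/

variable {G : Type*} [Group G] {Ω : Type*} [MulAction G Ω] {B : Type*} [AddCommGroup B] [DistribMulAction G B]
  {H K : Subgroup G} {R R' R₂ : List Ω → Prop} {a b c a' b' : List Ω → AddSubgroup B} {m : ℕ}

theorem l1 (Sba : Sys H R b a) (Scb : Sys H R c b) (Sca : Sys H R c a) (h1 : Ex H R b a m) (h2 : Ex H R c b m) :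
    Ex H R c a m := fun ξ hξ hd => by
  obtain ⟨η, hη, e1⟩ := h2 ξ (hξ.mono Sca.inv hξ.mem Sba.le) fun l hl e => Sba.le l hl (hd l hl e)
  obtain ⟨η', hη', e2⟩ := hη.lift Sca
  have h3 := (hξ.sub (hη'.dR Sca)).trunc m
  obtain ⟨ζ, hζ, e3⟩ := h1 _ (h3.mono Sca.inv (b' := b) (fun l hl => by
      by_cases e : l.length = m
      · have := sub_mem (e1 l hl e) (Sba.d_mem_b (ξ := fun l => η' l - η l)
          (fun l h => by rw [hη'.zero l h, hη.zero l h, sub_zero]) hl fun l' h _ _ => e2 l' h)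
        rw [d_sub, sub_sub, add_sub_cancel] at this
        rwa [trunc_pos _ e, dR_pos _ hl]
      · rw [trunc_neg _ e]; exact zero_mem _) fun _ _ => le_rfl) fun l hl e => by
    rw [d_trunc _ e, d_sub, d_dR Sca.cvx hη'.zero hl, sub_zero]; exact hd l hl e
  refine ⟨_, hη'.add (hζ.mono Sca.inv (fun l hl => Scb.le l hl (hζ.mem l hl)) fun _ _ => le_rfl), fun l hl e => ?_⟩
  have := e3 l hl e
  rwa [trunc_pos _ e, dR_pos _ hl, sub_sub, ← d_add] at this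

theorem l2 (Sba : Sys H R b a) (Scb : Sys H R c b) (Sca : Sys H R c a) (h1 : Ex H R c a m)
    (h2 : Ex H R b a (m + 1)) : Ex H R c b m := fun ξ hξ hd => by
  obtain ⟨ξ', hξ', e1⟩ := hξ.lift Sca
  have h0 : ∀ l, R l → d ξ' l - d ξ l ∈ b l := fun l hl => by
    rw [← d_sub]
    exact Sba.d_mem_b (fun l h => by rw [hξ'.zero l h, hξ.zero l h, sub_zero]) hl fun l' h _ _ => e1 l' h
  obtain ⟨ζ, hζ, e2⟩ := h2 _ (((hξ'.dR Sca).trunc (m + 1)).mono Sca.inv (b' := b) (fun l hl => by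
      by_cases e : l.length = m + 1
      · rw [trunc_pos _ e, dR_pos _ hl, ← sub_add_cancel (d ξ' l) (d ξ l)]
        exact add_mem (h0 l hl) (hd l hl e)
      · rw [trunc_neg _ e]; exact zero_mem _) fun _ _ => le_rfl) fun l hl e => by
    rw [d_trunc _ e, d_dR Sca.cvx hξ'.zero hl]; exact zero_mem _
  obtain ⟨η, hη, e3⟩ := h1 _ (hξ'.sub (hζ.mono Sca.inv (fun l hl => Scb.le l hl (hζ.mem l hl)) fun _ _ => le_rfl))
    fun l hl e => by
      have := e2 l hl e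
      rwa [trunc_pos _ e, dR_pos _ hl, ← d_sub] at this
  refine ⟨η, hη.mono Sca.inv hη.mem Sba.le, fun l hl e => ?_⟩
  convert sub_mem (add_mem (Sba.le l hl (e3 l hl e)) (hζ.mem l hl)) (e1 l hl) using 1
  abel

theorem l3 (Sba : Sys H R b a) (Scb : Sys H R c b) (Sca : Sys H R c a) (h1 : Ex H R c a m)
    (h2 : ∀ k, k + 1 = m → Ex H R c b k) : Ex H R b a m := fun ξ hξ hd => by
  obtain ⟨η, hη, e1⟩ := h1 ξ (hξ.mono Sca.inv (fun l hl => Scb.le l hl (hξ.mem l hl)) fun _ _ => le_rfl) hd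
  rcases m with _ | k
  · refine ⟨_, coch_zero H R b a, fun l hl e => ?_⟩
    obtain rfl := List.length_eq_zero_iff.1 e
    exact e1 _ hl e
  obtain ⟨ζ, hζ, e2⟩ := h2 k rfl η (hη.mono Sca.inv hη.mem Sba.le) fun l hl e => by
    rw [← sub_sub_cancel (ξ l) (d η l)]
    exact sub_mem (hξ.mem l hl) (Sba.le l hl (e1 l hl e))
  obtain ⟨ζ', hζ', e3⟩ := hζ.lift Sca
  refine ⟨_, ((hη.sub (hζ'.dR Sca)).trunc k).mono Sca.inv (fun l hl => ?_) fun _ _ => le_rfl, fun l hl e => ?_⟩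
  · by_cases e : l.length = k
    · have := sub_mem (e2 l hl e) (Sba.d_mem_b (ξ := fun l => ζ' l - ζ l)
        (fun l h => by rw [hζ'.zero l h, hζ.zero l h, sub_zero]) hl fun l' h _ _ => e3 l' h)
      rw [d_sub, sub_sub, add_sub_cancel] at this
      rwa [trunc_pos _ e, dR_pos _ hl]
    · rw [trunc_neg _ e]; exact zero_mem _
  · rw [d_trunc _ e, d_sub, d_dR Sca.cvx hζ'.zero hl, sub_zero]; exact e1 l hl e

theorem Ex.congr (h : Ex H R b a m) (inv : ∀ g ∈ H, ∀ l, R l → R (sm g l)) (hR : ∀ l, R l ↔ R' l)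
    (hb : ∀ l, R l → b l = b' l) (ha : ∀ l, R l → a l = a' l) : Ex H R' b' a' m := by
  obtain rfl : R = R' := funext fun l => propext (hR l)
  intro ξ hξ hd
  obtain ⟨η, hη, e⟩ := h ξ (hξ.mono inv (fun l hl => hb l hl ▸ hξ.mem l hl) fun l hl => (ha l hl).ge)
    fun l hl e => ha l hl ▸ hd l hl e
  exact ⟨η, hη.mono inv (fun l hl => hb l hl ▸ hη.mem l hl) fun l hl => (ha l hl).le, fun l hl e' => ha l hl ▸ e l hl e'⟩

theorem Sys.congr (S : Sys H R b a) (hR : ∀ l, R l ↔ R' l) (hb : ∀ l, R l → b l = b' l)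
    (ha : ∀ l, R l → a l = a' l) : Sys H R' b' a' := by
  obtain rfl : R = R' := funext fun l => propext (hR l)
  exact ⟨S.cvx, S.inv, fun l h => hb l h ▸ ha l h ▸ S.le l h,
    fun l l' h h' e => ha l h ▸ ha l' h' ▸ S.mono_a l l' h h' e,
    fun l l' h h' e => hb l h ▸ hb l' h' ▸ S.mono_b l l' h h' e,
    fun g hg l h => ha l h ▸ ha _ (S.inv g hg l h) ▸ S.smul_a g hg l h,
    fun g hg l h => hb l h ▸ hb _ (S.inv g hg l h) ▸ S.smul_b g hg l h,
    fun l h => hb l h ▸ ha l h ▸ S.triv l h⟩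

theorem Sys.restrict (S : Sys H R b a) (hK : K ≤ H) (hsub : ∀ l, R' l → R l)
    (cvx : ∀ l l' l'', l ⊆ l' → l' ⊆ l'' → R' l → R' l'' → R' l') (inv : ∀ g ∈ K, ∀ l, R' l → R' (sm g l)) :
    Sys K R' b a := 
  ⟨cvx, inv, fun l h => S.le l (hsub l h), fun l l' h h' => S.mono_a l l' (hsub l h) (hsub l' h'),
    fun l l' h h' => S.mono_b l l' (hsub l h) (hsub l' h'), fun g hg l h => S.smul_a g (hK hg) l (hsub l h),
    fun g hg l h => S.smul_b g (hK hg) l (hsub l h), fun l h g hg => S.triv l (hsub l h) g (St_mono hK l hg)⟩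

theorem shrink (S : Sys H R b a) (hsub : ∀ l, R' l → R l) (inv : ∀ g ∈ H, ∀ l, R' l → R' (sm g l))
    (h : ∀ l, R l → ¬ R' l → b l ≤ a l) : Ex H R b a m ↔ Ex H R' b a m := by
  classical
  have up : ∀ ξ, Coch H R' b a ξ → Coch H R b a ξ := fun ξ hξ =>
    ⟨fun l hl => by
      by_cases e : R' l
      · exact hξ.mem l e
      · rw [hξ.zero l e]; exact zero_mem _, fun l hl => hξ.zero l fun e => hl (hsub l e), fun g hg l hl => by
      by_cases e : R' l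
      · exact hξ.eqv g hg l e
      · rw [hξ.zero l e, smul_zero, hξ.zero _ fun e' => e (sm_inv_sm g l ▸ inv _ (inv_mem hg) _ e'), sub_zero]
        exact zero_mem _⟩
  have dn : ∀ ξ, Coch H R b a ξ → ∃ ξ', Coch H R' b a ξ' ∧ (∀ l, R' l → ξ' l = ξ l) ∧
      ∀ l, R l → d ξ l - d ξ' l ∈ a l := fun ξ hξ =>
    ⟨fun l => if R' l then ξ l else 0, ⟨fun l hl => by rw [if_pos hl]; exact hξ.mem l (hsub l hl), fun l hl => if_neg hl,
      fun g hg l hl => by rw [if_pos hl, if_pos (inv g hg l hl)]; exact hξ.eqv g hg l (hsub l hl)⟩,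
      fun l hl => if_pos hl, fun l hl => by
      rw [← d_sub]
      refine S.d_mem_a (fun l e => by rw [hξ.zero l e, ite_self, sub_zero]) hl fun l' e _ _ => ?_
      by_cases e' : R' l'
      · rw [if_pos e', sub_self]; exact zero_mem _
      · rw [if_neg e', sub_zero]; exact h l' e e' (hξ.mem l' e)⟩
  have db : ∀ ξ, Coch H R b a ξ → ∀ l, R l → d ξ l ∈ b l := fun ξ hξ l hl =>
    S.d_mem_b hξ.zero hl fun l' e _ _ => hξ.mem l' e
  refine ⟨fun hE ξ hξ hd => ?_, fun hE ξ hξ hd => ?_⟩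
  · obtain ⟨η, hη, e1⟩ := hE ξ (up ξ hξ) fun l hl e => by
      by_cases e' : R' l
      exacts [hd l e' e, h l hl e' (db ξ (up ξ hξ) l hl)]
    obtain ⟨η', hη', -, e2⟩ := dn η hη
    exact ⟨η', hη', fun l hl e => by simpa using add_mem (e1 l (hsub l hl) e) (e2 l (hsub l hl))⟩
  · obtain ⟨ξ', hξ', e1, e2⟩ := dn ξ hξ
    obtain ⟨η, hη, e3⟩ := hE ξ' hξ' fun l hl e => by simpa using sub_mem (hd l (hsub l hl) e) (e2 l (hsub l hl))
    refine ⟨η, up η hη, fun l hl e => ?_⟩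
    by_cases e' : R' l
    exacts [e1 l e' ▸ e3 l e' e, h l hl e' (sub_mem (hξ.mem l hl) (db η (up η hη) l hl))]

theorem ex_empty (h : ∀ l, R l → l.length ≠ m) : Ex H R b a m := fun _ _ _ => ⟨_, coch_zero H R b a, fun l hl e => (h l hl e).elim⟩

theorem ex_of_le (h : ∀ l, R l → b l ≤ a l) : Ex H R b a m := fun ξ hξ _ =>
  ⟨_, coch_zero H R b a, fun l hl _ => by rw [d_zero, sub_zero]; exact h l hl (hξ.mem l hl)⟩

/-- `R₂` is an invariant subfamily of `R` closed under faces. -/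
structure Cl (H : Subgroup G) (R R₂ : List Ω → Prop) : Prop where
  sub : ∀ l, R₂ l → R l
  cl : ∀ l l', l ⊆ l' → R l → R₂ l' → R₂ l
  inv : ∀ g ∈ H, ∀ l, R₂ l → R₂ (sm g l)

theorem Sys.cl₂ (S : Sys H R b a) (C : Cl H R R₂) : Sys H R₂ b a := 
  S.restrict le_rfl C.sub (fun l l' l'' h1 h2 h3 h4 => C.cl l' l'' h2 (S.cvx l l' l'' h1 h2 (C.sub l h3) (C.sub _ h4)) h4)
    C.inv

theorem Sys.cl₁ (S : Sys H R b a) (C : Cl H R R₂) : Sys H (fun l => R l ∧ ¬ R₂ l) b a := 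
  S.restrict le_rfl (fun _ h => h.1) (fun l l' l'' h1 h2 h3 h4 =>
    ⟨S.cvx l l' l'' h1 h2 h3.1 h4.1, fun e => h3.2 (C.cl l l' h1 h3.1 e)⟩) fun g hg l h =>
    ⟨S.inv g hg l h.1, fun e => h.2 (sm_inv_sm g l ▸ C.inv _ (inv_mem hg) _ e)⟩

theorem Sys.mid (S : Sys H R b a) (C : Cl H R R₂) : ∃ c, Sys H R c a ∧ Sys H R b c ∧
    (∀ m, Ex H R c a m ↔ Ex H (fun l => R l ∧ ¬ R₂ l) b a m) ∧ ∀ m, Ex H R b c m ↔ Ex H R₂ b a m := by
  classical
  have i2 : ∀ g ∈ H, ∀ l, R₂ (sm g l) ↔ R₂ l := fun g hg l =>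
    ⟨fun e => sm_inv_sm g l ▸ C.inv _ (inv_mem hg) _ e, C.inv g hg l⟩
  obtain ⟨c, c1, c2⟩ : ∃ c : List Ω → AddSubgroup B, (∀ l, R₂ l → c l = a l) ∧ ∀ l, ¬ R₂ l → c l = b l :=
    ⟨fun l => if R₂ l then a l else b l, fun l h => if_pos h, fun l h => if_neg h⟩
  have k1 : ∀ l, R l → a l ≤ c l := fun l hl => by
    by_cases e : R₂ l
    exacts [(c1 l e).ge, (S.le l hl).trans (c2 l e).ge]
  have k2 : ∀ l, R l → c l ≤ b l := fun l hl => by
    by_cases e : R₂ l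
    exacts [(c1 l e).le.trans (S.le l hl), (c2 l e).le]
  have k3 : ∀ l l', R l → R l' → l ⊆ l' → c l ≤ c l' := fun l l' h h' e => by
    by_cases e' : R₂ l'
    · rw [c1 l' e', c1 l (C.cl l l' e h e')]; exact S.mono_a l l' h h' e
    · rw [c2 l' e']; exact (k2 l h).trans (S.mono_b l l' h h' e)
  have k4 : ∀ g ∈ H, ∀ l, R l → ∀ u ∈ c l, g • u ∈ c (sm g l) := fun g hg l h => by
    by_cases e : R₂ l
    · rw [c1 l e, c1 _ (C.inv g hg l e)]; exact S.smul_a g hg l h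
    · rw [c2 l e, c2 _ (mt (i2 g hg l).1 e)]; exact S.smul_b g hg l h
  have S1 : Sys H R c a := ⟨S.cvx, S.inv, k1, S.mono_a, k3, S.smul_a, k4, fun l h g hg u hu => S.triv l h g hg u (k2 l h hu)⟩
  have S2 : Sys H R b c := ⟨S.cvx, S.inv, k2, k3, S.mono_b, k4, S.smul_b, fun l h g hg u hu => k1 l h (S.triv l h g hg u hu)⟩
  refine ⟨c, S1, S2, fun m => (shrink S1 (R' := fun l => R l ∧ ¬ R₂ l) (fun _ h => h.1) (S.cl₁ C).inv fun l h e =>
    (c1 l (by tauto)).le).trans ⟨fun h => h.congr (S.cl₁ C).inv (fun _ => Iff.rfl) (fun l e => c2 l e.2) fun _ _ => rfl,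
      fun h => h.congr (S.cl₁ C).inv (fun _ => Iff.rfl) (fun l e => (c2 l e.2).symm) fun _ _ => rfl⟩,
    fun m => (shrink S2 C.sub C.inv fun l _ e => (c2 l e).ge).trans
      ⟨fun h => h.congr C.inv (fun _ => Iff.rfl) (fun _ _ => rfl) c1,
        fun h => h.congr C.inv (fun _ => Iff.rfl) (fun _ _ => rfl) fun l e => (c1 l e).symm⟩⟩

theorem f1 (S : Sys H R b a) (C : Cl H R R₂) (h1 : Ex H (fun l => R l ∧ ¬ R₂ l) b a m) (h2 : Ex H R₂ b a m) :
    Ex H R b a m := 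
  have ⟨_, S1, S2, e1, e2⟩ := S.mid C
  l1 S1 S2 S ((e1 m).2 h1) ((e2 m).2 h2)

theorem f2 (S : Sys H R b a) (C : Cl H R R₂) (h1 : Ex H R b a m)
    (h2 : Ex H (fun l => R l ∧ ¬ R₂ l) b a (m + 1)) : Ex H R₂ b a m := 
  have ⟨_, S1, S2, e1, e2⟩ := S.mid C
  (e2 m).1 (l2 S1 S2 S h1 ((e1 _).2 h2))

theorem f3 (S : Sys H R b a) (C : Cl H R R₂) (h1 : Ex H R b a m) (h2 : ∀ k, k + 1 = m → Ex H R₂ b a k) :
    Ex H (fun l => R l ∧ ¬ R₂ l) b a m := 
  have ⟨_, S1, S2, e1, e2⟩ := S.mid C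
  (e1 m).1 (l3 S1 S2 S h1 fun k hk => (e2 k).2 (h2 k hk))

theorem ex_ne_iff (S : Sys H R b a) (hm : 2 ≤ m) : Ex H R b a m ↔ Ex H (fun l => l ≠ [] ∧ R l) b a m := by
  have C : Cl H R fun l => l = [] ∧ R l := ⟨fun _ h => h.2, fun l l' e h h' => ⟨List.subset_nil.1 (h'.1 ▸ e), h⟩,
    fun g hg l h => ⟨sm_eq_nil.2 h.1, S.inv g hg l h.2⟩⟩
  have e : (fun l => R l ∧ ¬ (l = [] ∧ R l)) = fun l => l ≠ [] ∧ R l := funext fun l => propext (by tauto)
  have e0 : ∀ k, 1 ≤ k → Ex H (fun l => l = [] ∧ R l) b a k := fun k hk => ex_empty fun l h => by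
    rw [h.1, List.length_nil]; omega
  exact ⟨fun h => e ▸ f3 S C h fun k hk => e0 k (by omega), fun h => f1 S C (e ▸ h) (e0 m (by omega))⟩

end CfsgLib.MPZ
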