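import Mathlib
import Cfsg.Agent.Lib.MPZ.Les

set_option autoImplicit false

namespace CfsgLib.MPZ

open Subgroup CfsgLib.Fusion

/-! MPZ package RED: reduction to the stabilisers of labels. -/

variable {G : Type*} [Group G] {Ω : Type*} [MulAction G Ω] {B : Type*} [AddCommGroup B] [DistribMulAction G B]
  {H : Subgroup G} {R : List Ω → Prop} {a b : List Ω → AddSubgroup B} {m : ℕ}

theorem red1 {L : Type*} (S : Sys H R b a) (act : G → L → L) (h1 : ∀ Y, act 1 Y = Y)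
    (hmul : ∀ g h Y, act (g * h) Y = act g (act h Y)) (j : List Ω → L)
    (hj : ∀ g ∈ H, ∀ l, R l → j (sm g l) = act g (j l)) (hm : ∀ l l', R l → R l' → l ⊆ l' → j l' = j l)
    (Hs : L → Subgroup G) (hHs : ∀ Y g, g ∈ Hs Y ↔ g ∈ H ∧ act g Y = Y)
    (loc : ∀ l₀, R l₀ → Ex (Hs (j l₀)) (fun l => R l ∧ j l = j l₀) b a m) : Ex H R b a m := by
  classical
  intro ξ hξ hd
  have hY : ∀ Y, ∃ η, Coch (Hs Y) (fun l => R l ∧ j l = Y) b a η ∧
      ∀ l, R l → j l = Y → l.length = m → ξ l - d η l ∈ a l := fun Y => by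
    by_cases h : ∃ l₀, R l₀ ∧ j l₀ = Y
    swap
    · exact ⟨_, coch_zero _ _ _ _, fun l h1 h2 => (h ⟨l, h1, h2⟩).elim⟩
    obtain ⟨l₀, h0, rfl⟩ := h
    obtain ⟨η, e1, e2⟩ := loc l₀ h0 (fun l => if R l ∧ j l = j l₀ then ξ l else 0)
      ⟨fun l hl => by rw [if_pos hl]; exact hξ.mem l hl.1, fun l hl => if_neg hl, fun g hg l hl => by
        obtain ⟨g1, g2⟩ := (hHs _ _).1 hg
        rw [if_pos hl, if_pos ⟨S.inv g g1 l hl.1, by rw [hj g g1 l hl.1, hl.2, g2]⟩]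
        exact hξ.eqv g g1 l hl.1⟩ fun l hl hlen => by
        rw [d_congr (η := ξ) fun l' h' _ => ?_]
        · exact hd l hl.1 hlen
        by_cases hR : R l'
        · exact if_pos ⟨hR, (hm l' l hR hl.1 h').symm.trans hl.2⟩
        · rw [if_neg fun h => hR h.1, hξ.zero l' hR]
    refine ⟨η, e1, fun l h1 h2 h3 => ?_⟩
    have := e2 l ⟨h1, h2⟩ h3
    rwa [if_pos ⟨h1, h2⟩] at this
  choose η e1 e2 using hY
  obtain ⟨rep, γ, g1, g2, g3⟩ := exists_rep H act h1 hmul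
  have g4 : ∀ Y, act (γ Y)⁻¹ Y = rep Y := fun Y => by
    nth_rewrite 2 [← g2 Y]
    rw [← hmul, inv_mul_cancel, h1]
  have k1 : ∀ l, R l → R (sm (γ (j l))⁻¹ l) ∧ j (sm (γ (j l))⁻¹ l) = rep (j l) := fun l hl =>
    ⟨S.inv _ (inv_mem (g1 _)) l hl, by rw [hj _ (inv_mem (g1 _)) l hl, g4]⟩
  refine ⟨fun l => if R l then γ (j l) • η (rep (j l)) (sm (γ (j l))⁻¹ l) else 0,
    ⟨fun l hl => ?_, fun l hl => if_neg hl, fun g hg l hl => ?_⟩, fun l hl hlen => ?_⟩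
  · have := S.smul_b _ (g1 (j l)) _ (k1 l hl).1 _ ((e1 _).mem _ (k1 l hl))
    rw [sm_sm_inv] at this
    rwa [if_pos hl]
  · have hl' := S.inv g hg l hl
    have k2 : (γ (act g (j l)))⁻¹ * g * γ (j l) ∈ Hs (rep (j l)) :=
      (hHs _ _).2 ⟨mul_mem (mul_mem (inv_mem (g1 _)) hg) (g1 _), by rw [hmul, hmul, g2, g4, g3 g hg]⟩
    have k3 := S.smul_a _ (g1 (act g (j l))) _ (S.inv _ ((hHs _ _).1 k2).1 _ (k1 l hl).1) _
      ((e1 _).eqv _ k2 _ (k1 l hl))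
    rw [← sm_mul, ← sm_mul, ← sm_mul, mul_inv_cancel_right, smul_sub, smul_smul] at k3
    rw [if_pos hl, if_pos hl', hj g hg l hl, g3 g hg, smul_smul, ← sm_mul]
    simpa only [← mul_assoc, mul_inv_cancel, one_mul, mul_inv_cancel_right] using k3
  · have k2 : d (fun l => if R l then γ (j l) • η (rep (j l)) (sm (γ (j l))⁻¹ l) else 0) l =
        γ (j l) • d (η (rep (j l))) (sm (γ (j l))⁻¹ l) := by
      rw [← d_sm, ← d_smul]
      refine d_congr fun l' h' _ => ?_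
      by_cases hR : R l'
      · rw [if_pos hR, hm l' l hR hl h']
      · rw [if_neg hR, (e1 _).zero _ fun h => hR ?_, smul_zero]
        simpa only [sm_sm_inv] using S.inv _ (g1 (j l)) _ h.1
    have k3 := add_mem (hξ.eqv _ (g1 (j l)) _ (k1 l hl).1) (S.smul_a _ (g1 (j l)) _ (k1 l hl).1 _
      (e2 _ _ (k1 l hl).1 (k1 l hl).2 ((length_sm _ _).trans hlen)))
    rwa [sm_sm_inv, smul_sub, sub_add_sub_cancel, ← k2] at k3

theorem red {L : Type*} (S : Sys H R b a) (act : G → L → L) (h1 : ∀ Y, act 1 Y = Y)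
    (hmul : ∀ g h Y, act (g * h) Y = act g (act h Y)) (j : List Ω → L) (r : L → ℕ) (N : ℕ)
    (hN : ∀ l, R l → r (j l) ≤ N) (hr : ∀ g ∈ H, ∀ l, R l → r (j (sm g l)) = r (j l))
    (hj : ∀ g ∈ H, ∀ l, R l → j (sm g l) = act g (j l))
    (hm : ∀ l l', R l → R l' → l ⊆ l' → r (j l') < r (j l) ∨ j l' = j l)
    (Hs : L → Subgroup G) (hHs : ∀ Y g, g ∈ Hs Y ↔ g ∈ H ∧ act g Y = Y)
    (loc : ∀ l₀, R l₀ → Ex (Hs (j l₀)) (fun l => R l ∧ j l = j l₀) b a m) : Ex H R b a m := by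
  have hle : ∀ l l', R l → R l' → l ⊆ l' → r (j l') ≤ r (j l) := fun l l' h h' hs =>
    (hm l l' h h' hs).elim le_of_lt fun e => e ▸ le_rfl
  have C0 : ∀ n, Cl H R fun l => R l ∧ n ≤ r (j l) := fun n =>
    ⟨fun _ h => h.1, fun l l' hs h h' => ⟨h, h'.2.trans (hle l l' h h'.1 hs)⟩,
      fun g hg l h => ⟨S.inv g hg l h.1, (hr g hg l h.1).symm ▸ h.2⟩⟩
  have C1 : ∀ n, Cl H (fun l => R l ∧ n ≤ r (j l)) fun l => R l ∧ n + 1 ≤ r (j l) := fun n =>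
    ⟨fun _ h => ⟨h.1, by omega⟩, fun l l' hs h h' => (C0 _).cl l l' hs h.1 h', (C0 _).inv⟩
  have key : ∀ n ≤ N + 1, Ex H (fun l => R l ∧ n ≤ r (j l)) b a m := fun n hn => by
    induction hn using Nat.decreasingInduction with
    | self => exact ex_of_le fun l h => absurd (hN l h.1) (by omega)
    | of_succ n _ ih =>
      refine f1 (S.cl₂ (C0 n)) (C1 n) (red1 ((S.cl₂ (C0 n)).cl₁ (C1 n)) act h1 hmul j (fun g hg l h => hj g hg l h.1.1)
        (fun l l' h h' hs => (hm l l' h.1.1 h'.1.1 hs).resolve_left fun e => h.2 ⟨h.1.1, by have := h'.1.2; omega⟩)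
        Hs hHs fun l₀ h₀ => (loc l₀ h₀.1.1).congr (fun g hg l h => ?_) (fun l => ⟨fun h => ⟨⟨⟨h.1, h.2 ▸ h₀.1.2⟩,
          fun e => h₀.2 ⟨h₀.1.1, h.2 ▸ e.2⟩⟩, h.2⟩, fun h => ⟨h.1.1.1, h.2⟩⟩) (fun _ _ => rfl) fun _ _ => rfl) ih
      obtain ⟨g1, g2⟩ := (hHs _ _).1 hg
      exact ⟨S.inv g g1 l h.1, by rw [hj g g1 l h.1, h.2, g2]⟩
  exact (key 0 (Nat.zero_le _)).congr (C0 0).inv (fun l => ⟨fun h => h.1, fun h => ⟨h, Nat.zero_le _⟩⟩)
    (fun _ _ => rfl) fun _ _ => rfl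

/-- Transport along a correspondence `C` of coefficients and a correspondence `E` of group elements. -/
theorem tr {G' : Type*} [Group G'] [MulAction G' Ω] {B' : Type*} [AddCommGroup B'] [DistribMulAction G' B']
    {H' : Subgroup G'} {a' b' : List Ω → AddSubgroup B'} (E : G' → G → Prop)
    (hE : ∀ g ∈ H, ∃ g' ∈ H', E g' g) (hE' : ∀ g' ∈ H', ∃ g ∈ H, E g' g)
    (hEs : ∀ g' g, E g' g → ∀ y : Ω, g' • y = g • y) (inv : ∀ g ∈ H, ∀ l, R l → R (sm g l))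
    (C : List Ω → B' → B → Prop) (c0 : ∀ l, R l → C l 0 0)
    (csub : ∀ l, R l → ∀ u' u v' v, C l u' u → C l v' v → C l (u' - v') (u - v))
    (cmono : ∀ l l', R l → R l' → l ⊆ l' → ∀ u' u, C l u' u → C l' u' u)
    (csmul : ∀ g' ∈ H', ∀ g ∈ H, E g' g → ∀ l, R l → ∀ u' u, C l u' u → C (sm g l) (g' • u') (g • u))
    (cmem : ∀ l, R l → ∀ u' u, C l u' u → u' ∈ b' l ∧ u ∈ b l)
    (cex : ∀ l, R l → ∀ u ∈ b l, ∃ u', C l u' u) (cex' : ∀ l, R l → ∀ u' ∈ b' l, ∃ u, C l u' u)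
    (cker : ∀ l, R l → ∀ u' u, C l u' u → (u' ∈ a' l ↔ u ∈ a l)) (h : Ex H' R b' a' m) : Ex H R b a m := by
  classical
  have hsm : ∀ g' g, E g' g → ∀ l : List Ω, sm g' l = sm g l := fun g' g e l =>
    List.map_congr_left fun y _ => hEs g' g e y
  have key : ∀ (ξ' : List Ω → B') (ξ : List Ω → B), (∀ l, R l → C l (ξ' l) (ξ l)) → (∀ l, ¬ R l → ξ' l = 0) →
      (∀ l, ¬ R l → ξ l = 0) → ∀ l, R l → C l (d ξ' l) (d ξ l) := fun ξ' ξ k1 k2 k3 l hl => by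
    let U : AddSubgroup (B' × B) :=
      { carrier := {x | C l x.1 x.2}
        zero_mem' := c0 l hl
        add_mem' := fun {x y} hx hy => by
          simpa using csub l hl _ _ _ _ hx (csub l hl _ _ _ _ (c0 l hl) hy)
        neg_mem' := fun {x} hx => by simpa using csub l hl _ _ _ _ (c0 l hl) hx }
    have := d_mem U (ξ := fun l => (ξ' l, ξ l)) (l := l) fun l' h' _ => by
      by_cases hR : R l'
      · exact cmono l' l hR hl h' _ _ (k1 l' hR)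
      · rw [k2 l' hR, k3 l' hR]; exact c0 l hl
    have e1 := d_map (AddMonoidHom.fst B' B) (fun l => (ξ' l, ξ l)) l
    have e2 := d_map (AddMonoidHom.snd B' B) (fun l => (ξ' l, ξ l)) l
    exact (show d ξ' l = _ from e1) ▸ (show d ξ l = _ from e2) ▸ this
  have eqv : ∀ (ξ' : List Ω → B') (ξ : List Ω → B), (∀ l, R l → C l (ξ' l) (ξ l)) → ∀ g' ∈ H', ∀ g ∈ H, E g' g →
      ∀ l, R l → (ξ' (sm g' l) - g' • ξ' l ∈ a' (sm g' l) ↔ ξ (sm g l) - g • ξ l ∈ a (sm g l)) :=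
    fun ξ' ξ k g' hg' g hg e l hl => by
      rw [hsm g' g e]
      exact cker _ (inv g hg l hl) _ _ (csub _ (inv g hg l hl) _ _ _ _ (k _ (inv g hg l hl))
        (csmul g' hg' g hg e l hl _ _ (k l hl)))
  intro ξ hξ hd
  have h1 : ∀ l, ∃ u', (R l → C l u' (ξ l)) ∧ (¬ R l → u' = 0) := fun l => by
    by_cases hl : R l
    · obtain ⟨u, hu⟩ := cex l hl _ (hξ.mem l hl)
      exact ⟨u, fun _ => hu, fun h => (h hl).elim⟩
    · exact ⟨0, fun h => (hl h).elim, fun _ => rfl⟩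
  choose ξ' k1 k2 using h1
  obtain ⟨η', hη, e⟩ := h ξ' ⟨fun l hl => (cmem l hl _ _ (k1 l hl)).1, k2, fun g' hg' l hl => by
    obtain ⟨g, hg, e⟩ := hE' g' hg'
    exact (eqv ξ' ξ k1 g' hg' g hg e l hl).2 (hξ.eqv g hg l hl)⟩ fun l hl hlen =>
      (cker l hl _ _ (key ξ' ξ k1 k2 hξ.zero l hl)).2 (hd l hl hlen)
  have h2 : ∀ l, ∃ u, (R l → C l (η' l) u) ∧ (¬ R l → u = 0) := fun l => by
    by_cases hl : R l
    · obtain ⟨u, hu⟩ := cex' l hl _ (hη.mem l hl)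
      exact ⟨u, fun _ => hu, fun h => (h hl).elim⟩
    · exact ⟨0, fun h => (hl h).elim, fun _ => rfl⟩
  choose η k3 k4 using h2
  refine ⟨η, ⟨fun l hl => (cmem l hl _ _ (k3 l hl)).2, k4, fun g hg l hl => ?_⟩, fun l hl hlen =>
    (cker l hl _ _ (csub l hl _ _ _ _ (k1 l hl) (key η' η k3 hη.zero k4 l hl))).1 (e l hl hlen)⟩
  obtain ⟨g', hg', e⟩ := hE g hg
  exact (eqv η' η k3 g' hg' g hg e l hl).1 (hη.eqv g' hg' l hl)

end CfsgLib.MPZ
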