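import Mathlib
import Cfsg.Agent.Lib.MPZ.Red

set_option autoImplicit false
set_option linter.unusedVariables false

namespace CfsgLib.MPZ

open Subgroup CfsgLib.Fusion

/-! MPZ package LOC0: ambient sets, acyclicity of the full complex, reduction to normalisers. -/

section Grp

variable {G : Type*} [Group G] [Finite G] {p : ℕ} [Fact p.Prime] {H K P Q C : Subgroup G}

/-- Normalisers grow in `p`-groups. -/
theorem pgrow (hP : IsPGroup p P) (hQ : Q ≤ P) (hne : ¬ P ≤ Q) :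
    ∃ g ∈ P, g ∈ normalizer (Q : Set G) ∧ g ∉ Q := by
  have hlt : Q.subgroupOf P < ⊤ := by rwa [lt_top_iff_ne_top, Ne, subgroupOf_eq_top]
  have := hP.isNilpotent
  obtain ⟨x, hx, hxn⟩ := SetLike.exists_of_lt (Group.normalizerCondition_of_isNilpotent _ hlt)
  rw [← subgroupOf_normalizer_eq hQ] at hx
  exact ⟨x, x.2, hx, hxn⟩

theorem le_of_label (hP : IsPGroup p P)
    (h : ∀ g ∈ P, g ∈ normalizer ((P ⊓ K : Subgroup G) : Set G) → g ∈ K) : P ≤ K := by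
  by_contra hne
  obtain ⟨g, hg, hn, hk⟩ := pgrow hP (Q := P ⊓ K) inf_le_left fun h' => hne (h'.trans inf_le_right)
  exact hk ⟨hg, h g hg hn⟩

theorem esc (hQ : Q ≤ H) (hp : IsPGroup p Q) (hC : C ≤ H) (hn : H ≤ normalizer (C : Set G))
    (h : ¬ SylIn p (Q ⊓ C) C) :
    ∃ R : Subgroup G, R ≤ C ∧ IsPGroup p R ∧ R ≤ normalizer (Q : Set G) ∧ ¬ R ≤ Q := by
  obtain ⟨T, hT, hQT⟩ := exists_sylIn_ge hp hQ
  have h1 := hT.inf_of_normal_le hC hn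
  have h2 : ¬ T ⊓ C ≤ Q := fun h' => h (by
    rwa [show Q ⊓ C = T ⊓ C from le_antisymm (inf_le_inf_right C hQT) (le_inf h' inf_le_right)])
  have hnorm : Q ≤ normalizer ((T ⊓ C : Subgroup G) : Set G) := fun g hg =>
    inf_normalizer_le_normalizer_inf ⟨le_normalizer (hQT hg), hn (hQ hg)⟩
  obtain ⟨g, hg, hgn, hgQ⟩ := pgrow (hT.isPGroup.to_le (sup_le hQT inf_le_left : Q ⊔ T ⊓ C ≤ T)) le_sup_left
    fun h' => h2 (le_sup_right.trans h')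
  rw [← SetLike.mem_coe, coe_mul_of_left_le_normalizer_right Q _ hnorm] at hg
  obtain ⟨q, hq, c, hc, rfl⟩ := hg
  refine ⟨T ⊓ C ⊓ normalizer (Q : Set G), inf_le_left.trans inf_le_right,
    hT.isPGroup.to_le (inf_le_left.trans inf_le_left), inf_le_right, fun h' => hgQ (Q.mul_mem hq (h' ⟨hc, ?_⟩))⟩
  exact (_root_.mul_mem_cancel_left (le_normalizer hq)).1 hgn

omit [Finite G] in
theorem exists_inv_card {n : ℕ} (hn : ¬ p ∣ n) (e : ℕ) : ∃ c k : ℕ, c * n = 1 + k * p ^ e := by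
  have hc : n.Coprime (p ^ e) := ((Nat.Prime.coprime_iff_not_dvd Fact.out).2 hn).symm.pow_right e
  have hn0 : n ≠ 0 := fun h => hn (h ▸ dvd_zero p)
  have hpos : 0 < Nat.totient (p ^ e) := Nat.totient_pos.2 (pow_pos (Fact.out : p.Prime).pos e)
  have h1 := (Nat.ModEq.pow_totient hc).symm
  obtain ⟨k, hk⟩ := (Nat.modEq_iff_dvd' (Nat.one_le_pow _ _ (Nat.pos_of_ne_zero hn0))).1 h1
  refine ⟨n ^ (Nat.totient (p ^ e) - 1), k, ?_⟩
  rw [← pow_succ, Nat.sub_add_cancel hpos, mul_comm k, ← hk, Nat.add_sub_cancel' (Nat.one_le_pow _ _ (Nat.pos_of_ne_zero hn0))]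

end Grp

variable {G : Type*} [Group G] {Ω : Type*} [MulAction G Ω] {B : Type*} [AddCommGroup B] [DistribMulAction G B]
  {p : ℕ} {H K Y : Subgroup G} {W : Set Ω} {α β : AddSubgroup B} {𝓕 : Subgroup G → Prop} {m : ℕ}

theorem sum_smul_eq {M : Type*} [AddCommMonoid M] {O : Finset Ω} {g : G} (h : ∀ y, g • y ∈ O ↔ y ∈ O)
    (f : Ω → M) : ∑ y ∈ O, f (g • y) = ∑ y ∈ O, f y := 
  Finset.sum_bijective (fun y => g • y) (MulAction.bijective g) (fun y => (h y).symm) fun _ _ => rfl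

theorem Amb.isPGroup (A : Amb p H W) {l : List Ω} (hl : l ≠ []) (hW : In W l) : IsPGroup p (St H l) := by
  obtain ⟨y, hy⟩ := List.exists_mem_of_ne_nil l hl
  exact (A.pgrp y (hW y hy)).to_le (St_anti H (by simpa using hy))

theorem Amb.in_sm (A : Amb p H W) {g : G} (hg : g ∈ H) {l : List Ω} (hW : In W l) : In W (sm g l) := fun y hy => by
  have := A.inv g hg _ (hW _ (mem_sm.1 hy))
  rwa [smul_inv_smul] at this

theorem Amb.sub (A : Amb p H W) (hK : K ≤ H) : Amb p K W := 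
  ⟨fun g hg => A.inv g (hK hg), fun y hy => (A.pgrp y hy).to_le (St_mono hK _), fun P hP => A.fix P (hP.trans hK)⟩

theorem Amb.loc (A : Amb p H W) (hY : Y ≤ H) (hp : IsPGroup p Y) :
    Amb p (H ⊓ normalizer (Y : Set G)) (FixW W Y) := by
  refine ⟨fun g hg y hy => ⟨A.inv g hg.1 y hy.1, fun h hh => ?_⟩,
    fun y hy => (A.pgrp y hy.1).to_le (St_mono inf_le_left _), fun P hP hp' => ?_⟩
  · have := hy.2 _ ((mem_normalizer_iff''.1 hg.2 h).1 hh)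
    rwa [mul_smul, mul_smul, inv_smul_eq_iff] at this
  · obtain ⟨y, hy, h⟩ := A.fix (P ⊔ Y) (sup_le (hP.trans inf_le_left) hY)
      (hp'.to_sup_of_normal_right' hp (hP.trans inf_le_right))
    exact ⟨y, ⟨hy, fun g hg => h g (mem_sup_right hg)⟩, fun g hg => h g (mem_sup_left hg)⟩

theorem Md.sub (M : Md p H β) (hK : K ≤ H) : Md p K β := ⟨fun g hg => M.inv g (hK hg), M.tor⟩

theorem Md.loc (M : Md p H β) (Y : Subgroup G) : Md p (H ⊓ normalizer (Y : Set G)) (Fx β Y) := by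
  refine ⟨fun g hg u hu => ⟨M.inv g hg.1 u hu.1, fun h hh => ?_⟩, M.tor.imp fun _ h u hu => h u hu.1⟩
  have := hu.2 _ ((mem_normalizer_iff''.1 hg.2 h).1 hh)
  rwa [mul_smul, mul_smul, inv_smul_eq_iff] at this

theorem fam_true (p : ℕ) (H : Subgroup G) : Fam p H (fun _ => True) := ⟨fun _ _ _ _ _ _ _ _ _ => trivial, fun _ _ _ _ _ => trivial⟩

theorem lr_inv (A : Amb p H W) (inv : ∀ g ∈ H, ∀ P ≤ H, IsPGroup p P → 𝓕 P → 𝓕 (cj g P)) :
    ∀ g ∈ H, ∀ l, LR H W 𝓕 l → LR H W 𝓕 (sm g l) := fun g hg l hl =>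
  ⟨fun h => hl.1 (sm_eq_nil.1 h), A.in_sm hg hl.2.1, by
    rw [St_sm hg]; exact inv g hg _ (St_le H l) (A.isPGroup hl.1 hl.2.1) hl.2.2⟩

theorem lr_cvx (A : Amb p H W)
    (cvx : ∀ P₁ P₂ P₃, P₁ ≤ P₂ → P₂ ≤ P₃ → P₃ ≤ H → IsPGroup p P₃ → 𝓕 P₁ → 𝓕 P₃ → 𝓕 P₂) :
    ∀ l l' l'', l ⊆ l' → l' ⊆ l'' → LR H W 𝓕 l → LR H W 𝓕 l'' → LR H W 𝓕 l' := fun l l' _ h1 h2 hl hl'' =>
  ⟨fun h => hl.1 (List.subset_nil.1 (h ▸ h1)), fun y hy => hl''.2.1 y (h2 hy),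
    cvx _ _ _ (St_anti H h2) (St_anti H h1) (St_le H l) (A.isPGroup hl.1 hl.2.1) hl''.2.2 hl.2.2⟩

theorem sys_Fx {R : List Ω → Prop} (inv : ∀ g ∈ H, ∀ u ∈ β, g • u ∈ β)
    (cvx : ∀ l l' l'', l ⊆ l' → l' ⊆ l'' → R l → R l'' → R l') (hinv : ∀ g ∈ H, ∀ l, R l → R (sm g l)) :
    Sys H R (fun l => Fx β (St H l)) (fun _ => ⊥) := by
  refine ⟨cvx, hinv, fun _ _ => bot_le, fun _ _ _ _ _ => le_rfl,
    fun l l' _ _ h u hu => ⟨hu.1, fun g hg => hu.2 g (St_anti H h hg)⟩, fun g _ l _ u hu => ?_,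
    fun g hg l _ u hu => ⟨inv g hg u hu.1, fun h hh => ?_⟩, fun l _ g hg u hu => ?_⟩
  · rw [AddSubgroup.mem_bot.1 hu, smul_zero]; exact zero_mem _
  · rw [St_sm hg, mem_cj] at hh
    have := hu.2 _ hh
    rwa [mul_smul, mul_smul, inv_smul_eq_iff] at this
  · rw [hu.2 g hg, sub_self]; exact zero_mem _

theorem sys_LR (A : Amb p H W) (M : Md p H β) (F : Fam p H 𝓕) :
    Sys H (LR H W 𝓕) (fun l => Fx β (St H l)) (fun _ => ⊥) := 
  sys_Fx M.inv (lr_cvx A F.cvx) (lr_inv A fun g hg P hP _ => F.inv g hg P hP)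

theorem sys_In (A : Amb p H W) (hβ : ∀ g ∈ H, ∀ u ∈ β, g • u ∈ β) (hα : ∀ g ∈ H, ∀ u ∈ α, g • u ∈ α)
    (hle : α ≤ β) : Sys H (In W) (fun l => Fq β α (St H l)) (fun _ => α) := by
  refine ⟨fun _ _ _ _ h2 _ h y hy => h y (h2 hy), fun g hg l hl => A.in_sm hg hl,
    fun l _ u hu => ⟨hle hu, fun g hg => α.sub_mem (hα g hg.1 u hu) hu⟩, fun _ _ _ _ _ => le_rfl,
    fun l l' _ _ h u hu => ⟨hu.1, fun g hg => hu.2 g (St_anti H h hg)⟩, fun g hg l _ u hu => hα g hg u hu,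
    fun g hg l _ u hu => ⟨hβ g hg u hu.1, fun h hh => ?_⟩, fun l _ g hg u hu => hu.2 g hg⟩
  rw [St_sm hg, mem_cj] at hh
  have := hα g hg _ (hu.2 _ hh)
  rwa [smul_sub, smul_smul, ← mul_assoc, ← mul_assoc, mul_inv_cancel, one_mul, mul_smul] at this

theorem LEx.congr {𝓕' : Subgroup G → Prop} (h : LEx H W β 𝓕 m) (A : Amb p H W)
    (inv : ∀ g ∈ H, ∀ P ≤ H, IsPGroup p P → 𝓕 P → 𝓕 (cj g P))
    (hF : ∀ l, l ≠ [] → In W l → (𝓕 (St H l) ↔ 𝓕' (St H l))) : LEx H W β 𝓕' m := 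
  Ex.congr h (lr_inv A inv) (fun l => and_congr_right fun h1 => and_congr_right fun h2 => hF l h1 h2)
    (fun _ _ => rfl) fun _ _ => rfl

/-- An up-closed invariant subfamily gives a family of lists closed under faces. -/
theorem cl_LR {𝓕₂ : Subgroup G → Prop} (A : Amb p H W) (sub : ∀ P ≤ H, IsPGroup p P → 𝓕₂ P → 𝓕 P)
    (up : ∀ P Q, P ≤ Q → Q ≤ H → IsPGroup p Q → 𝓕₂ P → 𝓕 Q → 𝓕₂ Q)
    (inv : ∀ g ∈ H, ∀ P ≤ H, IsPGroup p P → 𝓕₂ P → 𝓕₂ (cj g P)) : Cl H (LR H W 𝓕) (LR H W 𝓕₂) := 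
  ⟨fun l hl => ⟨hl.1, hl.2.1, sub _ (St_le H l) (A.isPGroup hl.1 hl.2.1) hl.2.2⟩,
    fun l _ h hl hl' => ⟨hl.1, hl.2.1, up _ _ (St_anti H h) (St_le H l) (A.isPGroup hl.1 hl.2.1) hl'.2.2 hl.2.2⟩,
    lr_inv A inv⟩

theorem lr_diff {𝓕₂ : Subgroup G → Prop} (l : List Ω) :
    (LR H W 𝓕 l ∧ ¬ LR H W 𝓕₂ l) ↔ LR H W (fun P => 𝓕 P ∧ ¬ 𝓕₂ P) l := 
  ⟨fun h => ⟨h.1.1, h.1.2.1, h.1.2.2, fun h' => h.2 ⟨h.1.1, h.1.2.1, h'⟩⟩,
    fun h => ⟨⟨h.1, h.2.1, h.2.2.1⟩, fun h' => h.2.2.2 h'.2.2⟩⟩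

variable [Finite G] [Fact p.Prime]

theorem Amb.exists_orbit (A : Amb p H W) : ∃ O : Finset Ω, (∀ y ∈ O, y ∈ W) ∧ (∀ g ∈ H, ∀ y, g • y ∈ O ↔ y ∈ O) ∧
    ¬ p ∣ O.card := by
  obtain ⟨T, hT⟩ := exists_sylIn p H
  obtain ⟨y, hy, hfix⟩ := A.fix T hT.le hT.isPGroup
  have hfin : (MulAction.orbit H y).Finite := Set.finite_range _
  refine ⟨hfin.toFinset, fun z hz => ?_, fun g hg z => ?_, ?_⟩
  · obtain ⟨g, rfl⟩ := hfin.mem_toFinset.1 hz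
    exact A.inv g g.2 y hy
  · rw [hfin.mem_toFinset, hfin.mem_toFinset]
    refine ⟨fun ⟨k, hk⟩ => ⟨(⟨g, hg⟩ : H)⁻¹ * k, ?_⟩, fun ⟨k, hk⟩ => ⟨⟨g, hg⟩ * k, ?_⟩⟩
    · show ((⟨g, hg⟩ : H)⁻¹ * k) • y = z
      rw [mul_smul, inv_smul_eq_iff]; exact hk
    · show ((⟨g, hg⟩ : H) * k) • y = g • z
      rw [mul_smul, ← hk]; rfl
  · rw [← Set.ncard_eq_toFinset_card _ hfin, ← MulAction.index_stabilizer]
    exact fun h => hT.not_dvd_relIndex (h.trans (index_dvd_of_le fun g hg => hfix g hg))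

/-- The full complex is acyclic. -/
theorem t0 (A : Amb p H W) (hβ : ∀ g ∈ H, ∀ u ∈ β, g • u ∈ β) (hα : ∀ g ∈ H, ∀ u ∈ α, g • u ∈ α)
    (tor : ∃ e : ℕ, ∀ u ∈ β, p ^ e • u ∈ α) (m : ℕ) :
    Ex H (In W) (fun l => Fq β α (St H l)) (fun _ => α) m := by
  obtain ⟨O, hW, hO, hp⟩ := A.exists_orbit
  obtain ⟨e, he⟩ := tor
  obtain ⟨c, k, hck⟩ := exists_inv_card hp e
  intro ξ hξ hd
  have hIn : ∀ {y : Ω} {l : List Ω}, y ∈ O → In W l → In W (y :: l) := fun hy hl z hz => by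
    rcases List.mem_cons.1 hz with rfl | hz
    exacts [hW _ hy, hl z hz]
  have heq : ∀ g ∈ H, ∀ l, In W l →
      c • ∑ y ∈ O, ξ (y :: sm g l) - g • c • ∑ y ∈ O, ξ (y :: l) ∈ α := fun g hg l hl => by
    rw [smul_comm g c, ← nsmul_sub, ← sum_smul_eq (hO g hg), Finset.smul_sum, ← Finset.sum_sub_distrib]
    exact α.nsmul_mem (α.sum_mem fun y hy => hξ.eqv g hg _ (hIn hy hl)) c
  refine ⟨fun l => c • ∑ y ∈ O, ξ (y :: l), ⟨fun l hl => ⟨β.nsmul_mem (β.sum_mem fun y hy =>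
    (hξ.mem _ (hIn hy hl)).1) c, fun g hg => ?_⟩, fun l hl => ?_, heq⟩, fun l hl hm => ?_⟩
  · have := α.neg_mem (heq g hg.1 l hl)
    rwa [sm_eq_self.2 hg.2, neg_sub] at this
  · rw [Finset.sum_eq_zero fun y _ => hξ.zero _ fun h => hl fun z hz => h z (List.mem_cons_of_mem _ hz), nsmul_zero]
  · rw [d_nsmul, d_cone, nsmul_sub, smul_smul, hck, add_nsmul, one_nsmul, mul_nsmul']
    rw [show ∀ a b c : B, a - (a + b - c) = c - b from fun a b c => by abel]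
    exact α.sub_mem (α.nsmul_mem (α.sum_mem fun y hy => hd _ (hIn hy hl) (by simp [hm])) c)
      (α.nsmul_mem (he _ (hξ.mem l hl).1) k)

theorem t0q (A : Amb p H W) (hβ : ∀ g ∈ H, ∀ u ∈ β, g • u ∈ β) (hα : ∀ g ∈ H, ∀ u ∈ α, g • u ∈ α)
    (hle : α ≤ β) (tor : ∃ e : ℕ, ∀ u ∈ β, p ^ e • u ∈ α) (hm : 2 ≤ m) :
    Ex H (LR H W (fun _ => True)) (fun l => Fq β α (St H l)) (fun _ => α) m := 
  ((ex_ne_iff (sys_In A hβ hα hle) hm).1 (t0 A hβ hα tor m)).congr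
    (fun _ hg _ hl => ⟨fun h => hl.1 (sm_eq_nil.1 h), A.in_sm hg hl.2⟩)
    (fun _ => ⟨fun h => ⟨h.1, h.2, trivial⟩, fun h => ⟨h.1, h.2.1⟩⟩) (fun _ _ => rfl) fun _ _ => rfl

theorem t0x (A : Amb p H W) (M : Md p H β) (m : ℕ) :
    Ex H (In W) (fun l => Fx β (St H l)) (fun _ => ⊥) m := by
  have := t0 (α := ⊥) A M.inv (fun g _ u hu => by rw [AddSubgroup.mem_bot.1 hu, smul_zero]; exact zero_mem _)
    M.tor m
  simpa only [Fq_bot] using this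

theorem t0' (A : Amb p H W) (M : Md p H β) (hm : 2 ≤ m) : LEx H W β (fun _ => True) m := by
  have := t0q (α := ⊥) A M.inv (fun g _ u hu => by rw [AddSubgroup.mem_bot.1 hu, smul_zero]; exact zero_mem _)
    bot_le M.tor hm
  simpa only [Fq_bot, LEx] using this

/-- Reduction to the normalisers of the members of the family. -/
theorem lred (A : Amb p H W) (M : Md p H β) (F : Fam p H 𝓕)
    (loc : ∀ Q ≤ H, IsPGroup p Q → 𝓕 Q →
      LEx (H ⊓ normalizer (Q : Set G)) (FixW W Q) (Fx β Q) (fun P => P = Q) m) : LEx H W β 𝓕 m := by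
  refine red (sys_LR A M F) cj cj_one cj_mul (fun l => St H l) (fun P => Nat.card P) (Nat.card G)
    (fun l _ => card_le_card_group _) (fun g hg l _ => by rw [St_sm hg, card_cj]) (fun g hg l _ => St_sm hg l)
    (fun l l' _ _ h => ?_) (fun Q => H ⊓ normalizer (Q : Set G)) (fun Q g => by rw [mem_inf, cj_eq_iff])
    fun l₀ hl₀ => ?_
  · rcases (St_anti H h).lt_or_eq with h1 | h1
    · exact .inl (Set.Finite.card_lt_card (Set.toFinite _) h1)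
    · exact .inr h1
  · have hp := A.isPGroup hl₀.1 hl₀.2.1
    have hF := hl₀.2.2
    have hle := St_le H l₀
    generalize St H l₀ = Q at hp hF hle
    refine Ex.congr (loc Q hle hp hF) (lr_inv (A.loc hle hp) fun g hg P _ _ hP => by rw [hP, cj_eq_iff.2 hg.2])
      (fun l => ⟨fun hl => ?_, fun hl => ⟨hl.1.1, fun y hy => ⟨hl.1.2.1 y hy, fun g hg => ?_⟩, ?_⟩⟩)
      (fun l hl => ?_) fun _ _ => rfl
    · have hW : In W l := fun y hy => (hl.2.1 y hy).1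
      have h1 : St H l ⊓ normalizer (Q : Set G) = Q := by rw [← St_inf]; exact hl.2.2
      have h2 : St H l ≤ normalizer (Q : Set G) := le_of_label (A.isPGroup hl.1 hW) fun g _ hg => by rwa [h1] at hg
      rw [inf_eq_left.2 h2] at h1
      exact ⟨⟨hl.1, hW, h1.symm ▸ hF⟩, h1⟩
    · exact (show g ∈ St H l from hl.2.symm ▸ hg).2 y hy
    · show St (H ⊓ normalizer (Q : Set G)) l = Q
      rw [St_inf, hl.2, inf_eq_left.2 le_normalizer]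
    · have hW : In W l := fun y hy => (hl.2.1 y hy).1
      have h1 : St H l ⊓ normalizer (Q : Set G) = Q := by rw [← St_inf]; exact hl.2.2
      have h2 : St H l ≤ normalizer (Q : Set G) := le_of_label (A.isPGroup hl.1 hW) fun g _ hg => by rwa [h1] at hg
      rw [inf_eq_left.2 h2] at h1
      rw [show St (H ⊓ normalizer (Q : Set G)) l = Q from hl.2.2, h1]
      exact le_antisymm (fun u hu => hu.1) fun u hu => ⟨hu, hu.2⟩

end CfsgLib.MPZ
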