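import Mathlib
import Cfsg.Agent.Lib.MPZ.Loc0

set_option autoImplicit false
set_option linter.unusedVariables false
set_option linter.unusedSectionVars false

namespace CfsgLib.MPZ

open Subgroup CfsgLib.Fusion

/-! MPZ package GLOB: systems indexed by subgroups. -/

variable {G : Type*} [Group G] {Ω : Type*} [MulAction G Ω] {B : Type*} [AddCommGroup B]
  [DistribMulAction G B] {p : ℕ} {𝓕 𝓕' 𝓕₂ 𝓖 : Subgroup G → Prop} {a b c a' b' : Subgroup G → AddSubgroup B} {m : ℕ}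

/-- The ambient condition for the whole group acting on the whole set. -/
abbrev Am (p : ℕ) (G : Type*) [Group G] (Ω : Type*) [MulAction G Ω] : Prop :=
  Amb p (⊤ : Subgroup G) (Set.univ : Set Ω)

/-- Exactness for the subgroup `H`, the lists being those whose full stabiliser lies in `𝓖`. -/
abbrev HEx (Ω : Type*) [MulAction G Ω] (H : Subgroup G) (𝓖 : Subgroup G → Prop) (b a : Subgroup G → AddSubgroup B)
    (m : ℕ) : Prop :=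
  Ex H (LR ⊤ (Set.univ : Set Ω) 𝓖) (fun l => b (St ⊤ l)) (fun l => a (St ⊤ l)) m

/-- `𝓕₂` is an invariant up-closed subfamily of `𝓕`. -/
structure GCl (p : ℕ) (𝓕 𝓕₂ : Subgroup G → Prop) : Prop where
  sub : ∀ P : Subgroup G, IsPGroup p P → 𝓕₂ P → 𝓕 P
  up : ∀ P Q : Subgroup G, P ≤ Q → IsPGroup p Q → 𝓕₂ P → 𝓕 Q → 𝓕₂ Q
  inv : ∀ (g : G) (P : Subgroup G), IsPGroup p P → 𝓕₂ P → 𝓕₂ (cj g P)

/-- A family that is closed under `p`-overgroups and conjugation. -/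
theorem fam_of_up (up : ∀ P Q : Subgroup G, P ≤ Q → IsPGroup p Q → 𝓕 P → 𝓕 Q)
    (inv : ∀ (g : G) (P : Subgroup G), 𝓕 P → 𝓕 (cj g P)) : Fam p ⊤ 𝓕 := 
  ⟨fun _ _ _ h1 h2 _ hp hF _ => up _ _ h1 (hp.to_le h2) hF, fun g _ P _ => inv g P⟩

theorem GSys.sys (S : GSys p 𝓕 b a) (A : Am p G Ω) :
    Sys (⊤ : Subgroup G) (LR ⊤ (Set.univ : Set Ω) 𝓕) (fun l => b (St ⊤ l)) (fun l => a (St ⊤ l)) := by
  have hp : ∀ {l : List Ω}, LR (⊤ : Subgroup G) Set.univ 𝓕 l → IsPGroup p (St (⊤ : Subgroup G) l) :=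
    fun hl => A.isPGroup hl.1 hl.2.1
  refine ⟨lr_cvx A S.fam.cvx, lr_inv A fun g hg P hP _ => S.fam.inv g hg P hP, fun l hl => S.le _ (hp hl) hl.2.2,
    fun l l' hl hl' h => S.anti_a _ _ (St_anti _ h) (hp hl) hl'.2.2 hl.2.2,
    fun l l' hl hl' h => S.anti_b _ _ (St_anti _ h) (hp hl) hl'.2.2 hl.2.2, fun g hg l hl u hu => ?_,
    fun g hg l hl u hu => ?_, fun l hl => S.triv _ (hp hl) hl.2.2⟩
  · show g • u ∈ a (St ⊤ (sm g l))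
    rw [St_sm hg]; exact S.smul_a g _ (hp hl) hl.2.2 u hu
  · show g • u ∈ b (St ⊤ (sm g l))
    rw [St_sm hg]; exact S.smul_b g _ (hp hl) hl.2.2 u hu

theorem GSys.restrict (S : GSys p 𝓕 b a) (F : Fam p ⊤ 𝓕') (sub : ∀ P : Subgroup G, IsPGroup p P → 𝓕' P → 𝓕 P) :
    GSys p 𝓕' b a := 
  ⟨F, fun P hp h => S.le P hp (sub P hp h),
    fun P Q h hp h1 h2 => S.anti_a P Q h hp (sub P (hp.to_le h) h1) (sub Q hp h2),
    fun P Q h hp h1 h2 => S.anti_b P Q h hp (sub P (hp.to_le h) h1) (sub Q hp h2),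
    fun g P hp h => S.smul_a g P hp (sub P hp h), fun g P hp h => S.smul_b g P hp (sub P hp h),
    fun P hp h => S.triv P hp (sub P hp h), fun P hp h => S.tor P hp (sub P hp h)⟩

/-- The difference of an up-closed invariant pair of families. -/
theorem GCl.fam_diff (C : GCl p 𝓕 𝓕₂) (F : Fam p ⊤ 𝓕) (inv' : ∀ (g : G) (P : Subgroup G), 𝓕₂ P → 𝓕₂ (cj g P)) :
    Fam p ⊤ (fun P => 𝓕 P ∧ ¬ 𝓕₂ P) := 
  ⟨fun _ _ _ h1 h2 h3 hp hF hF' => ⟨F.cvx _ _ _ h1 h2 h3 hp hF.1 hF'.1, fun h => hF'.2 (C.up _ _ h2 hp h hF'.1)⟩,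
    fun g hg P hP h => ⟨F.inv g hg P hP h.1, fun h' => h.2 (by
      have := inv' g⁻¹ _ h'
      rwa [← cj_mul, inv_mul_cancel, cj_one] at this)⟩⟩

theorem GEx.congr (h : GEx Ω 𝓕 b a m) (A : Am p G Ω)
    (inv : ∀ (g : G) (P : Subgroup G), IsPGroup p P → 𝓕 P → 𝓕 (cj g P))
    (hF : ∀ l : List Ω, IsPGroup p (St (⊤ : Subgroup G) l) → (𝓕 (St ⊤ l) ↔ 𝓕' (St ⊤ l)))
    (hb : ∀ P : Subgroup G, IsPGroup p P → 𝓕 P → b P = b' P)
    (ha : ∀ P : Subgroup G, IsPGroup p P → 𝓕 P → a P = a' P) : GEx Ω 𝓕' b' a' m := 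
  Ex.congr h (lr_inv A fun g _ P _ => inv g P)
    (fun l => and_congr_right fun h1 => and_congr_right fun h2 => hF l (A.isPGroup h1 h2))
    (fun _ hl => hb _ (A.isPGroup hl.1 hl.2.1) hl.2.2) fun _ hl => ha _ (A.isPGroup hl.1 hl.2.1) hl.2.2

theorem gl2 (A : Am p G Ω) (Sba : GSys p 𝓕 b a) (Scb : GSys p 𝓕 c b) (Sca : GSys p 𝓕 c a) (h1 : GEx Ω 𝓕 c a m)
    (h2 : GEx Ω 𝓕 b a (m + 1)) : GEx Ω 𝓕 c b m := 
  l2 (Sba.sys A) (Scb.sys A) (Sca.sys A) h1 h2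

theorem GCl.cl (C : GCl p 𝓕 𝓕₂) (A : Am p G Ω) :
    Cl (⊤ : Subgroup G) (LR ⊤ (Set.univ : Set Ω) 𝓕) (LR ⊤ (Set.univ : Set Ω) 𝓕₂) :=
  cl_LR A (fun P _ => C.sub P) (fun P Q h _ => C.up P Q h) fun g _ P _ => C.inv g P

theorem gf1 (A : Am p G Ω) (S : GSys p 𝓕 b a) (C : GCl p 𝓕 𝓕₂) (h1 : GEx Ω (fun P => 𝓕 P ∧ ¬ 𝓕₂ P) b a m)
    (h2 : GEx Ω 𝓕₂ b a m) : GEx Ω 𝓕 b a m := 
  f1 (S.sys A) (C.cl A) (by simp only [lr_diff]; exact h1) h2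

theorem gf2 (A : Am p G Ω) (S : GSys p 𝓕 b a) (C : GCl p 𝓕 𝓕₂) (h1 : GEx Ω 𝓕 b a m)
    (h2 : GEx Ω (fun P => 𝓕 P ∧ ¬ 𝓕₂ P) b a (m + 1)) : GEx Ω 𝓕₂ b a m := 
  f2 (S.sys A) (C.cl A) h1 (by simp only [lr_diff]; exact h2)

/-- Reduction to the normalisers of labels. -/
theorem gred (A : Am p G Ω) (S : GSys p 𝓕 b a) (j : Subgroup G → Subgroup G) (r : Subgroup G → ℕ) (N : ℕ)
    (hN : ∀ Y, r Y ≤ N) (hr : ∀ g Y, r (cj g Y) = r Y) (hj : ∀ g P, j (cj g P) = cj g (j P))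
    (hm : ∀ P Q : Subgroup G, P ≤ Q → r (j P) < r (j Q) ∨ j P = j Q)
    (loc : ∀ P₀ : Subgroup G, IsPGroup p P₀ → 𝓕 P₀ →
      HEx Ω (normalizer (j P₀ : Set G)) (fun P => 𝓕 P ∧ j P = j P₀) b a m) : GEx Ω 𝓕 b a m := by
  refine red (S.sys A) cj cj_one cj_mul (fun l => j (St ⊤ l)) r N (fun _ _ => hN _)
    (fun g hg l _ => by rw [St_sm hg, hj, hr]) (fun g hg l _ => by rw [St_sm hg, hj])
    (fun l l' _ _ h => hm _ _ (St_anti _ h)) (fun Y => normalizer (Y : Set G))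
    (fun Y g => by rw [cj_eq_iff]; simp) fun l₀ hl₀ => ?_
  refine Ex.congr (loc _ (A.isPGroup hl₀.1 hl₀.2.1) hl₀.2.2) (fun g hg l hl => ?_)
    (fun l => ⟨fun h => ⟨⟨h.1, h.2.1, h.2.2.1⟩, h.2.2.2⟩, fun h => ⟨h.1.1, h.1.2.1, h.1.2.2, h.2⟩⟩)
    (fun _ _ => rfl) fun _ _ => rfl
  refine ⟨fun h => hl.1 (sm_eq_nil.1 h), fun _ _ => trivial, ?_⟩
  rw [St_sm (mem_top g)]
  exact ⟨S.fam.inv g trivial _ le_top hl.2.2.1, by rw [hj, hl.2.2.2, cj_eq_iff.2 hg]⟩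

theorem St_map {G' : Type*} [Group G'] [MulAction G' Ω] (π : G →* G') (hπ : Function.Surjective π)
    (hq : ∀ (g : G) (y : Ω), π g • y = g • y) (l : List Ω) :
    St (⊤ : Subgroup G') l = (St (⊤ : Subgroup G) l).map π := by
  ext g'
  obtain ⟨g, rfl⟩ := hπ g'
  refine ⟨fun h => ⟨g, ⟨trivial, fun y hy => by rw [← hq]; exact h.2 y hy⟩, rfl⟩, ?_⟩
  rintro ⟨k, hk, e⟩
  exact ⟨trivial, fun y hy => by rw [← e, hq]; exact hk.2 y hy⟩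

/-- Transport along a surjection of groups compatible with the actions on `Ω`. -/
theorem gtr {G' : Type*} [Group G'] [MulAction G' Ω] {B' : Type*} [AddCommGroup B'] [DistribMulAction G' B']
    (π : G →* G') (hπ : Function.Surjective π) (hq : ∀ (g : G) (y : Ω), π g • y = g • y) (A : Am p G Ω)
    {𝓕' : Subgroup G' → Prop} {a' b' : Subgroup G' → AddSubgroup B'}
    (inv : ∀ (g : G) (P : Subgroup G), IsPGroup p P → 𝓕 P → 𝓕 (cj g P))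
    (hF : ∀ P : Subgroup G, IsPGroup p P → π.ker ≤ P → (𝓕 P ↔ 𝓕' (P.map π)))
    (C : Subgroup G → B' → B → Prop) (c0 : ∀ P : Subgroup G, IsPGroup p P → 𝓕 P → C P 0 0)
    (csub : ∀ P : Subgroup G, IsPGroup p P → 𝓕 P → ∀ u' u v' v, C P u' u → C P v' v → C P (u' - v') (u - v))
    (cmono : ∀ P Q : Subgroup G, P ≤ Q → IsPGroup p Q → 𝓕 P → 𝓕 Q → ∀ u' u, C Q u' u → C P u' u)
    (csmul : ∀ (g : G) (P : Subgroup G), IsPGroup p P → 𝓕 P → ∀ u' u, C P u' u → C (cj g P) (π g • u') (g • u))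
    (cmem : ∀ P : Subgroup G, IsPGroup p P → 𝓕 P → ∀ u' u, C P u' u → u' ∈ b' (P.map π) ∧ u ∈ b P)
    (cex : ∀ P : Subgroup G, IsPGroup p P → 𝓕 P → ∀ u ∈ b P, ∃ u', C P u' u)
    (cex' : ∀ P : Subgroup G, IsPGroup p P → 𝓕 P → ∀ u' ∈ b' (P.map π), ∃ u, C P u' u)
    (cker : ∀ P : Subgroup G, IsPGroup p P → 𝓕 P → ∀ u' u, C P u' u → (u' ∈ a' (P.map π) ↔ u ∈ a P)) :
    GEx Ω 𝓕' b' a' m ↔ GEx Ω 𝓕 b a m := by
  have hp : ∀ {l : List Ω}, LR (⊤ : Subgroup G) Set.univ 𝓕 l → IsPGroup p (St (⊤ : Subgroup G) l) :=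
    fun hl => A.isPGroup hl.1 hl.2.1
  have hR : ∀ l : List Ω, LR (⊤ : Subgroup G') Set.univ 𝓕' l ↔ LR (⊤ : Subgroup G) Set.univ 𝓕 l := fun l =>
    and_congr_right fun h1 => and_congr_right fun h2 => by
      rw [St_map π hπ hq, hF _ (A.isPGroup h1 h2) fun g hg => ⟨trivial, fun y _ => by
        rw [← hq, MonoidHom.mem_ker.1 hg, one_smul]⟩]
  have hsm : ∀ (g : G) (l : List Ω), sm (π g) l = sm g l := fun g l => by simp only [sm, hq]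
  have inv1 : ∀ g ∈ (⊤ : Subgroup G), ∀ l : List Ω, LR (⊤ : Subgroup G) Set.univ 𝓕 l →
      LR (⊤ : Subgroup G) Set.univ 𝓕 (sm g l) := lr_inv A fun g _ P _ => inv g P
  have inv2 : ∀ g ∈ (⊤ : Subgroup G'), ∀ l : List Ω, LR (⊤ : Subgroup G) Set.univ 𝓕 l →
      LR (⊤ : Subgroup G) Set.univ 𝓕 (sm g l) := fun g' _ l hl => by
    obtain ⟨g, rfl⟩ := hπ g'
    rw [hsm]; exact inv1 g trivial l hl
  have e1 : GEx Ω 𝓕' b' a' m ↔ Ex (⊤ : Subgroup G') (LR (⊤ : Subgroup G) (Set.univ : Set Ω) 𝓕)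
      (fun l => b' ((St (⊤ : Subgroup G) l).map π)) (fun l => a' ((St (⊤ : Subgroup G) l).map π)) m := by
    simp only [GEx, St_map π hπ hq, funext fun l => propext (hR l)]
  rw [e1]
  refine ⟨fun h => tr (H := ⊤) (H' := ⊤) (fun g' g => π g = g') (fun g _ => ⟨π g, trivial, rfl⟩)
    (fun g' _ => (hπ g').imp fun _ h => ⟨trivial, h⟩) (fun g' g e y => e ▸ hq g y) inv1 (fun l => C (St ⊤ l))
    (fun l hl => c0 _ (hp hl) hl.2.2) (fun l hl => csub _ (hp hl) hl.2.2)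
    (fun l l' hl hl' h => cmono _ _ (St_anti _ h) (hp hl) hl'.2.2 hl.2.2)
    (fun g' _ g hg e l hl u' u hc => by rw [St_sm hg, ← e]; exact csmul g _ (hp hl) hl.2.2 u' u hc)
    (fun l hl => cmem _ (hp hl) hl.2.2) (fun l hl => cex _ (hp hl) hl.2.2) (fun l hl => cex' _ (hp hl) hl.2.2)
    (fun l hl => cker _ (hp hl) hl.2.2) h, fun h => tr (H := ⊤) (H' := ⊤) (fun g g' => π g = g')
    (fun g' _ => (hπ g').imp fun _ h => ⟨trivial, h⟩) (fun g _ => ⟨π g, trivial, rfl⟩)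
    (fun g g' e y => e ▸ (hq g y).symm) inv2 (fun l u u' => C (St ⊤ l) u' u)
    (fun l hl => c0 _ (hp hl) hl.2.2) (fun l hl u u' v v' => csub _ (hp hl) hl.2.2 u' u v' v)
    (fun l l' hl hl' h u u' => cmono _ _ (St_anti _ h) (hp hl) hl'.2.2 hl.2.2 u' u)
    (fun g hg g' _ e l hl u u' hc => by rw [← e, hsm, St_sm hg]; exact csmul g _ (hp hl) hl.2.2 u' u hc)
    (fun l hl u u' hc => (cmem _ (hp hl) hl.2.2 u' u hc).symm) (fun l hl => cex' _ (hp hl) hl.2.2)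
    (fun l hl => cex _ (hp hl) hl.2.2) (fun l hl u u' hc => (cker _ (hp hl) hl.2.2 u' u hc).symm) h⟩

theorem am_map {G' : Type*} [Group G'] [MulAction G' Ω] (π : G →* G') (hπ : Function.Surjective π)
    (hq : ∀ (g : G) (y : Ω), π g • y = g • y) (hk : IsPGroup p π.ker) (A : Am p G Ω) : Am p G' Ω := by
  refine ⟨fun _ _ _ _ => trivial, fun y hy => ?_, fun P _ hP => ?_⟩
  · rw [St_map π hπ hq]; exact (A.pgrp y hy).map π
  · obtain ⟨y, -, hy⟩ := A.fix (P.comap π) le_top (hP.comap_of_ker_isPGroup π hk)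
    refine ⟨y, trivial, fun g' hg' => ?_⟩
    obtain ⟨g, rfl⟩ := hπ g'
    rw [hq]; exact hy g hg'

end CfsgLib.MPZ
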