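import Mathlib
import Cfsg.Agent.Lib.MPZ.Loc0
import Cfsg.Agent.Lib.Transfer.Yoshida

set_option autoImplicit false

namespace CfsgLib.MPZ

open Subgroup CfsgLib.Fusion

/-! MPZ package PT: the partial transfer homotopy. -/

variable {G : Type*} [Group G] {Ω : Type*} [MulAction G Ω] {B : Type*} [AddCommGroup B] [DistribMulAction G B]
  {p : ℕ} {H Q Y : Subgroup G} {β U : AddSubgroup B} {m : ℕ} {O : Finset Ω} {X : List Ω → Prop}

open Classical in
/-- The error term of the homotopy at `l` lies in `U`. -/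
def Good (H : Subgroup G) (O : Finset Ω) (X : List Ω → Prop) (β U : AddSubgroup B) (l : List Ω) : Prop :=
  ∀ w : Ω → B, (∀ y, w y ∈ β) → (∀ g ∈ St H l, ∀ y, w (g • y) = g • w y) →
    ∑ y ∈ O.filter (fun y => ¬ X (y :: l)), w y ∈ U

/-- The elements of `β` killed by `p ^ i`. -/
def lay (p : ℕ) (β : AddSubgroup B) (i : ℕ) : AddSubgroup B where
  carrier := {u | u ∈ β ∧ p ^ i • u = 0}
  zero_mem' := ⟨β.zero_mem, nsmul_zero _⟩
  add_mem' := fun {u v} hu hv => ⟨β.add_mem hu.1 hv.1, by rw [nsmul_add, hu.2, hv.2, add_zero]⟩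
  neg_mem' := fun {u} hu => ⟨β.neg_mem hu.1, by rw [neg_nsmul, hu.2, neg_zero]⟩

/-- The data of the homotopy: an invariant finite set of order prime to `p` and an invariant family of lists
closed under non-empty faces. -/
structure XF (p : ℕ) (H : Subgroup G) (O : Finset Ω) (X : List Ω → Prop) (m : ℕ) : Prop where
  orb : ∀ g ∈ H, ∀ y, g • y ∈ O ↔ y ∈ O
  ndvd : ¬ p ∣ O.card
  inv : ∀ g ∈ H, ∀ l, X l → X (sm g l)
  cl : ∀ l l', l ⊆ l' → l ≠ [] → X l' → X l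
  base : X [] ∨ 2 ≤ m

theorem mem_lay {i : ℕ} {u : B} : u ∈ lay p β i ↔ u ∈ β ∧ p ^ i • u = 0 := Iff.rfl

theorem Md.lay (M : Md p H β) (i : ℕ) : Md p H (lay p β i) := 
  ⟨fun g hg u hu => ⟨M.inv g hg u hu.1, by rw [smul_comm, hu.2, smul_zero]⟩, i, fun _ hu => hu.2⟩

theorem XF.cvx (h : XF p H O X m) : ∀ l l' l'', l ⊆ l' → l' ⊆ l'' → X l → X l'' → X l' := fun l l' l'' h1 h2 h3 h4 => by
  by_cases e : l' = []
  · subst e
    rwa [List.subset_nil.1 h1] at h3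
  · exact h.cl l' l'' h2 e h4

theorem XF.sys (h : XF p H O X m) (M : Md p H β) : Sys H X (fun l => Fx β (St H l)) (fun _ => ⊥) := 
  sys_Fx M.inv h.cvx h.inv

variable [Finite G] [Fact p.Prime]

/-- The powers `a ^ i`, `i < p`, are coset representatives of a normal subgroup of index `p`. -/
theorem pt_reps {A : Subgroup G} (hn : Q ≤ normalizer (A : Set G)) (hi : A.relIndex Q = p) {a : G} (ha : a ∈ Q)
    (haA : a ∉ A) : (∀ i < p, ∀ j < p, (a ^ i)⁻¹ * a ^ j ∈ A → i = j) ∧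
      ∀ q ∈ Q, ∃ i < p, (a ^ i)⁻¹ * q ∈ A := by
  classical
  haveI : (A.subgroupOf Q).Normal := normal_subgroupOf_of_le_normalizer hn
  have hc : Nat.card (Q ⧸ A.subgroupOf Q) = p := hi
  have h1 : (QuotientGroup.mk (⟨a, ha⟩ : Q) : Q ⧸ A.subgroupOf Q) ≠ 1 := fun e =>
    haA (mem_subgroupOf.1 ((QuotientGroup.eq_one_iff _).1 e))
  have ho : orderOf (QuotientGroup.mk (⟨a, ha⟩ : Q) : Q ⧸ A.subgroupOf Q) = p := by
    rw [orderOf_eq_card_of_forall_mem_zpowers fun x => mem_zpowers_of_prime_card hc h1, hc]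
  refine ⟨fun i hi j hj h => ?_, fun q hq => ?_⟩
  · refine pow_injOn_Iio_orderOf (x := (QuotientGroup.mk (⟨a, ha⟩ : Q) : Q ⧸ A.subgroupOf Q))
      (by rwa [ho]) (by rwa [ho]) ?_
    show _ ^ i = _ ^ j
    rw [← QuotientGroup.mk_pow, ← QuotientGroup.mk_pow, QuotientGroup.eq]
    exact mem_subgroupOf.2 h
  · have := mem_zpowers_of_prime_card hc h1 (g' := QuotientGroup.mk ⟨q, hq⟩)
    rw [mem_zpowers_iff_mem_range_orderOf, ho, Finset.mem_image] at this
    obtain ⟨i, hi, e⟩ := this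
    rw [← QuotientGroup.mk_pow, QuotientGroup.eq] at e
    exact ⟨i, Finset.mem_range.1 hi, mem_subgroupOf.1 e⟩

/-- Orbit sums for a `p`-group without fixed points. -/
theorem os (hQ : IsPGroup p Q) (hY : Y ≤ Q) (T : Finset Ω) (hT : ∀ g ∈ Q, ∀ y ∈ T, g • y ∈ T)
    (hfix : ∀ g ∈ Y, ∀ y ∈ T, g • y = y) (hno : ∀ y ∈ T, ∃ g ∈ Q, g • y ≠ y)
    (K : ∀ A₀, Y ≤ A₀ → A₀ ≤ Q → A₀.relIndex Q = p → Kill p Q A₀ β U) (w : Ω → B) (hw : ∀ y, w y ∈ β)
    (hq : ∀ g ∈ Q, ∀ y, w (g • y) = g • w y) : ∑ y ∈ T, w y ∈ U := by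
  classical
  induction' hn : T.card using Nat.strong_induction_on with n ih generalizing T
  rcases T.eq_empty_or_nonempty with rfl | ⟨y, hy⟩
  · simp
  obtain ⟨A, h1, h2, h3, h4⟩ := Transfer.exists_normal_relIndex_ge (D := St Q [y]) hQ (St_le _ _) fun h => by
    obtain ⟨g, hg, e⟩ := hno y hy
    exact e ((h hg).2 y (by simp))
  have hYA : Y ≤ A := fun g hg => h1 ⟨hY hg, fun z hz => by rw [List.mem_singleton.1 hz]; exact hfix g hg y hy⟩
  obtain ⟨a, ha, haA⟩ : ∃ a ∈ Q, a ∉ A := by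
    by_contra! h
    rw [relIndex_eq_one.2 h] at h4
    exact (Fact.out : p.Prime).one_lt.ne h4
  obtain ⟨r1, r2⟩ := pt_reps h3 h4 ha haA
  have hT' : ∀ g ∈ Q, ∀ z, g • z ∈ T ↔ z ∈ T := fun g hg z =>
    ⟨fun h => by simpa using hT _ (inv_mem hg) _ h, hT g hg z⟩
  have ho : ∀ L : Subgroup G, ∀ g ∈ L, ∀ z, (∃ k ∈ L, k • y = g • z) ↔ ∃ k ∈ L, k • y = z := fun L g hg z =>
    ⟨fun ⟨k, hk, e⟩ => ⟨g⁻¹ * k, mul_mem (inv_mem hg) hk, by rw [mul_smul, e, inv_smul_smul]⟩,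
      fun ⟨k, hk, e⟩ => ⟨g * k, mul_mem hg hk, by rw [mul_smul, e]⟩⟩
  rw [← Finset.sum_filter_add_sum_filter_not T (fun z => ∃ k ∈ Q, k • y = z)]
  refine add_mem ?_ (ih _ ?_ _ (fun g hg z hz => ?_) (fun g hg z hz => hfix g hg z (Finset.mem_filter.1 hz).1)
    (fun z hz => hno z (Finset.mem_filter.1 hz).1) rfl)
  · have e : ∑ z ∈ T.filter (fun z => ∃ k ∈ Q, k • y = z), w z =
        ∑ i ∈ Finset.range p, a ^ i • ∑ z ∈ T.filter (fun z => ∃ k ∈ A, k • y = z), w z := by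
      simp only [Finset.smul_sum]
      rw [← Finset.sum_product']
      symm
      refine Finset.sum_nbij (fun x => a ^ x.1 • x.2) (fun x hx => ?_) (fun x hx x' hx' e => ?_) (fun z hz => ?_)
        fun x _ => (hq _ (pow_mem ha _) _).symm
      · obtain ⟨z1, k, hk, e⟩ := Finset.mem_filter.1 (Finset.mem_product.1 hx).2
        exact Finset.mem_filter.2 ⟨hT _ (pow_mem ha _) _ z1, (ho Q _ (pow_mem ha _) _).2 ⟨k, h2 hk, e⟩⟩
      · obtain ⟨i1, i2⟩ := Finset.mem_product.1 (Finset.mem_coe.1 hx)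
        obtain ⟨j1, j2⟩ := Finset.mem_product.1 (Finset.mem_coe.1 hx')
        obtain ⟨-, k, hk, ek⟩ := Finset.mem_filter.1 i2
        obtain ⟨-, k', hk', ek'⟩ := Finset.mem_filter.1 j2
        have e' : a ^ x.1 • x.2 = a ^ x'.1 • x'.2 := e
        have h5 : k⁻¹ * ((a ^ x.1)⁻¹ * a ^ x'.1) * k' ∈ A := h1 ⟨mul_mem (mul_mem (inv_mem (h2 hk))
          (mul_mem (inv_mem (pow_mem ha _)) (pow_mem ha _))) (h2 hk'), fun z hz => by
            rw [List.mem_singleton.1 hz, mul_smul, mul_smul, mul_smul, ek', ← e', inv_smul_smul, ← ek, inv_smul_smul]⟩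
        have h6 : x.1 = x'.1 := r1 _ (Finset.mem_range.1 i1) _ (Finset.mem_range.1 j1) (by
          simpa [mul_assoc] using mul_mem (mul_mem hk h5) (inv_mem hk'))
        rw [h6] at e'
        exact Prod.ext h6 (smul_left_cancel _ e')
      · obtain ⟨z1, k, hk, e⟩ := Finset.mem_filter.1 (Finset.mem_coe.1 hz)
        obtain ⟨i, hi, h5⟩ := r2 k hk
        refine ⟨(i, (a ^ i)⁻¹ • z), Finset.mem_coe.2 (Finset.mem_product.2 ⟨Finset.mem_range.2 hi,
          Finset.mem_filter.2 ⟨hT _ (inv_mem (pow_mem ha _)) _ z1, _, h5, by rw [mul_smul, e]⟩⟩), smul_inv_smul _ _⟩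
    rw [e]
    refine K A hYA h2 h4 _ (sum_mem fun z _ => hw z) (fun g hg => ?_) a ha haA
    rw [Finset.smul_sum, ← sum_smul_eq (g := g) (fun z => by
      simp only [Finset.mem_filter, hT' g (h2 hg), ho A g hg]) w]
    exact Finset.sum_congr rfl fun z _ => (hq g (h2 hg) z).symm
  · rw [← hn]
    exact Finset.card_lt_card (Finset.filter_ssubset.2 ⟨y, hy, not_not.2 ⟨1, one_mem _, one_smul _ _⟩⟩)
  · rw [Finset.mem_filter] at hz ⊢
    exact ⟨hT g hg z hz.1, fun h => hz.2 ((ho Q g hg z).1 h)⟩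

theorem good_of (h : XF p H O X m) {l : List Ω} (hl : Q ≤ St H l) (hQ : IsPGroup p Q) (hY : Y ≤ Q)
    (hfix : ∀ g ∈ Y, ∀ y ∈ O, g • y = y) (hX : ∀ y ∈ O, (∀ g ∈ Q, g • y = y) → X (y :: l))
    (K : ∀ A₀, Y ≤ A₀ → A₀ ≤ Q → A₀.relIndex Q = p → Kill p Q A₀ β U) : Good H O X β U l := by
  classical
  intro w hw hq
  have hs : ∀ g ∈ St H l, ∀ y, sm g (y :: l) = g • y :: l := fun g hg y => by
    rw [sm_cons, sm_eq_self.2 hg.2]
  refine os hQ hY _ (fun g hg y hy => ?_) (fun g hg y hy => hfix g hg y (Finset.mem_filter.1 hy).1)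
    (fun y hy => ?_) K w hw fun g hg => hq g (hl hg)
  · rw [Finset.mem_filter] at hy ⊢
    refine ⟨(h.orb g (hl hg).1 y).2 hy.1, fun e => hy.2 ?_⟩
    have := h.inv _ (inv_mem (hl hg)).1 _ e
    rwa [hs _ (inv_mem (hl hg)), inv_smul_smul] at this
  · rw [Finset.mem_filter] at hy
    by_contra! e
    exact hy.2 (hX y hy.1 e)

theorem pt (h : XF p H O X m) (M : Md p H β) {ξ : List Ω → B}
    (hξ : Coch H X (fun l => Fx β (St H l)) (fun _ => ⊥) ξ) (hd : ∀ l, X l → l.length = m + 1 → d ξ l = 0) :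
    ∃ η, Coch H X (fun l => Fx β (St H l)) (fun _ => ⊥) η ∧
      ∀ l, X l → l.length = m → ∀ U : AddSubgroup B, Good H O X β U l → ξ l - d η l ∈ U := by
  classical
  obtain ⟨e, he⟩ := M.tor
  obtain ⟨c, k, hc⟩ := exists_inv_card h.ndvd e
  have hβ : ∀ l, ξ l ∈ β := fun l => by
    by_cases hl : X l
    · exact (hξ.mem l hl).1
    · rw [hξ.zero l hl]; exact zero_mem _
  have hq := fun g hg l => hξ.eqv_bot h.inv (g := g) hg l
  have hs : ∀ g ∈ H, ∀ l, c • ∑ y ∈ O, ξ (y :: sm g l) = g • c • ∑ y ∈ O, ξ (y :: l) := fun g hg l => by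
    rw [smul_comm g c, Finset.smul_sum (r := g), ← sum_smul_eq (h.orb g hg)]
    exact congrArg _ (Finset.sum_congr rfl fun y _ => hq g hg (y :: l))
  refine ⟨fun l => if X l then c • ∑ y ∈ O, ξ (y :: l) else 0, ⟨fun l hl => ?_, fun l hl => if_neg hl,
    fun g hg l hl => ?_⟩, fun l hl hm U hU => ?_⟩
  · rw [if_pos hl]
    exact ⟨nsmul_mem (sum_mem fun y _ => hβ _) c, fun g hg => by rw [← hs g hg.1, sm_eq_self.2 hg.2]⟩
  · rw [if_pos hl, if_pos (h.inv g hg l hl), hs g hg, sub_self]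
    exact zero_mem _
  · rw [d_congr (η := fun l => c • ∑ y ∈ O, ξ (y :: l)) fun l' h1 h2 => if_pos (by
      by_cases e : l' = []
      · subst e
        exact h.base.resolve_right (by rw [← hm, ← h2]; simp)
      · exact h.cl l' l h1 e hl), d_nsmul, d_cone, smul_sub, smul_smul, hc, add_smul, one_smul, mul_smul, he _ (hβ l),
      smul_zero, add_zero, sub_sub_cancel, ← Finset.sum_filter_add_sum_filter_not O (fun y => X (y :: l)),
      Finset.sum_eq_zero fun y hy => hd _ (Finset.mem_filter.1 hy).2 (by simp [hm]), zero_add]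
    refine nsmul_mem (hU (fun y => d ξ (y :: l)) (fun y => d_mem β fun l' _ _ => hβ l') fun g hg y => ?_) c
    rw [← d_smul, show g • y :: l = sm g (y :: l) by rw [sm_cons, sm_eq_self.2 hg.2], ← d_sm]
    exact d_congr fun l' _ _ => hq g hg.1 l'

theorem pt_lay (h : XF p H O X m) (M : Md p H β) (i₀ : ℕ)
    (hg : ∀ i, i₀ ≤ i → ∀ l, X l → l.length = m → Good H O X (lay p β (i + 1)) (lay p β i) l) {ξ : List Ω → B}
    (hξ : Coch H X (fun l => Fx β (St H l)) (fun _ => ⊥) ξ) (hd : ∀ l, X l → l.length = m + 1 → d ξ l = 0) :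
    ∃ η, Coch H X (fun l => Fx β (St H l)) (fun _ => ⊥) η ∧
      ∀ l, X l → l.length = m → ξ l - d η l ∈ lay p β i₀ := by
  have key : ∀ n, ∀ ξ : List Ω → B, Coch H X (fun l => Fx β (St H l)) (fun _ => ⊥) ξ →
      (∀ l, X l → l.length = m + 1 → d ξ l = 0) → (∀ l, X l → l.length = m → ξ l ∈ lay p β (i₀ + n)) →
      ∃ η, Coch H X (fun l => Fx β (St H l)) (fun _ => ⊥) η ∧
        ∀ l, X l → l.length = m → ξ l - d η l ∈ lay p β i₀ := fun n => by
    induction n with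
    | zero => exact fun ξ _ _ h3 => ⟨_, coch_zero _ _ _ _, fun l hl hm => by rw [d_zero, sub_zero]; exact h3 l hl hm⟩
    | succ n ih =>
      intro ξ h1 h2 h3
      have c1 : Coch H X (fun l => Fx (lay p β (i₀ + n + 1)) (St H l)) (fun _ => ⊥) (trunc m ξ) :=
        (h1.trunc m).mono h.inv (fun l hl => by
          by_cases e : l.length = m
          · rw [trunc_pos _ e]; exact ⟨h3 l hl e, (h1.mem l hl).2⟩
          · rw [trunc_neg _ e]; exact zero_mem _) fun _ _ => le_rfl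
      obtain ⟨η₁, c2, e1⟩ := pt h (M.lay _) c1 fun l hl hm => by rw [d_trunc _ hm]; exact h2 l hl hm
      have c3 : Coch H X (fun l => Fx β (St H l)) (fun _ => ⊥) η₁ :=
        c2.mono h.inv (fun l hl => ⟨(c2.mem l hl).1.1, (c2.mem l hl).2⟩) fun _ _ => le_rfl
      obtain ⟨η₂, c4, e2⟩ := ih _ (h1.sub (c3.dR (h.sys M)))
        (fun l hl hm => by rw [d_sub, h2 l hl hm, d_dR h.cvx c3.zero hl, sub_zero]) fun l hl hm => by
          have := e1 l hl hm _ (hg (i₀ + n) (Nat.le_add_right _ _) l hl hm)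
          rwa [trunc_pos _ hm, ← dR_pos (R := X) η₁ hl] at this
      refine ⟨_, c3.add c4, fun l hl hm => ?_⟩
      have := e2 l hl hm
      rwa [dR_pos _ hl, sub_sub, ← d_add] at this
  obtain ⟨e, he⟩ := M.tor
  exact key e ξ hξ hd fun l hl _ => ⟨(hξ.mem l hl).1, by rw [pow_add, mul_smul, he _ (hξ.mem l hl).1, smul_zero]⟩

theorem pt2 (h : XF p H O X m) (M : Md p H β)
    (hg : ∀ i l, X l → l.length = m → Good H O X (lay p β (i + 1)) (lay p β i) l) :
    Ex H X (fun l => Fx β (St H l)) (fun _ => ⊥) m := fun ξ hξ hd => by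
  obtain ⟨η, c, e⟩ := pt_lay h M 0 (fun i _ => hg i) hξ hd
  exact ⟨η, c, fun l hl hm => by simpa using (e l hl hm).2⟩

end CfsgLib.MPZ
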