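import Mathlib
import Cfsg.Agent.Lib.MPZ.Pt

set_option autoImplicit false

namespace CfsgLib.MPZ

open Subgroup CfsgLib.Fusion

/-! MPZ package V2: vanishing when a `p`-subgroup outside `Q` acts trivially. -/

variable {G : Type*} [Group G] [Finite G] {Ω : Type*} [MulAction G Ω] {B : Type*} [AddCommGroup B]
  [DistribMulAction G B] {p : ℕ} [Fact p.Prime] {H C Q R : Subgroup G} {W : Set Ω} {β : AddSubgroup B}
  {𝓕 : Subgroup G → Prop} {m : ℕ}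

omit [Finite G] [Fact p.Prime] in
theorem v2_syl_cj {P : Subgroup G} {g : G} (hg : g ∈ normalizer (C : Set G)) (h : SylIn p (P ⊓ C) C) :
    SylIn p (cj g P ⊓ C) C := by
  have := h.map_conj_of_mem_normalizer hg
  rwa [map_conj_inf, map_conj_eq_of_mem_normalizer hg] at this

omit [Finite G] [Fact p.Prime] in
theorem v2_syl_up {T P : Subgroup G} (h : SylIn p T C) (hle : T ≤ P) (hP : IsPGroup p P) : SylIn p (P ⊓ C) C := by
  rwa [h.eq_of_le hP.to_inf_left (le_inf hle h.le) inf_le_right]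

omit [Finite G] [Fact p.Prime] in
theorem v2_fam (F : Fam p H 𝓕) (hn : H ≤ normalizer (C : Set G)) :
    Fam p H (fun P => 𝓕 P ∧ ¬ SylIn p (P ⊓ C) C) :=
  ⟨fun P₁ P₂ P₃ h1 h2 h3 h4 h5 h6 => ⟨F.cvx P₁ P₂ P₃ h1 h2 h3 h4 h5.1 h6.1,
      fun h => h6.2 (v2_syl_up h (inf_le_left.trans h2) h4)⟩,
    fun g hg P hP h => ⟨F.inv g hg P hP h.1, fun e => h.2 (by
      have := v2_syl_cj (inv_mem (hn hg)) e
      rwa [← cj_mul, inv_mul_cancel, cj_one] at this)⟩⟩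

/-- The lists whose stabiliser does not contain a Sylow subgroup of a normal subgroup `C` acting trivially. -/
theorem nsyl (A : Amb p H W) (M : Md p H β) (hC : C ≤ H) (hn : H ≤ normalizer (C : Set G))
    (hβ : ∀ g ∈ C, ∀ u ∈ β, g • u = u) (m : ℕ) : LEx H W β (fun P => ¬ SylIn p (P ⊓ C) C) m := by
  obtain ⟨O, o1, o2, o3⟩ := A.exists_orbit
  let X : List Ω → Prop := fun l => In W l ∧ (l = [] ∨ SylIn p (St H l ⊓ C) C)
  have hX : ∀ k, XF p H O X k := fun k =>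
    ⟨o2, o3, fun g hg l hl => ⟨A.in_sm hg hl.1, hl.2.imp sm_eq_nil.2 fun h => by
        rw [St_sm hg]; exact v2_syl_cj (hn hg) h⟩,
      fun l l' h1 h2 h3 => ⟨fun y hy => h3.1 y (h1 hy), .inr (v2_syl_up
        (h3.2.resolve_left fun e => h2 (List.subset_nil.1 (e ▸ h1))) (inf_le_left.trans (St_anti H h1))
        (A.isPGroup h2 fun y hy => h3.1 y (h1 hy)))⟩,
      .inl ⟨fun _ h => by simp at h, .inl rfl⟩⟩
  have hE : ∀ k, Ex H X (fun l => Fx β (St H l)) (fun _ => ⊥) k := fun k => pt2 (hX k) M fun i l hl _ => by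
    obtain ⟨T, t1, t2⟩ : ∃ T, SylIn p T C ∧ T ≤ St H l := by
      rcases hl.2 with rfl | h
      · obtain ⟨T, hT⟩ := exists_sylIn p C
        exact ⟨T, hT, by rw [St_nil]; exact hT.le.trans hC⟩
      · exact ⟨_, h, inf_le_left⟩
    refine good_of (Y := ⊥) (hX k) t2 t1.isPGroup bot_le (fun g hg y _ => by rw [mem_bot.1 hg, one_smul])
      (fun y hy hf => ?_) fun A₀ _ _ _ u hu _ a ha _ => ?_
    · have hW : In W (y :: l) := fun z hz => (List.mem_cons.1 hz).elim (fun e => e ▸ o1 y hy) (hl.1 z)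
      exact ⟨hW, .inr (v2_syl_up t1 (fun g hg => mem_St_cons.2 ⟨t2 hg, hf g hg⟩) (A.isPGroup (by simp) hW))⟩
    · rw [Finset.sum_congr rfl fun j _ => hβ _ (pow_mem (t1.le ha) j) u hu.1, Finset.sum_const, Finset.card_range]
      exact ⟨nsmul_mem hu.1 p, by rw [smul_smul, ← pow_succ]; exact hu.2⟩
  have S : Sys H (In W) (fun l => Fx β (St H l)) (fun _ => ⊥) :=
    sys_Fx M.inv (fun _ _ _ _ h2 _ h4 y hy => h4 y (h2 hy)) fun g hg l hl => A.in_sm hg hl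
  have C1 : Cl H (In W) X := ⟨fun _ h => h.1, fun l l' h1 h2 h3 => by
    by_cases e : l = []
    · exact ⟨h2, .inl e⟩
    · exact (hX 0).cl l l' h1 e h3, (hX 0).inv⟩
  refine (f3 S C1 (t0x A M m) fun k _ => hE k).congr (S.cl₁ C1).inv (fun l => ?_) (fun _ _ => rfl) fun _ _ => rfl
  exact ⟨fun h => ⟨fun e => h.2 ⟨h.1, .inl e⟩, h.1, fun e => h.2 ⟨h.1, .inr e⟩⟩,
    fun h => ⟨h.2.1, fun e => e.2.elim h.1 h.2.2⟩⟩

theorem v2a (A : Amb p H W) (M : Md p H β) (hQ : Q ≤ H) (hp : IsPGroup p Q) (hn : H ≤ normalizer (Q : Set G))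
    (hW : ∀ g ∈ Q, ∀ y ∈ W, g • y = y) (hβ : ∀ g ∈ Q, ∀ u ∈ β, g • u = u) (hR : R ≤ H) (hRp : IsPGroup p R)
    (hRQ : ¬ R ≤ Q) (hRβ : ∀ g ∈ R, ∀ u ∈ β, g • u = u) (m : ℕ) : LEx H W β (fun P => P = Q) m := by
  induction' hn' : Nat.card G - Nat.card Q using Nat.strong_induction_on with n ih generalizing H W β Q R m
  let C : Subgroup G :=
    { carrier := {g | g ∈ H ∧ ∀ u ∈ β, g • u = u}
      one_mem' := ⟨H.one_mem, fun u _ => one_smul G u⟩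
      mul_mem' := fun {a b} ha hb => ⟨H.mul_mem ha.1 hb.1, fun u hu => by rw [mul_smul, hb.2 u hu, ha.2 u hu]⟩
      inv_mem' := fun {a} ha => ⟨H.inv_mem ha.1, fun u hu => by rw [inv_smul_eq_iff, ha.2 u hu]⟩ }
  have hC : C ≤ H := fun _ h => h.1
  have key : ∀ g ∈ H, ∀ c ∈ C, g * c * g⁻¹ ∈ C := fun g hg c hc =>
    ⟨mul_mem (mul_mem hg hc.1) (inv_mem hg), fun u hu => by
      rw [mul_smul, mul_smul, hc.2 _ (M.inv _ (inv_mem hg) u hu), smul_inv_smul]⟩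
  have hCn : H ≤ normalizer (C : Set G) := fun g hg => mem_normalizer_iff.2 fun c =>
    ⟨key g hg c, fun h => by simpa [mul_assoc] using key _ (inv_mem hg) _ h⟩
  have hQC : Q ≤ C := fun g hg => ⟨hQ hg, hβ g hg⟩
  have hns : ¬ SylIn p (Q ⊓ C) C := fun h => by
    rw [inf_eq_left.2 hQC] at h
    exact hRQ (le_sup_right.trans (h.eq_of_le (IsPGroup.to_sup_of_normal_left' hp hRp (hR.trans hn)) le_sup_left
      (sup_le hQC fun g hg => ⟨hR hg, hRβ g hg⟩)).le)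
  have F1 := v2_fam (fam_true p H) hCn
  have F2 : Fam p H (fun P => Q < P ∧ ¬ SylIn p (P ⊓ C) C) :=
    v2_fam ⟨fun _ _ _ h1 _ _ _ h5 _ => h5.trans_le h1, fun g hg P _ h => by
      rw [← cj_eq_iff.2 (hn hg)]
      exact lt_of_le_of_ne (cj_mono g h.le) fun e => h.ne ((cj_inj g).1 e)⟩ hCn
  have C1 : Cl H (LR H W fun P => True ∧ ¬ SylIn p (P ⊓ C) C) (LR H W fun P => Q < P ∧ ¬ SylIn p (P ⊓ C) C) :=
    cl_LR A (fun _ _ _ h => ⟨trivial, h.2⟩) (fun _ _ h1 _ _ h4 h5 => ⟨h4.1.trans_le h1, h5.2⟩)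
      fun g hg P hP _ h => F2.inv g hg P hP h
  have E1 : LEx H W β (fun P => True ∧ ¬ SylIn p (P ⊓ C) C) m := by
    simpa only [true_and] using nsyl A M hC hCn (fun g hg => hg.2) m
  have E2 : ∀ k, LEx H W β (fun P => Q < P ∧ ¬ SylIn p (P ⊓ C) C) k := fun k => lred A M F2 fun P hP hPp h => by
    obtain ⟨R', r1, r2, r3, r4⟩ := esc hP hPp hC hCn h.2
    refine ih _ ?_ (A.loc hP hPp) (M.loc P) (le_inf hP le_normalizer) hPp inf_le_right (fun g hg y hy => hy.2 g hg)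
      (fun g hg u hu => hu.2 g hg) (le_inf (r1.trans hC) r3) r2 r4 (fun g hg u hu => (r1 hg).2 u hu.1) k rfl
    have h1 : Nat.card Q < Nat.card P := lt_of_not_ge fun e => h.1.ne (eq_of_le_of_card_le' h.1.le e)
    have h2 : Nat.card P ≤ Nat.card G := P.card_le_card_group
    omega
  have S := sys_LR A M F1
  refine (f3 S C1 E1 fun k _ => E2 k).congr (S.cl₁ C1).inv (fun l => ?_) (fun _ _ => rfl) fun _ _ => rfl
  rw [lr_diff]
  refine and_congr_right fun _ => and_congr_right fun h2 => ⟨fun h => ?_, fun h => ?_⟩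
  · by_contra e
    exact h.2 ⟨lt_of_le_of_ne (fun g hg => ⟨hQ hg, fun y hy => hW g hg y (h2 y hy)⟩) (Ne.symm e), h.1.2⟩
  · have h' : St H l = Q := h
    rw [h']
    exact ⟨⟨trivial, hns⟩, fun e => lt_irrefl _ e.1⟩

theorem v2 (A : Amb p H W) (M : Md p H β) (F : Fam p H 𝓕)
    (he : ∀ Q ≤ H, IsPGroup p Q → 𝓕 Q → ∃ R ≤ H, IsPGroup p R ∧ R ≤ normalizer (Q : Set G) ∧ ¬ R ≤ Q ∧
      ∀ g ∈ R, ∀ u ∈ Fx β Q, g • u = u) (m : ℕ) : LEx H W β 𝓕 m := 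
  lred A M F fun Q hQ hp h => by
    obtain ⟨R, r1, r2, r3, r4, r5⟩ := he Q hQ hp h
    exact v2a (A.loc hQ hp) (M.loc Q) (le_inf hQ le_normalizer) hp inf_le_right (fun g hg y hy => hy.2 g hg)
      (fun g hg u hu => hu.2 g hg) (le_inf r1 r3) r2 r4 r5 m

theorem triv (A : Amb p H W) (M : Md p H β) (F : Fam p H 𝓕)
    (h : ∀ P ≤ H, IsPGroup p P → ∀ g ∈ P, ∀ u ∈ β, g • u = u) (hm : 2 ≤ m) : LEx H W β 𝓕 m := by
  have hcl : ∀ {𝓖 : Subgroup G → Prop}, Fam p H 𝓖 → Cl H (LR H W 𝓖) (LR H W fun P => 𝓖 P ∧ SylIn p (P ⊓ H) H) :=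
    fun F' => cl_LR A (fun _ _ _ h => h.1) (fun _ _ h1 _ h3 h4 h5 => ⟨h5, v2_syl_up h4.2 (inf_le_left.trans h1) h3⟩)
      fun g hg P hP _ h => ⟨F'.inv g hg P hP h.1, v2_syl_cj (le_normalizer hg) h.2⟩
  have non : ∀ {𝓖 : Subgroup G → Prop}, Fam p H 𝓖 → ∀ k, Ex H (fun l => LR H W 𝓖 l ∧
      ¬ LR H W (fun P => 𝓖 P ∧ SylIn p (P ⊓ H) H) l) (fun l => Fx β (St H l)) (fun _ => ⊥) k := fun F' k => by
    have F2 := v2_fam F' (le_normalizer (H := H))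
    refine Ex.congr (v2 A M F2 (fun Q hQ hp h' => ?_) k) (sys_LR A M F2).inv (fun l => ?_) (fun _ _ => rfl)
      fun _ _ => rfl
    · obtain ⟨R, r1, r2, r3, r4⟩ := esc hQ hp le_rfl le_normalizer h'.2
      exact ⟨R, r1, r2, r3, r4, fun g hg u hu => h R r1 r2 g hg u hu.1⟩
    · rw [lr_diff]
      exact and_congr_right fun _ => and_congr_right fun _ => and_congr_right fun h3 => by simp [h3]
  refine f1 (sys_LR A M F) (hcl F) (non F m) ?_
  by_cases hex : ∃ P ≤ H, 𝓕 P ∧ SylIn p (P ⊓ H) H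
  swap
  · exact ex_empty fun l hl _ => hex ⟨_, St_le _ _, hl.2.2⟩
  obtain ⟨P, hP, h1, h2⟩ := hex
  refine (f2 (sys_LR A M (fam_true p H)) (hcl (fam_true p H)) (t0' A M hm) (non (fam_true p H) _)).congr
    (hcl (fam_true p H)).inv (fun l => ?_) (fun _ _ => rfl) fun _ _ => rfl
  refine and_congr_right fun _ => and_congr_right fun _ => and_congr_left fun h3 => ⟨fun _ => ?_, fun _ => trivial⟩
  rw [inf_eq_left.2 (St_le H l)] at h3
  rw [inf_eq_left.2 hP] at h2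
  obtain ⟨y, hy, e⟩ := h3.exists_map_conj_eq h2
  rw [← e]
  exact F.inv y hy P hP h1

end CfsgLib.MPZ
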