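import Mathlib
import Cfsg.Agent.Lib.MPZ.Glob
import Cfsg.Agent.Lib.MPZ.V2

set_option autoImplicit false

namespace CfsgLib.MPZ

open Subgroup CfsgLib.Fusion

/-! MPZ package GV2: transport to a module of the normaliser; vanishing for systems indexed by subgroups. -/

variable {G : Type*} [Group G] [Finite G] {Ω : Type*} [MulAction G Ω] {B : Type*} [AddCommGroup B]
  [DistribMulAction G B] {p : ℕ} [Fact p.Prime] {𝓕 𝓖 : Subgroup G → Prop} {a b : Subgroup G → AddSubgroup B}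
  {m : ℕ} {Y H Q R : Subgroup G}

omit [Finite G] in
theorem gv2_fix {y : Ω} : y ∈ FixW (Set.univ : Set Ω) (Y.subgroupOf (normalizer (Y : Set G))) ↔
    y ∈ FixW (Set.univ : Set Ω) Y :=
  and_congr_right fun _ => ⟨fun h g hg => h ⟨g, le_normalizer hg⟩ hg, fun h g hg => h g hg⟩

theorem amb_sub (A : Am p G Ω) (hY : IsPGroup p Y) :
    Amb p (⊤ : Subgroup (normalizer (Y : Set G)))
      (FixW (Set.univ : Set Ω) (Y.subgroupOf (normalizer (Y : Set G)))) := by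
  have L := A.loc le_top hY
  refine ⟨fun g _ y hy => gv2_fix.2 (L.inv g ⟨trivial, g.2⟩ y (gv2_fix.1 hy)), fun y _ => ?_, fun P _ hP => ?_⟩
  · exact ((A.pgrp y trivial).comap_subtype (K := normalizer (Y : Set G))).to_le fun g hg => ⟨trivial, hg.2⟩
  · obtain ⟨y, hy, e⟩ := L.fix (P.map (normalizer (Y : Set G)).subtype) (le_inf le_top (map_subtype_le P)) (hP.map _)
    exact ⟨y, gv2_fix.2 hy, fun g hg => e g ⟨g, hg, rfl⟩⟩

theorem St_subtype (N : Subgroup G) (l : List Ω) :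
    St (⊤ : Subgroup N) l = (St (⊤ : Subgroup G) l).subgroupOf N := 
  Subgroup.ext fun _ => ⟨fun h => ⟨trivial, h.2⟩, fun h => ⟨trivial, h.2⟩⟩

/-- Transport to the fixed point system of a module `D` of the normaliser of `Y`. -/
theorem gmod (A : Am p G Ω)
    (hY : ∀ P : Subgroup G, IsPGroup p P → 𝓖 P → Y ≤ P ∧ normalizer (P : Set G) ≤ normalizer (Y : Set G))
    (inv : ∀ g ∈ normalizer (Y : Set G), ∀ P : Subgroup G, IsPGroup p P → 𝓖 P → 𝓖 (cj g P))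
    {D : Type*} [AddCommGroup D] [DistribMulAction (normalizer (Y : Set G)) D]
    (C : Subgroup G → D → B → Prop) (c0 : ∀ P : Subgroup G, IsPGroup p P → 𝓖 P → C P 0 0)
    (csub : ∀ P : Subgroup G, IsPGroup p P → 𝓖 P → ∀ u' u v' v, C P u' u → C P v' v → C P (u' - v') (u - v))
    (cmono : ∀ P Q : Subgroup G, P ≤ Q → IsPGroup p Q → 𝓖 P → 𝓖 Q → ∀ u' u, C Q u' u → C P u' u)
    (csmul : ∀ (g : normalizer (Y : Set G)) (P : Subgroup G), IsPGroup p P → 𝓖 P → ∀ u' u, C P u' u →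
      C (cj (g : G) P) (g • u') ((g : G) • u))
    (cmem : ∀ P : Subgroup G, IsPGroup p P → 𝓖 P → ∀ u' u, C P u' u →
      (∀ g : normalizer (Y : Set G), (g : G) ∈ P → g • u' = u') ∧ u ∈ b P)
    (cex : ∀ P : Subgroup G, IsPGroup p P → 𝓖 P → ∀ u ∈ b P, ∃ u', C P u' u)
    (cex' : ∀ P : Subgroup G, IsPGroup p P → 𝓖 P → ∀ u' : D,
      (∀ g : normalizer (Y : Set G), (g : G) ∈ P → g • u' = u') → ∃ u, C P u' u)
    (cker : ∀ P : Subgroup G, IsPGroup p P → 𝓖 P → ∀ u' u, C P u' u → (u' = 0 ↔ u ∈ a P))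
    (h : LEx (⊤ : Subgroup (normalizer (Y : Set G)))
      (FixW (Set.univ : Set Ω) (Y.subgroupOf (normalizer (Y : Set G)))) (⊤ : AddSubgroup D)
      (fun P' => 𝓖 (P'.map (normalizer (Y : Set G)).subtype)) m) :
    HEx Ω (normalizer (Y : Set G)) 𝓖 b a m := by
  have hp : ∀ l, LR ⊤ (Set.univ : Set Ω) 𝓖 l → IsPGroup p (St (⊤ : Subgroup G) l) := fun l hl =>
    A.isPGroup hl.1 hl.2.1
  have hinv : ∀ g ∈ normalizer (Y : Set G), ∀ l, LR ⊤ (Set.univ : Set Ω) 𝓖 l → LR ⊤ (Set.univ : Set Ω) 𝓖 (sm g l) :=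
    fun g hg l hl => ⟨fun e => hl.1 (sm_eq_nil.1 e), fun _ _ => trivial, by
      rw [St_sm (mem_top g)]; exact inv g hg _ (hp l hl) hl.2.2⟩
  have hR : ∀ l : List Ω, LR (⊤ : Subgroup (normalizer (Y : Set G)))
      (FixW (Set.univ : Set Ω) (Y.subgroupOf (normalizer (Y : Set G))))
      (fun P' => 𝓖 (P'.map (normalizer (Y : Set G)).subtype)) l ↔ LR ⊤ (Set.univ : Set Ω) 𝓖 l := fun l => by
    simp only [LR, St_subtype, subgroupOf_map_subtype]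
    refine and_congr_right fun h0 => ⟨fun h => ⟨fun _ _ => trivial, ?_⟩, fun h => ?_⟩
    · have h1 := A.isPGroup h0 fun _ _ => trivial
      have := le_of_label (K := normalizer (Y : Set G)) h1 fun g _ hg => (hY _ h1.to_inf_left h.2).2 hg
      simpa only [inf_eq_left.2 this] using h.2
    · obtain ⟨h1, h2⟩ := hY _ (A.isPGroup h0 h.1) h.2
      refine ⟨fun y hy => gv2_fix.2 ⟨trivial, fun g hg => (h1 hg).2 y hy⟩, ?_⟩
      rw [inf_eq_left.2 (le_normalizer.trans h2)]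
      exact h.2
  refine tr (H' := (⊤ : Subgroup (normalizer (Y : Set G)))) (a' := fun _ => ⊥)
    (b' := fun l => Fx (⊤ : AddSubgroup D) (St (⊤ : Subgroup (normalizer (Y : Set G))) l)) (fun g' g => (g' : G) = g)
    (fun g hg => ⟨⟨g, hg⟩, trivial, rfl⟩) (fun g' _ => ⟨g', g'.2, rfl⟩) (fun g' g e y => e ▸ rfl) hinv
    (fun l => C (St ⊤ l)) (fun l hl => c0 _ (hp l hl) hl.2.2) (fun l hl => csub _ (hp l hl) hl.2.2)
    (fun l l' hl hl' hs => cmono _ _ (St_anti _ hs) (hp l hl) hl'.2.2 hl.2.2)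
    (fun g' _ g _ e l hl u' u hu => ?_) (fun l hl u' u hu => ?_) (fun l hl => cex _ (hp l hl) hl.2.2)
    (fun l hl u' hu => cex' _ (hp l hl) hl.2.2 u' fun g hg => hu.2 g ⟨trivial, hg.2⟩)
    (fun l hl u' u hu => AddSubgroup.mem_bot.trans (cker _ (hp l hl) hl.2.2 u' u hu))
    (Ex.congr h (fun g _ l hl => (hR _).2 (hinv g g.2 l ((hR l).1 hl))) hR (fun _ _ => rfl) fun _ _ => rfl)
  · subst e
    rw [St_sm (mem_top _)]
    exact csmul g' _ (hp l hl) hl.2.2 u' u hu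
  · obtain ⟨h1, h2⟩ := cmem _ (hp l hl) hl.2.2 u' u hu
    exact ⟨⟨trivial, fun g hg => h1 g ⟨trivial, hg.2⟩⟩, h2⟩

universe v in
omit [Finite G] in
/-- The quotient module of an invariant pair of subgroups. -/
theorem gv2_quot {B : Type v} [AddCommGroup B] [DistribMulAction G B] (N : Subgroup G) (b a : AddSubgroup B)
    (hb : ∀ g ∈ N, ∀ u ∈ b, g • u ∈ b) (ha : ∀ g ∈ N, ∀ u ∈ a, g • u ∈ a) :
    ∃ (D : Type v) (_ : AddCommGroup D) (_ : DistribMulAction N D) (π : b →+ D), Function.Surjective π ∧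
      (∀ u, π u = 0 ↔ (u : B) ∈ a) ∧ ∀ (g : N) (u : b), π ⟨(g : G) • u, hb g g.2 u u.2⟩ = g • π u := by
  let φ : N → b →+ b := fun g =>
    ((DistribMulAction.toAddMonoidHom B (g : G)).comp b.subtype).codRestrict b fun u => hb g g.2 u u.2
  let f : N → (b ⧸ a.addSubgroupOf b) →+ (b ⧸ a.addSubgroupOf b) := fun g =>
    QuotientAddGroup.map _ _ (φ g) fun u hu => ha g g.2 u hu
  refine ⟨b ⧸ a.addSubgroupOf b, inferInstance,
    { smul := fun g x => f g x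
      one_smul := fun x => ?_
      mul_smul := fun g h x => ?_
      smul_zero := fun g => map_zero (f g)
      smul_add := fun g => map_add (f g) }, QuotientAddGroup.mk' _, QuotientAddGroup.mk'_surjective _,
    fun u => QuotientAddGroup.eq_zero_iff u, fun _ _ => rfl⟩
  · obtain ⟨u, rfl⟩ := QuotientAddGroup.mk_surjective x
    exact congrArg QuotientAddGroup.mk (Subtype.ext (mul_smul (g : G) (h : G) (u : B)))
  · obtain ⟨u, rfl⟩ := QuotientAddGroup.mk_surjective x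
    exact congrArg QuotientAddGroup.mk (Subtype.ext (one_smul G (u : B)))

/-- The atomic case. -/
theorem gat (A : Am p G Ω) (S : GSys p 𝓕 b a) (hQ : IsPGroup p Q) (hF : 𝓕 Q) (hR : IsPGroup p R)
    (hn : R ≤ normalizer (Q : Set G)) (hRQ : ¬ R ≤ Q) (ht : ∀ g ∈ R, ∀ u ∈ b Q, g • u - u ∈ a Q) (m : ℕ) :
    HEx Ω (normalizer (Q : Set G)) (fun P => P = Q) b a m := by
  obtain ⟨D, _, _, π, h1, h2, h3⟩ := gv2_quot (normalizer (Q : Set G)) (b Q) (a Q)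
    (fun g hg u hu => by simpa only [cj_eq_iff.2 hg] using S.smul_b g Q hQ hF u hu)
    (fun g hg u hu => by simpa only [cj_eq_iff.2 hg] using S.smul_a g Q hQ hF u hu)
  have fx : ∀ g : normalizer (Q : Set G), (∀ u ∈ b Q, (g : G) • u - u ∈ a Q) → ∀ x : D, g • x = x := fun g hg x => by
    obtain ⟨u, rfl⟩ := h1 x
    rw [← h3, ← sub_eq_zero, ← map_sub, h2]
    exact hg u u.2
  refine gmod A (fun P _ e => e ▸ ⟨le_rfl, le_rfl⟩) (fun g hg P _ e => e ▸ cj_eq_iff.2 (e ▸ hg))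
    (fun _ u' u => ∃ hu : u ∈ b Q, u' = π ⟨u, hu⟩) (fun _ _ _ => ⟨zero_mem _, (map_zero π).symm⟩)
    (fun _ _ _ u' u v' v ⟨hu, e⟩ ⟨hv, e'⟩ => ⟨sub_mem hu hv, by rw [e, e', ← map_sub]; rfl⟩)
    (fun _ _ _ _ _ _ _ _ h => h) (fun g _ _ _ u' u ⟨hu, e⟩ => ⟨_, (congrArg _ e).trans (h3 g ⟨u, hu⟩).symm⟩)
    (fun P _ e u' u ⟨hu, _⟩ => ⟨fun g hg => fx g (S.triv Q hQ hF g (e ▸ hg)) u', e ▸ hu⟩)
    (fun P _ e u hu => ⟨_, e ▸ hu, rfl⟩) (fun P _ _ u' _ => ?_) (fun P _ e u' u ⟨hu, e'⟩ => by rw [e', h2, e]) ?_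
  · obtain ⟨u, rfl⟩ := h1 u'
    exact ⟨u, u.2, rfl⟩
  have M : Md p (⊤ : Subgroup (normalizer (Q : Set G))) (⊤ : AddSubgroup D) := ⟨fun _ _ _ _ => trivial, by
    obtain ⟨e, he⟩ := S.tor Q hQ hF
    refine ⟨e, fun x _ => ?_⟩
    obtain ⟨u, rfl⟩ := h1 x
    rw [← map_nsmul, h2]
    exact he u u.2⟩
  have := v2a (Q := Q.subgroupOf (normalizer (Q : Set G))) (R := R.subgroupOf (normalizer (Q : Set G)))
    (amb_sub A hQ) M le_top hQ.comap_subtype (normalizer_eq_top _).ge (fun g hg y hy => hy.2 g hg)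
    (fun g hg u _ => fx g (S.triv Q hQ hF g hg) u) le_top hR.comap_subtype
    (fun h => hRQ fun g hg => h (show (⟨g, hn hg⟩ : normalizer (Q : Set G)) ∈ _ from hg))
    (fun g hg u _ => fx g (ht g hg) u) m
  convert this using 2 with P'
  refine ⟨fun e => ?_, fun e => by rw [e, subgroupOf_map_subtype, inf_eq_left.2 le_normalizer]⟩
  rw [← comap_map_eq_self_of_injective (normalizer (Q : Set G)).subtype_injective P', e]
  rfl

theorem gv2' (A : Am p G Ω) (S : GSys p 𝓕 b a) (sub : ∀ P : Subgroup G, IsPGroup p P → 𝓖 P → 𝓕 P)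
    (cvx : ∀ P₁ P₂ P₃ : Subgroup G, P₁ ≤ P₂ → P₂ ≤ P₃ → IsPGroup p P₃ → 𝓖 P₁ → 𝓖 P₃ → 𝓖 P₂)
    (inv : ∀ g ∈ H, ∀ P : Subgroup G, IsPGroup p P → 𝓖 P → 𝓖 (cj g P))
    (hN : ∀ P : Subgroup G, IsPGroup p P → 𝓖 P → normalizer (P : Set G) ≤ H)
    (he : ∀ Q : Subgroup G, IsPGroup p Q → 𝓖 Q → ∃ R : Subgroup G, IsPGroup p R ∧ R ≤ normalizer (Q : Set G) ∧
      ¬ R ≤ Q ∧ ∀ g ∈ R, ∀ u ∈ b Q, g • u - u ∈ a Q) (m : ℕ) : HEx Ω H 𝓖 b a m := by
  have hp : ∀ l, LR ⊤ (Set.univ : Set Ω) 𝓖 l → IsPGroup p (St (⊤ : Subgroup G) l) := fun l hl =>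
    A.isPGroup hl.1 hl.2.1
  have S' : Sys H (LR ⊤ (Set.univ : Set Ω) 𝓖) (fun l => b (St ⊤ l)) (fun l => a (St ⊤ l)) :=
    (S.sys A).restrict le_top (fun l hl => ⟨hl.1, hl.2.1, sub _ (hp l hl) hl.2.2⟩)
      (lr_cvx A fun P₁ P₂ P₃ h1 h2 _ => cvx P₁ P₂ P₃ h1 h2) fun g hg l hl =>
        ⟨fun e => hl.1 (sm_eq_nil.1 e), fun _ _ => trivial, by
          rw [St_sm (mem_top g)]; exact inv g hg _ (hp l hl) hl.2.2⟩
  refine red S' cj cj_one cj_mul (St ⊤) (fun P => Nat.card P) (Nat.card G) (fun l _ => card_le_card_group _)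
    (fun g _ l _ => by rw [St_sm (mem_top g), card_cj]) (fun g _ l _ => St_sm (mem_top g) l) (fun l l' _ _ hs => ?_)
    (fun Q => H ⊓ normalizer (Q : Set G)) (fun Q g => by rw [mem_inf, cj_eq_iff]) fun l₀ h₀ => ?_
  · exact (lt_or_ge _ _).imp_right fun h => eq_of_le_of_card_le' (St_anti _ hs) h
  · obtain ⟨R, r1, r2, r3, r4⟩ := he _ (hp l₀ h₀) h₀.2.2
    rw [inf_eq_right.2 (hN _ (hp l₀ h₀) h₀.2.2)]
    refine Ex.congr (gat A S (hp l₀ h₀) (sub _ (hp l₀ h₀) h₀.2.2) r1 r2 r3 r4 m) (fun g hg l hl => ?_)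
      (fun l => ⟨fun h => ⟨⟨h.1, h.2.1, ?_⟩, h.2.2⟩, fun h => ⟨h.1.1, h.1.2.1, h.2⟩⟩) (fun _ _ => rfl) fun _ _ => rfl
    · refine ⟨fun e => hl.1 (sm_eq_nil.1 e), fun _ _ => trivial, ?_⟩
      have e : St ⊤ l = St ⊤ l₀ := hl.2.2
      show St ⊤ (sm g l) = St ⊤ l₀
      rw [St_sm (mem_top g), e, cj_eq_iff.2 hg]
    · have e : St ⊤ l = St ⊤ l₀ := h.2.2
      rw [e]; exact h₀.2.2

theorem gv2 (A : Am p G Ω) (S : GSys p 𝓕 b a)
    (he : ∀ Q : Subgroup G, IsPGroup p Q → 𝓕 Q → ∃ R : Subgroup G, IsPGroup p R ∧ R ≤ normalizer (Q : Set G) ∧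
      ¬ R ≤ Q ∧ ∀ g ∈ R, ∀ u ∈ b Q, g • u - u ∈ a Q) (m : ℕ) : GEx Ω 𝓕 b a m := 
  gv2' (H := ⊤) A S (fun _ _ h => h) (fun P₁ P₂ P₃ h1 h2 => S.fam.cvx P₁ P₂ P₃ h1 h2 le_top)
    (fun g hg P _ => S.fam.inv g hg P le_top) (fun _ _ _ => le_top) he m

end CfsgLib.MPZ
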