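import Mathlib
import Cfsg.Agent.Lib.MPZ.Loc0

set_option autoImplicit false
set_option linter.unusedSectionVars false

namespace CfsgLib.MPZ

open Subgroup CfsgLib.Fusion

/-! MPZ package TH: the Thompson subgroup and centric subgroups. -/

variable {G : Type*} [Group G] {p : ℕ} {P Q A Y : Subgroup G}

theorem mem_Zc {x : G} : x ∈ Zc P ↔ x ∈ P ∧ ∀ y ∈ P, y * x = x * y := Iff.rfl

theorem Zc_le (P : Subgroup G) : Zc P ≤ P := inf_le_left

theorem Zc_cj (g : G) (P : Subgroup G) : Zc (cj g P) = cj g (Zc P) := by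
  rw [Zc, Zc, cj, cj, map_conj_inf, map_conj_centralizer]

theorem th_cj_inv (g : G) (P : Subgroup G) : cj g⁻¹ (cj g P) = P := by rw [← cj_mul, inv_mul_cancel, cj_one]

theorem th_cj_inv' (g : G) (P : Subgroup G) : cj g (cj g⁻¹ P) = P := by rw [← cj_mul, mul_inv_cancel, cj_one]

theorem Cen.up (h : Cen p P) (hle : P ≤ Q) : Cen p Q := fun R hR hp =>
  (h R (hR.trans (centralizer_le hle)) hp).trans hle

theorem Cen.conj (h : Cen p P) (g : G) : Cen p (cj g P) := fun R hR hp => by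
  rw [← map_conj_centralizer] at hR
  rw [← th_cj_inv' g R]
  refine cj_mono g (h _ ?_ (isPGroup_cj _ hp))
  exact (cj_mono g⁻¹ hR).trans (th_cj_inv g _).le

theorem Cen.zc_le (h : Cen p P) (hle : P ≤ Q) (hQ : IsPGroup p Q) : Zc Q ≤ Zc P :=
  le_inf (h _ (inf_le_right.trans (centralizer_le hle)) (hQ.to_le inf_le_left))
    (inf_le_right.trans (centralizer_le hle))

theorem fam_cen (p : ℕ) (G : Type*) [Group G] : Fam p (⊤ : Subgroup G) (Cen p) :=
  ⟨fun _ _ _ h _ _ _ h1 _ => h1.up h, fun g _ _ _ h => h.conj g⟩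

theorem th_sup_comm {A B : Subgroup G} (hA : IsMulCommutative A) (hB : IsMulCommutative B)
    (h : A ≤ centralizer (B : Set G)) : IsMulCommutative (A ⊔ B : Subgroup G) := by
  rw [← le_centralizer_iff_isMulCommutative] at hA hB ⊢
  exact sup_le (le_centralizer_iff.2 (sup_le hA (le_centralizer_iff.1 h))) (le_centralizer_iff.2 (sup_le h hB))

theorem th_comm_le {A B : Subgroup G} (hB : IsMulCommutative B) (h : A ≤ B) : IsMulCommutative A := by
  rw [← le_centralizer_iff_isMulCommutative] at hB ⊢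
  exact h.trans (hB.trans (centralizer_le h))

theorem th_cent_le (A : Subgroup G) : centralizer (A : Set G) ≤ normalizer (A : Set G) := fun x hx =>
  mem_normalizer_iff.2 fun y => ⟨fun hy => by rwa [← hx y hy, mul_inv_cancel_right], fun hy => by
    have := hx _ hy
    rw [inv_mul_cancel_right, mul_right_inj] at this
    rwa [← this] at hy⟩

variable [Finite G]

theorem th_bdd (P : Subgroup G) :
    BddAbove {n | ∃ A : Subgroup G, A ≤ P ∧ IsMulCommutative A ∧ Nat.card A = n} :=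
  ⟨Nat.card G, by rintro _ ⟨A, -, -, rfl⟩; exact card_le_card_group A⟩

theorem exists_MA (P : Subgroup G) : ∃ A, MA P A :=
  Nat.sSup_mem (s := {n | ∃ A : Subgroup G, A ≤ P ∧ IsMulCommutative A ∧ Nat.card A = n})
    ⟨_, ⊥, bot_le, inferInstance, rfl⟩ (th_bdd P)

theorem card_le_dd (hA : A ≤ P) (hc : IsMulCommutative A) : Nat.card A ≤ dd P :=
  le_csSup (th_bdd P) ⟨A, hA, hc, rfl⟩

theorem dd_mono (h : P ≤ Q) : dd P ≤ dd Q := by
  obtain ⟨A, h1, h2, h3⟩ := exists_MA P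
  exact h3 ▸ card_le_dd (h1.trans h) h2

theorem dd_le (P : Subgroup G) : dd P ≤ Nat.card G := by
  obtain ⟨A, -, -, h3⟩ := exists_MA P
  exact h3 ▸ card_le_card_group A

theorem th_dd_cj_le (g : G) (P : Subgroup G) : dd P ≤ dd (cj g P) := by
  obtain ⟨A, h1, h2, h3⟩ := exists_MA P
  rw [← h3, ← card_cj g A]
  exact card_le_dd (cj_mono g h1) inferInstance

theorem dd_cj (g : G) (P : Subgroup G) : dd (cj g P) = dd P :=
  le_antisymm (by simpa only [th_cj_inv] using th_dd_cj_le g⁻¹ (cj g P)) (th_dd_cj_le g P)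

theorem MA.conj (h : MA P A) (g : G) : MA (cj g P) (cj g A) :=
  ⟨cj_mono g h.1, by have := h.2.1; infer_instance, by rw [card_cj, dd_cj, h.2.2]⟩

theorem MA.le_JJ (h : MA P A) : A ≤ JJ P := le_sSup h

theorem JJ_le (P : Subgroup G) : JJ P ≤ P := sSup_le fun _ h => h.1

theorem th_JJ_cj_le (g : G) (P : Subgroup G) : cj g (JJ P) ≤ JJ (cj g P) :=
  map_le_iff_le_comap.2 (sSup_le fun _ h => map_le_iff_le_comap.1 (MA.conj h g).le_JJ)

theorem JJ_cj (g : G) (P : Subgroup G) : JJ (cj g P) = cj g (JJ P) := by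
  refine le_antisymm ?_ (th_JJ_cj_le g P)
  have := cj_mono g (th_JJ_cj_le g⁻¹ (cj g P))
  rwa [th_cj_inv, th_cj_inv'] at this

theorem normalizer_le_JJ (P : Subgroup G) : normalizer (P : Set G) ≤ normalizer (JJ P : Set G) := fun g hg => by
  rw [← cj_eq_iff] at hg ⊢
  rw [← JJ_cj, hg]

theorem dd_JJ (P : Subgroup G) : dd (JJ P) = dd P := by
  obtain ⟨A, h⟩ := exists_MA P
  exact le_antisymm (dd_mono (JJ_le P)) (h.2.2 ▸ card_le_dd h.le_JJ h.2.1)

theorem MA.of_le (h : MA P A) (hle : P ≤ Q) (hd : dd Q ≤ dd P) : MA Q A :=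
  ⟨h.1.trans hle, h.2.1, h.2.2.trans (le_antisymm (dd_mono hle) hd)⟩

theorem MA.of_card (hA : A ≤ P) (hc : IsMulCommutative A) (hd : dd P ≤ Nat.card A) : MA P A :=
  ⟨hA, hc, le_antisymm (card_le_dd hA hc) hd⟩

theorem JJ_mono_of_dd (h : P ≤ Q) (hd : dd Q ≤ dd P) : JJ P ≤ JJ Q :=
  sSup_le fun _ hA => (MA.of_le hA h hd).le_JJ

theorem JJ_JJ (P : Subgroup G) : JJ (JJ P) = JJ P :=
  le_antisymm (JJ_le _) (sSup_le fun _ hA =>
    MA.le_JJ ⟨MA.le_JJ hA, hA.2.1, hA.2.2.trans (dd_JJ P).symm⟩)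

theorem MA.cent (h : MA P A) {x : G} (hx : x ∈ P) (hc : ∀ y ∈ A, y * x = x * y) : x ∈ A := by
  have e : A = zpowers x ⊔ A := Core.eq_of_le_of_card_le le_sup_right (h.2.2 ▸ card_le_dd
    (sup_le (zpowers_le.2 hx) h.1) (th_sup_comm inferInstance h.2.1 (zpowers_le.2 hc)))
  exact e.ge (mem_sup_left (mem_zpowers x))

theorem Zc_le_JJ (P : Subgroup G) : Zc P ≤ JJ P := fun x hx => by
  obtain ⟨A, h⟩ := exists_MA P
  exact h.le_JJ (h.cent hx.1 fun y hy => hx.2 y (h.1 hy))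

theorem cent_JJ (P : Subgroup G) : P ⊓ centralizer (JJ P : Set G) ≤ JJ P := fun x hx => by
  obtain ⟨A, h⟩ := exists_MA P
  exact h.le_JJ (h.cent hx.1 fun y hy => hx.2 y (h.le_JJ hy))

/-- The rank of a label. -/
noncomputable def rk (Y : Subgroup G) : ℕ := dd Y * (Nat.card G + 1) + Nat.card Y

theorem rk_le (Y : Subgroup G) : rk Y ≤ Nat.card G * (Nat.card G + 1) + Nat.card G :=
  add_le_add (Nat.mul_le_mul_right _ (dd_le Y)) (card_le_card_group Y)

theorem rk_cj (g : G) (Y : Subgroup G) : rk (cj g Y) = rk Y := by rw [rk, rk, dd_cj, card_cj]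

theorem rk_lt (h : P ≤ Q) : rk (JJ P) < rk (JJ Q) ∨ JJ P = JJ Q := by
  rw [rk, rk, dd_JJ, dd_JJ]
  rcases (dd_mono h).lt_or_eq with h1 | h1
  · left
    have h2 := card_le_card_group (JJ P)
    have h3 := Nat.mul_le_mul_right (Nat.card G + 1) (Nat.succ_le_of_lt h1)
    rw [Nat.succ_mul] at h3
    omega
  · rcases (JJ_mono_of_dd h h1.ge).lt_or_eq with h2 | h2
    · exact Or.inl (by rw [h1]; exact Nat.add_lt_add_left (Core.card_lt_of_lt h2) _)
    · exact Or.inr h2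

theorem JJ_down (hY : Y ≤ P) (h : P ≤ Q) (hQ : JJ Q = Y) : JJ P = Y := by
  have e : dd Y = dd Q := by rw [← hQ, dd_JJ]
  refine le_antisymm (hQ ▸ JJ_mono_of_dd h (e ▸ dd_mono hY)) ?_
  have := JJ_mono_of_dd hY (e ▸ dd_mono h)
  rwa [← hQ, JJ_JJ, hQ] at this

variable [Fact p.Prime]

/-- A minimal overgroup with a different Thompson subgroup is of type G or of type T on `Z(Y)`. -/
theorem dich (hJ : JJ Y = Y) (hY : Y ≤ P) (hn : P ≤ normalizer (Y : Set G)) (hp : IsPGroup p P) (hne : JJ P ≠ Y) :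
    ∃ Q, Y ≤ Q ∧ Q ≤ P ∧ JJ Q ≠ Y ∧
      ((∀ A₀, Y ≤ A₀ → A₀ ≤ Q → A₀.relIndex Q = p → Zc Y ⊓ centralizer (A₀ : Set G) ≤ centralizer (Q : Set G)) ∨
        (Y.relIndex Q = p ∧ (Zc Y ⊓ centralizer (Q : Set G)).relIndex (Zc Y) = p)) := by
  obtain ⟨Q, ⟨h1, h2, h3⟩, hmin⟩ := (wellFounded_lt (α := Subgroup G)).has_min
    {Q | Y ≤ Q ∧ Q ≤ P ∧ JJ Q ≠ Y} ⟨P, hY, le_rfl, hne⟩
  have mn : ∀ M, Y ≤ M → M < Q → JJ M = Y := fun M a b => by_contra fun c => hmin M ⟨a, b.le.trans h2, c⟩ b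
  refine ⟨Q, h1, h2, h3, or_iff_not_imp_left.2 fun hG => ?_⟩
  push Not at hG
  obtain ⟨M, m1, m2, m3, m4⟩ := hG
  obtain ⟨z, z1, z2⟩ := SetLike.not_le_iff_exists.1 m4
  have p1 : 1 < p := (Fact.out : p.Prime).one_lt
  obtain ⟨A, hA, nA⟩ : ∃ A, MA Q A ∧ ¬ A ≤ Y := by
    by_contra! hh
    have a : JJ Q ≤ Y := sSup_le hh
    exact h3 (le_antisymm a (hJ.ge.trans (JJ_mono_of_dd h1 (dd_JJ Q ▸ dd_mono a))))
  have nY : A ≤ normalizer (Y : Set G) := (hA.1.trans h2).trans hn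
  have eQ : A ⊔ Y = Q := by
    refine (sup_le hA.1 h1).eq_or_lt.resolve_right fun lt => nA ?_
    exact (MA.of_card le_sup_left hA.2.1 (hA.2.2 ▸ dd_mono lt.le)).le_JJ.trans (mn _ le_sup_right lt).le
  have eM : (A ⊓ M) ⊔ Y = M := by
    rw [sup_comm, ← Core.sup_inf_assoc_of_le_normalizer' m1 nY, sup_comm, eQ, inf_eq_right.2 m2]
  have lt : M < Q := m2.lt_of_ne fun e => by rw [e, relIndex_self] at m3; omega
  have c1 := Core.card_sup_mul_card_inf_of_le_normalizer nY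
  have c2 := Core.card_sup_mul_card_inf_of_le_normalizer ((inf_le_left : A ⊓ M ≤ A).trans nY)
  rw [eM, inf_assoc, inf_eq_right.2 m1] at c2
  rw [eQ, ← Core.card_mul_relIndex_of_le m2, m3] at c1
  have cA : Nat.card A = Nat.card (A ⊓ M : Subgroup G) * p := by
    refine Nat.eq_of_mul_eq_mul_right (Nat.card_pos (α := Y)) ?_
    rw [← c1, mul_right_comm, c2, mul_right_comm]
  set D₀ := Zc Y ⊓ centralizer ((A ⊓ M : Subgroup G) : Set G) with hD₀
  have e1 : D₀ ⊓ (A ⊓ M) = Zc Y ⊓ centralizer (Q : Set G) := by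
    refine le_antisymm (le_inf (inf_le_left.trans inf_le_left) (le_centralizer_iff.2 ?_)) fun x hx => ?_
    · rw [← eQ]
      refine sup_le ((le_centralizer_iff_isMulCommutative.2 hA.2.1).trans (centralizer_le ?_))
        (le_centralizer_iff.2 ((inf_le_left.trans inf_le_left).trans inf_le_right))
      exact (inf_le_right.trans inf_le_left : D₀ ⊓ (A ⊓ M) ≤ A)
    · exact ⟨⟨hx.1, fun y hy => hx.2 y (hA.1 hy.1)⟩, hA.cent (h1 hx.1.1) fun y hy => hx.2 y (hA.1 hy), m1 hx.1.1⟩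
  have l1 : Zc Y ⊓ centralizer (Q : Set G) ≤ D₀ := e1.ge.trans inf_le_left
  have c3 := Core.card_sup_mul_card_inf_of_le_normalizer ((inf_le_right : D₀ ≤ _).trans (th_cent_le _))
  rw [e1, ← Core.card_mul_relIndex_of_le l1] at c3
  set k := (Zc Y ⊓ centralizer (Q : Set G)).relIndex D₀ with hk
  have c4 : Nat.card (D₀ ⊔ A ⊓ M : Subgroup G) = Nat.card (A ⊓ M : Subgroup G) * k := by
    refine Nat.eq_of_mul_eq_mul_right (Nat.card_pos (α := (Zc Y ⊓ centralizer (Q : Set G) : Subgroup G))) ?_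
    rw [c3]; ring
  have DM : D₀ ⊔ A ⊓ M ≤ M := sup_le ((inf_le_left.trans (Zc_le Y)).trans m1) inf_le_right
  have Ec : IsMulCommutative (D₀ ⊔ A ⊓ M : Subgroup G) :=
    th_sup_comm (th_comm_le inferInstance inf_le_left) (th_comm_le hA.2.1 inf_le_left) inf_le_right
  have k1 : k ≤ p := by
    have := card_le_dd (DM.trans m2) Ec
    rw [← hA.2.2, cA, c4] at this
    exact Nat.le_of_mul_le_mul_left this Nat.card_pos
  have k2 : p ≤ k := by
    obtain ⟨j, hj⟩ := (hp.to_le ((inf_le_left.trans (Zc_le Y)).trans hY : D₀ ≤ P)).index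
      ((Zc Y ⊓ centralizer (Q : Set G)).subgroupOf D₀)
    rcases j with - | j
    · exact (z2 (relIndex_eq_one.1 hj ⟨z1.1, fun y hy => z1.2 y hy.2⟩).2).elim
    · exact hk ▸ (show _ ≤ Subgroup.index _ from hj ▸ Nat.le_self_pow j.succ_ne_zero p)
  have kp := le_antisymm k1 k2
  have EY : D₀ ⊔ A ⊓ M ≤ Y := by
    refine (MA.of_card DM Ec ?_).le_JJ.trans (mn M m1 lt).le
    rw [c4, kp, ← cA, hA.2.2]
    exact dd_mono m2
  have AY : A ⊓ M ≤ Y := le_sup_right.trans EY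
  have MY : M = Y := by rw [← eM, sup_eq_right.2 AY]
  have DD : D₀ = Zc Y := inf_eq_left.2 (inf_le_right.trans (centralizer_le AY))
  exact ⟨MY ▸ m3, by rw [← kp, hk, DD]⟩

theorem esc_JJ (hp : IsPGroup p P) (h : ¬ Cen p (JJ P)) :
    ∃ R : Subgroup G, IsPGroup p R ∧ R ≤ normalizer (P : Set G) ∧ ¬ R ≤ P ∧ R ≤ centralizer (Zc P : Set G) := by
  obtain ⟨R, h1, h2, h3, h4⟩ := esc (H := normalizer (JJ P : Set G)) (C := centralizer (JJ P : Set G))
    (le_normalizer.trans (normalizer_le_JJ P)) hp (th_cent_le _)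
    (fun g hg => by rw [← cj_eq_iff] at hg ⊢; rw [cj, map_conj_centralizer]; exact congrArg _ (congrArg _ hg))
    fun hs => h fun R hR hp' x hx => by
      obtain ⟨y, hy, e⟩ := hs.exists_conj hp' hR
      have m := cent_JJ P (e x hx)
      have := hy _ m
      rw [inv_mul_cancel_right, mul_right_inj] at this
      rwa [← this] at m
  exact ⟨R, h2, h3, h4, h1.trans (centralizer_le (Zc_le_JJ P))⟩

end CfsgLib.MPZ
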