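import Mathlib
import Cfsg.Agent.Lib.MPZ.Gv2
import Cfsg.Agent.Lib.MPZ.Th

set_option autoImplicit false
set_option linter.unusedVariables false
set_option linter.unusedSectionVars false

namespace CfsgLib.MPZ

open Subgroup CfsgLib.Fusion

/-! MPZ package GAM: the systems `Hom(P/A, V)` and its subsystem of homomorphisms given by conjugation. -/

variable {G : Type*} [Group G] {V : Type*} [AddCommGroup V] {p : ℕ} {e : V → G} {A P Q : Subgroup G}
  {f : FB G V}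

theorem Cext.comm (h : Cext p e A) {a : G} (ha : a ∈ A) (g : G) : g * a = a * g := by
  obtain ⟨v, rfl⟩ := (h.mem a).1 ha
  exact h.cen v g

theorem Cext.normal (h : Cext p e A) : A.Normal := ⟨fun a ha g => by rwa [h.comm ha g, mul_inv_cancel_right]⟩

theorem Cext.nsmul (h : Cext p e A) (n : ℕ) (v : V) : e (n • v) = e v ^ n := by
  induction n with
  | zero => rw [zero_nsmul, pow_zero, h.zero]
  | succ n ih => rw [succ_nsmul, h.add, ih, pow_succ]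

theorem Cext.isPGroup (h : Cext p e A) : IsPGroup p A := fun a => by
  obtain ⟨k, hk⟩ := h.tor
  obtain ⟨v, hv⟩ := (h.mem a).1 a.2
  exact ⟨k, Subtype.ext (by rw [coe_pow, ← hv, ← h.nsmul, hk, h.zero, coe_one])⟩

theorem Cext.e_mem (h : Cext p e A) (v : V) : e v ∈ A := (h.mem _).2 ⟨v, rfl⟩

theorem Cext.sub (h : Cext p e A) (v w : V) : e (v - w) = e v * (e w)⁻¹ := by rw [sub_eq_add_neg, h.add, h.neg]

theorem Cext.cj_eq (h : Cext p e A) (g : G) : cj g A = A := by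
  have := h.normal
  exact cj_eq_iff.2 (le_normalizer_of_normal (mem_top g))

theorem Cext.le_cj (h : Cext p e A) (g : G) (hP : A ≤ P) : A ≤ cj g P := h.cj_eq g ▸ cj_mono g hP

theorem Cext.fam (h : Cext p e A) : Fam p (⊤ : Subgroup G) (fun P => A ≤ P) := 
  fam_of_up (fun _ _ h1 _ h2 => h2.trans h1) fun g _ => h.le_cj g

theorem mem_bG : f ∈ bG A P ↔ (∀ a ∈ A, ∀ u, f (a * u) = f u) ∧ ∀ x ∈ P, ∀ u, f (x * u) = f u + gam f x := Iff.rfl

theorem mem_aG : f ∈ aG A P ↔ (∀ a ∈ A, ∀ u, f (a * u) = f u) ∧ ∀ x ∈ P, ∀ u, f (x * u) = f u := Iff.rfl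

theorem mem_kG (h : Cext p e A) :
    f ∈ kG h P ↔ f ∈ bG A P ∧ ∃ g : G, ∀ x ∈ P, g * x * g⁻¹ = x * e (gam f x) := Iff.rfl

theorem gam_sub (f g : FB G V) (x : G) : gam (f - g) x = gam f x - gam g x := by rw [sub_eq_add_neg, gam_add, gam_neg, sub_eq_add_neg]

theorem gam_mul (hf : f ∈ bG A P) {x : G} (hx : x ∈ P) (y : G) : gam f (x * y) = gam f x + gam f y := by
  rw [gam, hf.2 x hx y, gam.eq_1 f y]; abel

theorem gam_of_mem (hf : f ∈ bG A P) {a : G} (ha : a ∈ A) : gam f a = 0 := by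
  have := hf.1 a ha 1
  rw [mul_one] at this
  rw [gam, this, sub_self]

theorem gam_mul_of_mem (h : Cext p e A) (hf : f ∈ bG A P) {a : G} (ha : a ∈ A) (x : G) :
    gam f (x * a) = gam f x := by rw [gam, h.comm ha x, hf.1 a ha, gam]

theorem gam_smul (hf : f ∈ bG A P) (g : G) {x : G} (hx : x ∈ P) : gam (g • f) (g * x * g⁻¹) = gam f x := by
  rw [gam, FB.smul_apply, FB.smul_apply, mul_one, show g⁻¹ * (g * x * g⁻¹) = x * g⁻¹ by group, hf.2 x hx,
    add_sub_cancel_left]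

theorem mem_aG_iff (hf : f ∈ bG A P) : f ∈ aG A P ↔ ∀ x ∈ P, gam f x = 0 := by
  refine ⟨fun h x hx => ?_, fun h => ⟨hf.1, fun x hx u => by rw [hf.2 x hx, h x hx, add_zero]⟩⟩
  have := h.2 x hx 1
  rw [mul_one] at this
  rw [gam, this, sub_self]

theorem aG_le_bG (A P : Subgroup G) : (aG A P : AddSubgroup (FB G V)) ≤ bG A P := fun f hf => ⟨hf.1, fun x hx u => by
  have := hf.2 x hx 1
  rw [mul_one] at this
  rw [hf.2 x hx, gam, this, sub_self, add_zero]⟩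

theorem bG_anti (h : P ≤ Q) : (bG A Q : AddSubgroup (FB G V)) ≤ bG A P := fun _ hf => ⟨hf.1, fun x hx => hf.2 x (h hx)⟩

theorem smul_bG (h : Cext p e A) (g : G) (hf : f ∈ bG A P) : g • f ∈ bG A (cj g P) := by
  refine ⟨fun a ha u => ?_, fun x hx u => ?_⟩
  · rw [FB.smul_apply, FB.smul_apply, ← mul_assoc, h.comm ha, mul_assoc, hf.1 a ha]
  · have h1 := gam_smul hf g (mem_cj.1 hx)
    rw [show g * (g⁻¹ * x * g) * g⁻¹ = x by group] at h1
    rw [h1, FB.smul_apply, FB.smul_apply, ← hf.2 _ (mem_cj.1 hx)]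
    congr 1; group

/-- Every homomorphism `P → V` that is trivial on `A` is represented. -/
theorem exists_bG (hA : A ≤ P) (γ : G → V) (hγ : ∀ x ∈ P, ∀ y ∈ P, γ (x * y) = γ x + γ y)
    (h0 : ∀ a ∈ A, γ a = 0) : ∃ f : FB G V, f ∈ bG A P ∧ ∀ x ∈ P, gam f x = γ x := by
  obtain ⟨r, c, hc, h1, h2⟩ := exists_rep P (fun g x : G => g * x) one_mul mul_assoc
  have h3 : ∀ x ∈ P, ∀ u, γ (c (x * u)) = γ (c u) + γ x := fun x hx u => by
    have e1 := h1 (x * u)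
    rw [h2 x hx u] at e1
    rw [show c (x * u) = x * c u from mul_right_cancel (e1.trans (by rw [mul_assoc, h1 u])), hγ x hx _ (hc u), add_comm]
  have h4 : ∀ x ∈ P, gam (fun u => γ (c u) : FB G V) x = γ x := fun x hx => by
    have := h3 x hx 1
    rw [mul_one] at this
    show γ (c x) - γ (c 1) = γ x
    rw [this, add_sub_cancel_left]
  exact ⟨fun u => γ (c u), ⟨fun a ha u => show γ (c (a * u)) = γ (c u) by rw [h3 a (hA ha), h0 a ha, add_zero],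
    fun x hx u => by rw [h4 x hx]; exact h3 x hx u⟩, h4⟩

/-- An element acting trivially on `P / A` acts trivially on `Hom(P/A, V)`. -/
theorem smul_sub_aG (h : Cext p e A) (hA : A ≤ P) {g : G} (hg : ∀ x ∈ P, x⁻¹ * (g * x * g⁻¹) ∈ A)
    (hn : g ∈ normalizer (P : Set G)) (hf : f ∈ bG A P) : g • f - f ∈ aG A P := by
  have h1 : g • f ∈ bG A P := cj_eq_iff.2 hn ▸ smul_bG h g hf
  refine (mem_aG_iff (sub_mem h1 hf)).2 fun x hx => ?_
  have hx' : g⁻¹ * x * g ∈ P := (mem_normalizer_iff''.1 hn x).1 hx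
  have h2 := gam_smul hf g hx'
  have h3 := gam_mul_of_mem h hf (hg _ hx') (g⁻¹ * x * g)
  rw [mul_inv_cancel_left] at h3
  rw [show g * (g⁻¹ * x * g) * g⁻¹ = x by group] at h2 h3
  rw [gam_sub, h2, h3, sub_self]

theorem smul_aG (h : Cext p e A) (g : G) (hf : f ∈ aG A P) : g • f ∈ aG A (cj g P) :=
  (mem_aG_iff (smul_bG h g (aG_le_bG A P hf))).2 fun x hx => by
    have h1 := gam_smul (aG_le_bG A P hf) g (mem_cj.1 hx)
    rw [show g * (g⁻¹ * x * g) * g⁻¹ = x by group] at h1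
    rw [h1, (mem_aG_iff (aG_le_bG A P hf)).1 hf _ (mem_cj.1 hx)]

theorem smul_kG (h : Cext p e A) (g : G) (hf : f ∈ kG h P) : g • f ∈ kG h (cj g P) := by
  obtain ⟨hb, k, hk⟩ := hf
  refine ⟨smul_bG h g hb, g * k * g⁻¹, fun x hx => ?_⟩
  have h1 := gam_smul hb g (mem_cj.1 hx)
  rw [show g * (g⁻¹ * x * g) * g⁻¹ = x by group] at h1
  rw [h1, show g * k * g⁻¹ * x * (g * k * g⁻¹)⁻¹ = g * (k * (g⁻¹ * x * g) * k⁻¹) * g⁻¹ by group, hk _ (mem_cj.1 hx),
    mul_assoc, mul_assoc _ (e _), ← h.cen]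
  group

theorem aG_le_kG (h : Cext p e A) (P : Subgroup G) : aG A P ≤ kG h P := fun f hf =>
  ⟨aG_le_bG A P hf, 1, fun x hx => by rw [(mem_aG_iff (aG_le_bG A P hf)).1 hf x hx, h.zero]; simp⟩

theorem triv_bG (h : Cext p e A) {g : G} (hg : g ∈ P) (hf : f ∈ bG A P) : g • f - f ∈ aG A P := by
  have h1 : g • f ∈ bG A P := cj_eq_iff.2 (le_normalizer hg) ▸ smul_bG h g hf
  refine (mem_aG_iff (sub_mem h1 hf)).2 fun x hx => ?_
  have hx' : g⁻¹ * x * g ∈ P := P.mul_mem (P.mul_mem (P.inv_mem hg) hx) hg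
  have h2 := gam_smul hf g hx'
  rw [show g * (g⁻¹ * x * g) * g⁻¹ = x by group] at h2
  have h3 := gam_mul hf hg (g⁻¹ * x * g)
  rw [show g * (g⁻¹ * x * g) = x * g by group, gam_mul hf hx, add_comm, add_right_inj] at h3
  rw [gam_sub, h2, h3, sub_self]

theorem Cext.torF (h : Cext p e A) : ∃ k : ℕ, ∀ f : FB G V, p ^ k • f = 0 :=
  h.tor.imp fun _ hk f => funext fun u => hk (f u)

theorem Cext.tor_mem (h : Cext p e A) (b a : AddSubgroup (FB G V)) : ∃ k : ℕ, ∀ f ∈ b, p ^ k • f ∈ a :=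
  h.torF.imp fun _ hk f _ => by rw [hk]; exact zero_mem _

theorem gsys_ba (h : Cext p e A) : GSys p (fun P => A ≤ P) (bG (V := V) A) (aG A) := 
  ⟨h.fam, fun P _ _ => aG_le_bG A P, fun _ _ hle _ _ _ _ hf => ⟨hf.1, fun x hx => hf.2 x (hle hx)⟩,
    fun _ _ hle _ _ _ => bG_anti hle, fun g _ _ _ _ => smul_aG h g, fun g _ _ _ _ => smul_bG h g,
    fun _ _ _ _ hg _ => triv_bG h hg, fun _ _ _ => h.tor_mem _ _⟩

theorem gsys_ka (h : Cext p e A) : GSys p (fun P => A ≤ P) (kG h) (aG A) := 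
  ⟨h.fam, fun P _ _ => aG_le_kG h P, (gsys_ba h).anti_a,
    fun _ _ hle _ _ _ _ hf => ⟨bG_anti hle hf.1, hf.2.imp fun _ hg x hx => hg x (hle hx)⟩, (gsys_ba h).smul_a,
    fun g _ _ _ _ => smul_kG h g, fun _ _ _ _ hg _ hf => triv_bG h hg hf.1, fun _ _ _ => h.tor_mem _ _⟩

theorem gsys_bk (h : Cext p e A) : GSys p (fun P => A ≤ P) (bG A) (kG h) := 
  ⟨h.fam, fun _ _ _ _ hf => hf.1, (gsys_ka h).anti_b, (gsys_ba h).anti_b, (gsys_ka h).smul_b, (gsys_ba h).smul_b,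
    fun P _ _ _ hg _ hf => aG_le_kG h P (triv_bG h hg hf), fun _ _ _ => h.tor_mem _ _⟩

theorem smul_cst (g : G) (hf : f ∈ cst G V) : g • f = f := funext fun u => by
  rw [FB.smul_apply, hf (g⁻¹ * u), hf u]

theorem cst_le_aG (A P : Subgroup G) : cst G V ≤ aG A P := fun f hf =>
  ⟨fun a _ u => by rw [hf (a * u), hf u], fun x _ u => by rw [hf (x * u), hf u]⟩

variable [Finite G] [Fact p.Prime]

/-- The conjugating element can be taken of `p`-power order. -/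
theorem Cext.pel (h : Cext p e A) {γ : G → V} {g : G} (hg : ∀ x ∈ P, g * x * g⁻¹ = x * e (γ x)) :
    ∃ g' : G, IsPGroup p (zpowers g') ∧ ∀ x ∈ P, g' * x * g'⁻¹ = x * e (γ x) := by
  have hp : p.Prime := Fact.out
  obtain ⟨k, hk⟩ := h.tor
  obtain ⟨a, m, hm, e1⟩ := Nat.exists_eq_pow_mul_and_not_dvd (orderOf_pos g).ne' p hp.ne_one
  obtain ⟨c, j, hc⟩ := exists_inv_card hm k
  have hpow : ∀ n : ℕ, ∀ x ∈ P, g ^ n * x * (g ^ n)⁻¹ = x * e (n • γ x) := fun n x hx => by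
    induction n with
    | zero => simp [h.zero]
    | succ n ih =>
      rw [pow_succ', show g * g ^ n * x * (g * g ^ n)⁻¹ = g * (g ^ n * x * (g ^ n)⁻¹) * g⁻¹ by group, ih,
        show g * (x * e (n • γ x)) * g⁻¹ = g * x * (e (n • γ x) * g⁻¹) by group, ← h.cen, ← mul_assoc, hg x hx,
        succ_nsmul', h.add, mul_assoc]
  refine ⟨g ^ (c * m), IsPGroup.of_card_dvd_pow ?_ (n := a), fun x hx => ?_⟩
  · rw [Nat.card_zpowers]
    refine orderOf_dvd_of_pow_eq_one ?_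
    rw [← pow_mul, show c * m * p ^ a = p ^ a * m * c by ring, ← e1, pow_mul, pow_orderOf_eq_one, one_pow]
  · rw [hpow _ x hx, hc, add_nsmul, one_nsmul, mul_nsmul', hk, nsmul_zero, add_zero]

variable {Ω : Type*} [MulAction G Ω] {m : ℕ}

theorem gex_cst (h : Cext p e A) (Am₀ : Am p G Ω) {𝓕 : Subgroup G → Prop} (F : Fam p ⊤ 𝓕) (hm : 2 ≤ m) :
    GEx Ω 𝓕 (fun _ => cst G V) (fun _ => ⊥) m := by
  have h1 := triv (β := cst G V) Am₀ ⟨fun g _ u hu => by rwa [smul_cst g hu], h.tor_mem _ ⊥⟩ F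
    (fun _ _ _ g _ _ hu => smul_cst g hu) hm
  have h2 : ∀ P : Subgroup G, Fx (cst G V) P = cst G V := fun P =>
    le_antisymm (fun _ hu => hu.1) fun _ hu => ⟨hu, fun g _ => smul_cst g hu⟩
  simp only [LEx, h2] at h1
  exact h1

theorem gex_ba (h : Cext p e A) (Am₀ : Am p G Ω) (hA : ∀ a ∈ A, ∀ y : Ω, a • y = y) (hm : 2 ≤ m) :
    GEx Ω (fun P => A ≤ P) (bG (V := V) A) (aG A) m := by
  have hβ : ∀ g ∈ (⊤ : Subgroup G), ∀ u ∈ (aG A ⊥ : AddSubgroup (FB G V)), g • u ∈ aG A ⊥ := fun g _ u hu => by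
    simpa only [Subgroup.map_bot] using smul_aG h g hu
  have hα : ∀ g ∈ (⊤ : Subgroup G), ∀ u ∈ cst G V, g • u ∈ cst G V := fun g _ u hu => by rwa [smul_cst g hu]
  have e1 : ∀ P : Subgroup G, Fq (aG A ⊥) (cst G V) P = bG A P := fun P => by
    apply le_antisymm
    · refine fun f hf => ⟨hf.1.1, fun x hx u => ?_⟩
      have : f (x⁻¹⁻¹ * u) - f u = f (x⁻¹⁻¹ * 1) - f 1 := hf.2 _ (P.inv_mem hx) u
      rw [inv_inv, mul_one] at this
      rw [gam, ← this]; abel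
    · refine fun f hf => ⟨⟨hf.1, fun y hy w => by rw [mem_bot.1 hy, one_mul]⟩, fun g hg u => ?_⟩
      show f (g⁻¹ * u) - f u = f (g⁻¹ * 1) - f 1
      rw [hf.2 _ (P.inv_mem hg), hf.2 _ (P.inv_mem hg), add_sub_cancel_left, add_sub_cancel_left]
  have e2 : ∀ P : Subgroup G, Fx (aG A ⊥ : AddSubgroup (FB G V)) P = aG A P := fun P => by
    refine le_antisymm (fun f hf => ⟨hf.1.1, fun x hx u => ?_⟩) fun f hf =>
      ⟨⟨hf.1, fun x hx u => by rw [mem_bot.1 hx, one_mul]⟩, fun g hg => funext fun u => hf.2 _ (P.inv_mem hg) u⟩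
    have : f (x⁻¹⁻¹ * u) = f u := congrFun (hf.2 _ (P.inv_mem hx)) u
    rwa [inv_inv] at this
  have hF : ∀ l : List Ω, IsPGroup p (St (⊤ : Subgroup G) l) → (True ↔ A ≤ St ⊤ l) := fun l _ =>
    ⟨fun _ a ha => ⟨trivial, fun y _ => hA a ha y⟩, fun _ => trivial⟩
  have x1 : GEx Ω (fun P => A ≤ P) (bG (V := V) A) (fun _ => cst G V) m := by
    have := t0q Am₀ hβ hα (cst_le_aG A ⊥) (h.tor_mem _ _) hm
    simp only [e1] at this
    exact GEx.congr (𝓕 := fun _ => True) (b := bG A) (a := fun _ => cst G V) this Am₀ (fun _ _ _ _ => trivial) hF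
      (fun _ _ _ => rfl) fun _ _ _ => rfl
  have x2 : GEx Ω (fun P => A ≤ P) (aG (V := V) A) (fun _ => ⊥) (m + 1) := by
    have := t0' (m := m + 1) Am₀ ⟨hβ, h.tor_mem _ ⊥⟩ (by omega)
    simp only [LEx, e2] at this
    exact GEx.congr (𝓕 := fun _ => True) (b := aG A) (a := fun _ => ⊥) this Am₀ (fun _ _ _ _ => trivial) hF
      (fun _ _ _ => rfl) fun _ _ _ => rfl
  have hbot : ∀ (g : G) (u : FB G V), u ∈ (⊥ : AddSubgroup (FB G V)) → g • u ∈ (⊥ : AddSubgroup (FB G V)) :=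
    fun g u hu => by rw [AddSubgroup.mem_bot.1 hu, smul_zero]; exact zero_mem _
  have haa : ∀ (P : Subgroup G) (g : G), g ∈ P → ∀ u ∈ (aG A P : AddSubgroup (FB G V)), g • u - u = 0 :=
    fun P g hg u hu => sub_eq_zero.2 ((e2 P).ge hu |>.2 g hg)
  have s1 : GSys p (fun P => A ≤ P) (fun _ => cst G V) (fun _ => ⊥) :=
    ⟨h.fam, fun _ _ _ => bot_le, fun _ _ _ _ _ _ => le_rfl, fun _ _ _ _ _ _ => le_rfl, fun g _ _ _ => hbot g,
      fun g _ _ _ => hα g trivial, fun P _ _ g hg u hu => haa P g hg u (cst_le_aG A P hu),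
      fun _ _ _ => h.tor_mem _ _⟩
  have s2 : GSys p (fun P => A ≤ P) (aG (V := V) A) (fun _ => cst G V) :=
    ⟨h.fam, fun P _ _ => cst_le_aG A P, s1.anti_b, (gsys_ba h).anti_a, s1.smul_b, (gsys_ba h).smul_a,
      fun P _ _ g hg u hu => by rw [haa P g hg u hu]; exact zero_mem _, fun _ _ _ => h.tor_mem _ _⟩
  have s3 : GSys p (fun P => A ≤ P) (aG (V := V) A) (fun _ => ⊥) :=
    ⟨h.fam, fun _ _ _ => bot_le, s1.anti_a, s2.anti_b, s1.smul_a, s2.smul_b, fun P _ _ => haa P,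
      fun _ _ _ => h.tor_mem _ _⟩
  have s4 : GSys p (fun P => A ≤ P) (bG (V := V) A) (fun _ => cst G V) :=
    ⟨h.fam, fun P _ _ => (cst_le_aG A P).trans (aG_le_bG A P), s1.anti_b, (gsys_ba h).anti_b, s1.smul_b,
      (gsys_ba h).smul_b, fun P _ _ g hg u hu => ((e1 P).ge hu).2 g hg, fun _ _ _ => h.tor_mem _ _⟩
  exact gl2 Am₀ s2 (gsys_ba h) s4 x1 (gl2 Am₀ s1 s2 s3 x2 (gex_cst h Am₀ h.fam (by omega)))

end CfsgLib.MPZ
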