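import Mathlib
import Cfsg.Agent.Lib.MPZ.Th

set_option autoImplicit false

namespace CfsgLib.MPZ

open Subgroup CfsgLib.Fusion

/-! MPZ package VAL: the centre functor as a coefficient system. -/

variable {G : Type*} [Group G] {p : ℕ} {P Q T : Subgroup G} {u v : ZB G}

theorem mem_zb : u ∈ zb P ↔ ∀ x, x ∉ Zc P → u x = 0 := Iff.rfl

theorem zb_mono (h : Zc Q ≤ Zc P) : zb Q ≤ zb P := fun _ hu x hx => hu x fun e => hx (h e)

theorem smul_zb (g : G) (hu : u ∈ zb P) : g • u ∈ zb (cj g P) := fun x hx =>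
  hu _ fun e => hx (by rw [Zc_cj]; exact mem_cj.2 e)

theorem smul_eq_of_cent {g : G} (hg : g ∈ centralizer (Zc P : Set G)) (hu : u ∈ zb P) : g • u = u := funext fun x => by
  have key : ∀ y ∈ Zc P, g⁻¹ * y * g = y := fun y hy => by
    rw [mul_assoc, mem_centralizer_iff.1 hg y hy, inv_mul_cancel_left]
  rw [ZB.smul_apply]
  by_cases hx : x ∈ Zc P
  · rw [key x hx]
  · rw [hu x hx, hu _ fun e => hx ?_]
    have := key _ e
    rwa [← mul_left_cancel (mul_right_cancel this)]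

/-- A conjugation invariant, order reversing (on centric subgroups) choice of subgroups. -/
structure TF (p : ℕ) (T : Subgroup G → Subgroup G) : Prop where
  anti : ∀ P Q : Subgroup G, P ≤ Q → IsPGroup p Q → Cen p P → T Q ≤ T P
  conj : ∀ (g : G) (P : Subgroup G), ∀ x ∈ T P, g * x * g⁻¹ ∈ T (cj g P)

theorem tf_const (p : ℕ) (T : Subgroup G) [T.Normal] : TF p (fun _ => T) := 
  ⟨fun _ _ _ _ _ => le_rfl, fun g _ x hx => Normal.conj_mem inferInstance x hx g⟩

variable [Finite G]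

theorem mem_zq : u ∈ zq T P ↔ u ∈ zb P ∧ val P u ∈ T := Iff.rfl

theorem val_mem (P : Subgroup G) (u : ZB G) : val P u ∈ Zc P := (val0 P u).2

theorem val_sub (P : Subgroup G) (u v : ZB G) : val P (u - v) = val P u * (val P v)⁻¹ := by
  rw [sub_eq_add_neg, val_add, val_neg]

theorem val_nsmul (P : Subgroup G) (n : ℕ) (u : ZB G) : val P (n • u) = val P u ^ n := by
  induction n with
  | zero => rw [zero_smul, val_zero, pow_zero]
  | succ n ih => rw [succ_nsmul, val_add, ih, pow_succ]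

theorem exists_val {z : G} (hz : z ∈ Zc P) : ∃ u ∈ zb P, val P u = z := by
  classical
  let w : ZB G := fun x => if x = z then 1 else 0
  refine ⟨w, fun x hx => if_neg fun e => hx (by rw [e]; exact hz), ?_⟩
  have : val0 P w = ⟨z, hz⟩ := by
    unfold val0
    rw [Finset.prod_eq_single ⟨z, hz⟩ (fun x _ hx => ?_) fun h => absurd (@Finset.mem_univ _ (_) _) h]
    · rw [show w (⟨z, hz⟩ : Zc P) = 1 from if_pos rfl, zpow_one]
    · rw [show w x = 0 from if_neg fun e => hx (Subtype.ext e), zpow_zero]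
  exact congrArg Subtype.val this

theorem val0_map (φ : Zc Q →* Zc P) (hφ : Function.Injective φ) (h0 : ∀ x : Zc P, x ∉ Set.range φ → v x = 0)
    (h : ∀ x : Zc Q, v (φ x) = u x) : val0 P v = φ (val0 Q u) := by
  unfold val0
  rw [map_prod]
  exact (@Fintype.prod_of_injective _ _ _ (_) (_) _ φ hφ _ _ (fun x hx => by rw [h0 x hx, zpow_zero])
    fun x => by rw [map_zpow, h]).symm

theorem val_mono (h : Zc Q ≤ Zc P) (hu : u ∈ zb Q) : val P u = val Q u := 
  congrArg Subtype.val (val0_map (inclusion h) (inclusion_injective h)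
    (fun x hx => hu x fun e => hx ⟨⟨x, e⟩, rfl⟩) fun _ => rfl)

theorem val_smul (g : G) (P : Subgroup G) (u : ZB G) : val (cj g P) (g • u) = g * val P u * g⁻¹ := by
  let φ : Zc P →* Zc (cj g P) := ((MulAut.conj g).toMonoidHom.comp (Zc P).subtype).codRestrict _ fun x => by
    rw [Zc_cj]; exact conj_mem_cj.2 x.2
  have hφ : ∀ x, (φ x : G) = g * x * g⁻¹ := fun _ => rfl
  refine (congrArg Subtype.val (val0_map φ (fun x y e => Subtype.ext ?_) (fun x hx => absurd ⟨⟨g⁻¹ * x * g,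
    mem_cj.1 ((Zc_cj g P).le x.2)⟩, Subtype.ext ?_⟩ hx) fun x => ?_)).trans (hφ _)
  · simpa [hφ] using congrArg Subtype.val e
  · rw [ZB.smul_apply, hφ]; congr 1; group
  · rw [hφ]; simp [mul_assoc]

theorem gsys_zq [Fact p.Prime] {T₁ T₂ : Subgroup G → Subgroup G} (h₁ : TF p T₁) (h₂ : TF p T₂) (hle : ∀ P, T₁ P ≤ T₂ P) :
    GSys p (Cen p) (fun P => zq (T₂ P) P) (fun P => zq (T₁ P) P) := by
  have anti : ∀ {T : Subgroup G → Subgroup G}, TF p T → ∀ P Q : Subgroup G, P ≤ Q → IsPGroup p Q → Cen p P →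
      Cen p Q → zq (T Q) Q ≤ zq (T P) P := fun h P Q hle hQ hP _ u hu =>
    ⟨zb_mono (hP.zc_le hle hQ) hu.1, by rw [val_mono (hP.zc_le hle hQ) hu.1]; exact h.anti P Q hle hQ hP hu.2⟩
  have sm : ∀ {T : Subgroup G → Subgroup G}, TF p T → ∀ (g : G) (P : Subgroup G), IsPGroup p P → Cen p P →
      ∀ u ∈ zq (T P) P, g • u ∈ zq (T (cj g P)) (cj g P) := fun h g P _ _ u hu =>
    ⟨smul_zb g hu.1, by rw [val_smul]; exact h.conj g P _ hu.2⟩
  refine ⟨fam_cen p G, fun P _ _ u hu => ⟨hu.1, hle P hu.2⟩, anti h₁, anti h₂, sm h₁, sm h₂, fun P _ _ g hg u hu => ?_,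
    fun P hP _ => ?_⟩
  · rw [smul_eq_of_cent (mem_centralizer_iff.2 fun y hy => ((mem_Zc.1 hy).2 g hg).symm) hu.1, sub_self]
    exact zero_mem _
  · obtain ⟨e, he⟩ := hP.exists_card_eq
    refine ⟨e, fun u hu => ⟨nsmul_mem hu.1 _, ?_⟩⟩
    rw [val_nsmul, ← he, orderOf_dvd_iff_pow_eq_one.1 (P.orderOf_dvd_natCard (Zc_le P (val_mem P u)))]
    exact one_mem _

end CfsgLib.MPZ
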