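import Mathlib
import Cfsg.Agent.Lib.MPZ.Gam
import Cfsg.Agent.Lib.MPZ.Val

set_option autoImplicit false

namespace CfsgLib.MPZ

open Subgroup CfsgLib.Fusion

/-! MPZ package KEX1: the three transports and the two vanishing statements on non-centric images. -/

variable {G G' : Type*} [Group G] [Group G'] {V : Type*} [AddCommGroup V] {p : ℕ} {e : V → G} {A P Q : Subgroup G}
  {π : G →* G'}

/-- The image of the centre of the preimage. -/
def Zi (π : G →* G') (P' : Subgroup G') : Subgroup G' := (Zc (P'.comap π)).map π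

/-- The subgroups over `A` with centric image. -/
def CB (p : ℕ) (A : Subgroup G) (π : G →* G') (P : Subgroup G) : Prop := A ≤ P ∧ Cen p (P.map π)

theorem map_cj (π : G →* G') (g : G) (P : Subgroup G) : (cj g P).map π = cj (π g) (P.map π) := by
  simp only [cj, map_map]
  congr 1
  ext x
  simp

theorem CB.cen (hk : π.ker = A) (h : CB p A π P) : Cen p P := fun R hR hp => by
  have := map_le_map_iff.1 (h.2 (R.map π) (by
    rintro _ ⟨g, hg, rfl⟩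
    refine mem_centralizer_iff.2 ?_
    rintro _ ⟨x, hx, rfl⟩
    rw [← map_mul, ← map_mul, mem_centralizer_iff.1 (hR hg) x hx]) (hp.map π))
  rwa [hk, sup_eq_left.2 h.1] at this

theorem CB.up (h : CB p A π P) (hle : P ≤ Q) : CB p A π Q := 
  ⟨h.1.trans hle, h.2.up (map_mono hle)⟩

theorem CB.conj (h : Cext p e A) (hP : CB p A π P) (g : G) : CB p A π (cj g P) := 
  ⟨h.le_cj g hP.1, by rw [map_cj]; exact hP.2.conj _⟩

theorem Cen.ker_le (h : Cext p e A) (hP : Cen p P) : A ≤ P := 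
  hP A (fun _ ha => mem_centralizer_iff.2 fun x _ => h.comm ha x) h.isPGroup

theorem tf_Zi (h : Cext p e A) (hπ : Function.Surjective π) (hk : π.ker = A) : TF p (Zi π) := by
  refine ⟨fun P Q hle hQ hP => map_mono (Cen.zc_le (CB.cen hk ⟨hk ▸ ker_le_comap π P, ?_⟩) (comap_mono hle)
    (hQ.comap_of_ker_isPGroup π (hk ▸ h.isPGroup))), fun g' P x hx => ?_⟩
  · rwa [map_comap_eq_self_of_surjective hπ]
  · obtain ⟨g, rfl⟩ := hπ g'
    obtain ⟨y, hy, rfl⟩ := hx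
    have e : (cj (π g) P).comap π = cj g (P.comap π) := by
      ext z
      simp only [mem_comap, mem_cj, map_mul, map_inv]
    refine ⟨g * y * g⁻¹, ?_, by simp⟩
    rw [e, Zc_cj]
    exact conj_mem_cj.2 hy

/-- A non-centric image gives a `p`-subgroup outside `P` acting trivially on `P / A`. -/
theorem esc_nc (h : Cext p e A) (hπ : Function.Surjective π) (hk : π.ker = A) (hA : A ≤ P)
    (hc : ¬ Cen p (P.map π)) : ∃ R : Subgroup G, IsPGroup p R ∧ R ≤ normalizer (P : Set G) ∧ ¬ R ≤ P ∧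
      ∀ g ∈ R, ∀ x ∈ P, x⁻¹ * (g * x * g⁻¹) ∈ A := by
  simp only [Cen, not_forall] at hc
  obtain ⟨R, h1, h2, h3⟩ := hc
  have key : ∀ g ∈ R.comap π, ∀ x ∈ P, x⁻¹ * (g * x * g⁻¹) ∈ A := fun g hg x hx => by
    rw [← hk, MonoidHom.mem_ker, map_mul, map_mul, map_mul, ← mem_centralizer_iff.1 (h1 hg) (π x) ⟨x, hx, rfl⟩]
    simp
  have k2 : ∀ g ∈ R.comap π, ∀ x ∈ P, g * x * g⁻¹ ∈ P := fun g hg x hx => by
    simpa using mul_mem hx (hA (key g hg x hx))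
  refine ⟨R.comap π, h2.comap_of_ker_isPGroup π (hk ▸ h.isPGroup), fun g hg => mem_normalizer_iff.2 fun x =>
    ⟨k2 g hg x, fun e => by simpa [mul_assoc] using k2 _ (inv_mem hg) _ e⟩, fun e => h3 ?_, key⟩
  rw [← map_comap_eq_self_of_surjective hπ R]
  exact map_mono e

theorem kex_zc {z : G} (hz : z ∈ Zc P) : π z ∈ Zc (P.map π) :=
  mem_Zc.2 ⟨⟨z, hz.1, rfl⟩, by
    rintro _ ⟨y, hy, rfl⟩
    rw [← map_mul, ← map_mul, (mem_Zc.1 hz).2 y hy]⟩

theorem kex_Zi (hk : π.ker = A) (hP : A ≤ P) : Zi π (P.map π) = (Zc P).map π := by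
  rw [Zi, comap_map_eq_self (hk ▸ hP)]

variable [Finite G] [Finite G'] [Fact p.Prime] {Ω : Type*} [MulAction G Ω] [MulAction G' Ω] {m : ℕ}

theorem tr1 (h : Cext p e A) (hπ : Function.Surjective π) (hk : π.ker = A)
    (hq : ∀ (g : G) (y : Ω), π g • y = g • y) (Am₀ : Am p G Ω)
    (hE : GEx Ω (Cen p) (zq (⊤ : Subgroup G')) (fun P' => zq (Zi π P') P') m) :
    GEx Ω (CB p A π) (kG h) (aG A) m := by
  refine (gtr (𝓕 := CB p A π) (b := kG h) (a := aG A) π hπ hq Am₀ (𝓕' := Cen p) (b' := zq ⊤)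
    (a' := fun P' => zq (Zi π P') P') (fun g P _ hP => hP.conj h g) (fun P _ hP => and_iff_right (hk ▸ hP))
    (fun P u' f => u' ∈ zb (P.map π) ∧ f ∈ bG A P ∧ ∃ g, π g = val (P.map π) u' ∧
      ∀ x ∈ P, g * x * g⁻¹ = x * e (gam f x))
    (fun P _ _ => ⟨zero_mem _, zero_mem _, 1, by rw [val_zero, map_one], fun x _ => by simp [gam_zero, h.zero]⟩)
    ?_ ?_ ?_ (fun P _ _ u' f ⟨h1, h2, g, _, h4⟩ => ⟨⟨h1, trivial⟩, h2, g, h4⟩) ?_ ?_ ?_).1 hE
  · rintro P - - u' f v' f' ⟨h1, h2, g, h3, h4⟩ ⟨k1, k2, g', k3, k4⟩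
    refine ⟨sub_mem h1 k1, sub_mem h2 k2, g * g'⁻¹, by rw [val_sub, map_mul, map_inv, h3, k3], fun x hx => ?_⟩
    have e1 : g'⁻¹ * x * g' = x * (e (gam f' x))⁻¹ := by
      rw [eq_mul_inv_iff_mul_eq, mul_assoc, h.cen, ← mul_assoc, mul_assoc g'⁻¹, ← k4 x hx]; group
    calc g * g'⁻¹ * x * (g * g'⁻¹)⁻¹ = g * (g'⁻¹ * x * g') * g⁻¹ := by group
      _ = g * x * g⁻¹ * (e (gam f' x))⁻¹ := by
        rw [e1, ← h.neg, mul_assoc g, mul_assoc x, ← h.cen]; group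
      _ = _ := by rw [h4 x hx, gam_sub, h.sub, mul_assoc]
  · rintro P Q hle hQ hP - u' f ⟨h1, h2, g, h3, h4⟩
    have := hP.2.zc_le (map_mono hle) (hQ.map π)
    exact ⟨zb_mono this h1, bG_anti hle h2, g, by rw [val_mono this h1, h3], fun x hx => h4 x (hle hx)⟩
  · rintro g P - - u' f ⟨h1, h2, k, h3, h4⟩
    rw [map_cj]
    refine ⟨smul_zb _ h1, smul_bG h g h2, g * k * g⁻¹, by rw [val_smul, ← h3, map_mul, map_mul, map_inv], ?_⟩
    rintro _ ⟨x, hx, rfl⟩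
    show g * k * g⁻¹ * (g * x * g⁻¹) * (g * k * g⁻¹)⁻¹ = g * x * g⁻¹ * e (gam (g • f) (g * x * g⁻¹))
    rw [gam_smul h2 g hx, mul_assoc (g * x), h.cen, ← mul_assoc (g * x), mul_assoc g x (e _), ← h4 x hx]
    group
  · rintro P - hP f ⟨h1, g, h2⟩
    obtain ⟨g', k1, k2⟩ := h.pel h2
    have hc : ∀ y ∈ P.map π, y * π g' = π g' * y := by
      rintro _ ⟨x, hx, rfl⟩
      have := congrArg π (k2 x hx)
      rw [map_mul π x, MonoidHom.mem_ker.1 (hk.ge (h.e_mem (gam f x))), mul_one, map_mul, map_mul, map_inv,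
        mul_inv_eq_iff_eq_mul] at this
      exact this.symm
    obtain ⟨u', k3, k4⟩ := exists_val (mem_Zc.2 ⟨hP.2 (zpowers (π g')) (zpowers_le.2 (mem_centralizer_iff.2 hc))
      (by rw [← MonoidHom.map_zpowers]; exact k1.map π) (mem_zpowers _), hc⟩)
    exact ⟨u', k3, h1, g', k4.symm, k2⟩
  · rintro P - hP u' ⟨h1, -⟩
    obtain ⟨⟨g, -, hg⟩, hc⟩ := mem_Zc.1 (val_mem (P.map π) u')
    have : ∀ x ∈ P, ∃ v, e v = x⁻¹ * (g * x * g⁻¹) := fun x hx => (h.mem _).1 (by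
      rw [← hk, MonoidHom.mem_ker, map_mul, map_mul, map_mul, hg, ← hc (π x) ⟨x, hx, rfl⟩, map_inv, map_inv, hg]
      simp)
    choose! γ hγ using this
    obtain ⟨f, k1, k2⟩ := exists_bG hP.1 γ (fun x hx y hy => h.inj (by
      rw [h.add, hγ _ hy, ← mul_assoc (e _), ← h.cen, hγ _ hx, hγ _ (mul_mem hx hy)]; group))
      fun a ha => h.inj (by rw [hγ _ (hP.1 ha), h.zero, h.comm ha g]; group)
    exact ⟨f, h1, k1, g, hg, fun x hx => by rw [k2 x hx, hγ x hx, mul_inv_cancel_left]⟩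
  · rintro P - hP u' f ⟨h1, h2, g, h3, h4⟩
    rw [mem_zq, kex_Zi hk hP.1, ← h3, mem_aG_iff h2, and_iff_right h1]
    refine ⟨fun ⟨z, hz, e1⟩ x hx => h.inj ?_, fun h0 => ⟨g, mem_Zc.2 ⟨?_, fun x hx => ?_⟩, rfl⟩⟩
    · have ha : z⁻¹ * g ∈ A := by rw [← hk, MonoidHom.mem_ker, map_mul, map_inv, e1, inv_mul_cancel]
      have e2 : g * x = x * g := by
        calc g * x = z * (z⁻¹ * g * x) := by group
          _ = x * g := by rw [← h.comm ha x, ← mul_assoc, ← (mem_Zc.1 hz).2 x hx]; group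
      have := h4 x hx
      rw [e2, mul_inv_cancel_right, left_eq_mul] at this
      rw [this, h.zero]
    · rw [← comap_map_eq_self (f := π) (H := P) (hk ▸ hP.1), mem_comap, h3]
      exact Zc_le _ (val_mem _ _)
    · have := h4 x hx
      rw [h0 x hx, h.zero, mul_one, mul_inv_eq_iff_eq_mul] at this
      exact this.symm

theorem tr2 (h : Cext p e A) (hπ : Function.Surjective π) (hk : π.ker = A)
    (hq : ∀ (g : G) (y : Ω), π g • y = g • y) (Am₀ : Am p G Ω)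
    (hE : GEx Ω (CB p A π) (zq (⊤ : Subgroup G)) (zq A) m) :
    GEx Ω (Cen p) (fun P' => zq (Zi π P') P') (zq (⊥ : Subgroup G')) m := by
  refine (gtr (𝓕 := CB p A π) (b := zq ⊤) (a := zq A) π hπ hq Am₀ (𝓕' := Cen p) (a' := zq ⊥)
    (b' := fun P' => zq (Zi π P') P') (fun g P _ hP => hP.conj h g) (fun P _ hP => and_iff_right (hk ▸ hP))
    (fun P u' u => u' ∈ zb (P.map π) ∧ u ∈ zb P ∧ val (P.map π) u' = π (val P u))
    (fun P _ _ => ⟨zero_mem _, zero_mem _, by rw [val_zero, val_zero, map_one]⟩)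
    (fun P _ _ u' u v' v ⟨h1, h2, h3⟩ ⟨k1, k2, k3⟩ =>
      ⟨sub_mem h1 k1, sub_mem h2 k2, by rw [val_sub, val_sub, h3, k3, map_mul, map_inv]⟩)
    ?_ ?_ ?_ ?_ ?_ ?_).2 hE
  · rintro P Q hle hQ hP - u' u ⟨h1, h2, h3⟩
    have e1 := hP.2.zc_le (map_mono hle) (hQ.map π)
    have e2 := (hP.cen hk).zc_le hle hQ
    exact ⟨zb_mono e1 h1, zb_mono e2 h2, by rw [val_mono e1 h1, val_mono e2 h2, h3]⟩
  · rintro g P - - u' u ⟨h1, h2, h3⟩
    rw [map_cj]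
    exact ⟨smul_zb _ h1, smul_zb _ h2, by rw [val_smul, val_smul, h3, map_mul, map_mul, map_inv]⟩
  · rintro P - hP u' u ⟨h1, h2, h3⟩
    exact ⟨⟨h1, by rw [kex_Zi hk hP.1, h3]; exact ⟨_, val_mem P u, rfl⟩⟩, h2, trivial⟩
  · rintro P - - u hu
    obtain ⟨u', k1, k2⟩ := exists_val (kex_zc (π := π) (val_mem P u))
    exact ⟨u', k1, hu.1, k2⟩
  · rintro P - hP u' ⟨h1, h2⟩
    rw [kex_Zi hk hP.1] at h2
    obtain ⟨z, hz, e1⟩ := h2
    obtain ⟨u, k1, k2⟩ := exists_val hz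
    exact ⟨u, h1, k1, by rw [k2, e1]⟩
  · rintro P - - u' u ⟨h1, h2, h3⟩
    rw [mem_zq, mem_zq, and_iff_right h1, and_iff_right h2, h3, mem_bot, ← hk, MonoidHom.mem_ker]

omit [Finite G'] [MulAction G' Ω] in
theorem tr3 (h : Cext p e A) (Am₀ : Am p G Ω) (hE : GEx Ω (Cen p) (fun _ : Subgroup G => cst G V) (fun _ => ⊥) m) :
    GEx Ω (Cen p) (zq A) (zq (⊥ : Subgroup G)) m := by
  refine (gtr (𝓕 := Cen p) (b := zq A) (a := zq ⊥) (MonoidHom.id G) Function.surjective_id (fun _ _ => rfl) Am₀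
    (𝓕' := Cen p) (b' := fun _ => cst G V) (a' := fun _ => ⊥) (fun g P _ hP => hP.conj g)
    (fun P _ _ => by rw [Subgroup.map_id]) (fun P f u => f ∈ cst G V ∧ u ∈ zb P ∧ val P u = e (f 1))
    (fun P _ _ => ⟨zero_mem _, zero_mem _, by rw [val_zero]; exact h.zero.symm⟩)
    (fun P _ _ f u f' v ⟨h1, h2, h3⟩ ⟨k1, k2, k3⟩ =>
      ⟨sub_mem h1 k1, sub_mem h2 k2, by rw [val_sub, h3, k3, ← h.sub]; rfl⟩)
    ?_ ?_ (fun P _ _ f u ⟨h1, h2, h3⟩ => ⟨h1, h2, h3 ▸ h.e_mem _⟩) ?_ ?_ ?_).1 hE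
  · rintro P Q hle hQ hP - f u ⟨h1, h2, h3⟩
    exact ⟨h1, zb_mono (hP.zc_le hle hQ) h2, by rw [val_mono (hP.zc_le hle hQ) h2, h3]⟩
  · rintro g P - - f u ⟨h1, h2, h3⟩
    refine ⟨fun x => (h1 _).trans (h1 _).symm, smul_zb _ h2, ?_⟩
    rw [val_smul, h3, h.cen, mul_inv_cancel_right]
    exact congrArg e (h1 _).symm
  · rintro P - - u ⟨h1, h2⟩
    obtain ⟨v, hv⟩ := (h.mem _).1 h2
    exact ⟨fun _ => v, fun _ => rfl, h1, hv.symm⟩
  · rintro P - hP f hf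
    obtain ⟨u, k1, k2⟩ := exists_val (mem_Zc.2 ⟨hP.ker_le h (h.e_mem (f 1)), fun y _ => h.cen _ y⟩)
    exact ⟨u, hf, k1, k2⟩
  · rintro P - - f u ⟨h1, h2, h3⟩
    rw [mem_zq, and_iff_right h2, h3, mem_bot, AddSubgroup.mem_bot]
    exact ⟨fun e0 => by rw [e0]; exact h.zero, fun e0 => funext fun x => (h1 x).trans (h.inj (e0.trans h.zero.symm))⟩

omit [Finite G'] [MulAction G' Ω] in
theorem nc_ka (h : Cext p e A) (hπ : Function.Surjective π) (hk : π.ker = A) (Am₀ : Am p G Ω) (m : ℕ) :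
    GEx Ω (fun P => A ≤ P ∧ ¬ CB p A π P) (kG h) (aG A) m := by
  have c : GCl p (fun P => A ≤ P) (CB p A π) :=
    ⟨fun P _ hP => hP.1, fun P Q hle _ hP _ => hP.up hle, fun g P _ hP => hP.conj h g⟩
  refine gv2 Am₀ ((gsys_ka h).restrict (c.fam_diff h.fam fun g P hP => hP.conj h g) fun _ _ hP => hP.1)
    (fun Q _ hQ => ?_) m
  obtain ⟨R, r1, r2, r3, r4⟩ := esc_nc h hπ hk hQ.1 fun e => hQ.2 ⟨hQ.1, e⟩
  exact ⟨R, r1, r2, r3, fun g hg u hu => smul_sub_aG h hQ.1 (r4 g hg) (r2 hg) hu.1⟩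

omit [Finite G'] [MulAction G' Ω] in
theorem nc_zq (h : Cext p e A) (hπ : Function.Surjective π) (hk : π.ker = A) (Am₀ : Am p G Ω) (m : ℕ) :
    GEx Ω (fun P => Cen p P ∧ ¬ CB p A π P) (zq (⊤ : Subgroup G)) (zq A) m := by
  haveI := h.normal
  have c : GCl p (Cen p) (CB p A π) :=
    ⟨fun P _ hP => hP.cen hk, fun P Q hle _ hP _ => hP.up hle, fun g P _ hP => hP.conj h g⟩
  refine gv2 Am₀ ((gsys_zq (tf_const p A) (tf_const p ⊤) fun _ => le_top).restrict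
    (c.fam_diff (fam_cen p G) fun g P hP => hP.conj h g) fun _ _ hP => hP.1) (fun Q _ hQ => ?_) m
  have hA := hQ.1.ker_le h
  obtain ⟨R, r1, r2, r3, r4⟩ := esc_nc h hπ hk hA fun e => hQ.2 ⟨hA, e⟩
  refine ⟨R, r1, r2, r3, fun g hg u hu => ?_⟩
  have e1 := smul_zb g hu.1
  have e2 := val_smul g Q u
  rw [cj_eq_iff.2 (r2 hg)] at e1 e2
  refine ⟨sub_mem e1 hu.1, ?_⟩
  rw [val_sub, e2]
  simpa using Normal.conj_mem inferInstance _ (r4 g hg _ (Zc_le Q (val_mem Q u))) (val Q u)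

end CfsgLib.MPZ
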