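import Mathlib
import Cfsg.Agent.Lib.MPZ.V2

set_option autoImplicit false

namespace CfsgLib.MPZ

open Subgroup CfsgLib.Fusion

/-! MPZ package LOCA: the error system `kk` of the local theorem. -/

variable {G : Type*} [Group G] [Finite G] {Ω : Type*} [MulAction G Ω] {B : Type*} [AddCommGroup B]
  [DistribMulAction G B] {p : ℕ} [Fact p.Prime] {H P P' Q Y : Subgroup G} {W : Set Ω} {β : AddSubgroup B}
  {𝒬 : Subgroup G → Prop} {m : ℕ}

/-- The image of an additive subgroup under a group element. -/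
abbrev ac (g : G) (k : AddSubgroup B) : AddSubgroup B := k.map (DistribMulAction.toAddMonoidHom B g)

/-- A `p`-group acts trivially on an invariant subgroup of order dividing `p`. -/
theorem fix_of_card {k : AddSubgroup B} (hk : Nat.card k ∣ p) (hP : IsPGroup p P)
    (inv : ∀ g ∈ P, ∀ u ∈ k, g • u ∈ k) : ∀ g ∈ P, ∀ u ∈ k, g • u = u := fun g hg u hu => by
  have hp : p.Prime := Fact.out
  by_cases h0 : u = 0
  · rw [h0, smul_zero]
  have hc : Nat.card k = p := ((Nat.dvd_prime hp).1 hk).resolve_left fun e =>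
    h0 (AddSubgroup.mem_bot.1 (AddSubgroup.card_eq_one.1 e ▸ hu))
  obtain ⟨n, hn⟩ := mem_multiples_of_prime_card hc (g := (⟨u, hu⟩ : k)) (g' := ⟨g • u, inv g hg u hu⟩)
    fun e => h0 (congrArg Subtype.val e)
  have hn' : n • u = g • u := congrArg Subtype.val hn
  have hi : ∀ j : ℕ, g ^ j • u = n ^ j • u := fun j => by
    induction j with
    | zero => simp
    | succ j ih => rw [pow_succ', mul_smul, ih, smul_comm, ← hn', smul_smul, pow_succ]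
  obtain ⟨e, he⟩ := hP ⟨g, hg⟩
  have he' : g ^ p ^ e = 1 := congrArg Subtype.val he
  have h1 := hi (p ^ e)
  rw [he', one_smul] at h1
  have h2 : addOrderOf u ∣ p := hc ▸ k.addOrderOf_dvd_natCard hu
  rw [← hn']
  refine Eq.trans (nsmul_eq_nsmul_iff_modEq.2 (Nat.ModEq.of_dvd h2 ?_)) h1.symm
  rw [← ZMod.natCast_eq_natCast_iff, Nat.cast_pow, ZMod.pow_card_pow]

theorem kill_lay (hY : Y ≤ Q) (hQ : ∀ g ∈ Q, ∀ u ∈ β, g • u ∈ β) (hβ : ∀ g ∈ Y, ∀ u ∈ β, g • u = u)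
    (h : TG p Y β Q ∨ TT p Y β Q) {i : ℕ} (hi : 1 ≤ i) {A₀ : Subgroup G} (h1 : Y ≤ A₀) (h2 : A₀ ≤ Q)
    (h3 : A₀.relIndex Q = p) : Kill p Q A₀ (lay p β (i + 1)) (lay p β i) := fun u hu hf a ha _ => by
  have h4 : p ^ i • u ∈ Fx β Q := by
    rcases h with h | h
    · exact nsmul_mem (h A₀ h1 h2 h3 ⟨hu.1, hf⟩) _
    · obtain ⟨j, rfl⟩ := Nat.exists_eq_add_of_le' hi
      rw [pow_succ, mul_smul]
      exact nsmul_mem (h.2 ▸ (Fx β Q).nsmul_relIndex_mem hu.1) _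
  refine ⟨sum_mem fun j _ => hQ _ (pow_mem ha j) u hu.1, ?_⟩
  rw [Finset.smul_sum, Finset.sum_congr rfl fun j _ => (smul_comm _ _ u).trans (h4.2 _ (pow_mem ha j)),
    Finset.sum_const, Finset.card_range, smul_smul, ← pow_succ']
  exact hu.2

theorem kill_Nm {A₀ : Subgroup G} (h1 : Y ≤ A₀) (h2 : A₀ ≤ Q) (h3 : A₀.relIndex Q = p) :
    Kill p Q A₀ (lay p β 1) (Nm p Y β Q) := fun u hu hf a ha ha' =>
  AddSubgroup.subset_closure ⟨A₀, u, a, h1, h2, h3, hu.1, by simpa using hu.2, hf, ha, ha', rfl⟩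

theorem card_Nm (hY : Y ≤ Q) (hn : Q ≤ normalizer (Y : Set G)) (hQ : ∀ g ∈ Q, ∀ u ∈ β, g • u ∈ β)
    (hβ : ∀ g ∈ Y, ∀ u ∈ β, g • u = u) (h : TG p Y β Q ∨ TT p Y β Q) : Nat.card (Nm p Y β Q) ∣ p := by
  rcases h with h | h
  · have : Nm p Y β Q = ⊥ := by
      refine le_bot_iff.1 ((AddSubgroup.closure_le _).2 ?_)
      rintro _ ⟨A₀, u, a, h1, h2, h3, hu, h0, hf, ha, -, rfl⟩
      rw [Finset.sum_congr rfl fun j _ => (h A₀ h1 h2 h3 ⟨hu, hf⟩).2 _ (pow_mem ha j), Finset.sum_const,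
        Finset.card_range, h0]
      exact zero_mem _
    simp [this]
  obtain ⟨a, ha, haY⟩ : ∃ a ∈ Q, a ∉ Y := by
    by_contra! e
    have := h.1
    rw [relIndex_eq_one.2 e] at this
    exact (Fact.out : p.Prime).one_lt.ne this
  have gen : ∀ L : Subgroup G, Y ≤ L → a ∈ L → Q ≤ L := fun L h1 h2 g hg => by
    obtain ⟨i, -, hi⟩ := (pt_reps hn h.1 ha haY).2 g hg
    simpa using mul_mem (pow_mem h2 i) (h1 hi)
  let φ : β →+ B := (DistribMulAction.toAddMonoidHom B a - AddMonoidHom.id B).comp β.subtype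
  have hφ : ∀ u : β, φ u = a • (u : B) - u := fun _ => rfl
  have hk : φ.ker = (Fx β Q).addSubgroupOf β := by
    ext u
    rw [AddMonoidHom.mem_ker, hφ, sub_eq_zero, AddSubgroup.mem_addSubgroupOf, mem_Fx]
    exact ⟨fun e => ⟨u.2, gen (MulAction.stabilizer G (u : B)) (fun g hg => hβ g hg u u.2) e⟩, fun e => e.2 a ha⟩
  have hc : Nat.card φ.range = p := by
    rw [← AddSubgroup.index_ker, hk]; exact h.2
  let L : Subgroup G :=
    { carrier := {g | g ∈ Q ∧ ∀ u ∈ β, g • u - u ∈ φ.range}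
      one_mem' := ⟨Q.one_mem, fun u _ => by simp⟩
      mul_mem' := fun {x y} hx hy => ⟨mul_mem hx.1 hy.1, fun u hu => by
        have := add_mem (hx.2 _ (hQ y hy.1 u hu)) (hy.2 u hu)
        rwa [sub_add_sub_cancel, smul_smul] at this⟩
      inv_mem' := fun {x} hx => ⟨inv_mem hx.1, fun u hu => by
        have := neg_mem (hx.2 _ (hQ _ (inv_mem hx.1) u hu))
        rwa [smul_inv_smul, neg_sub] at this⟩ }
  have hL : Q ≤ L := gen L (fun g hg => ⟨hY hg, fun u hu => by rw [hβ g hg u hu, sub_self]; exact zero_mem _⟩)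
    ⟨ha, fun u hu => ⟨⟨u, hu⟩, rfl⟩⟩
  refine (AddSubgroup.card_dvd_of_le ((AddSubgroup.closure_le _).2 ?_)).trans hc.dvd
  rintro _ ⟨A₀, u, b, -, -, -, hu, h0, -, hb, -, rfl⟩
  have := sum_mem (t := Finset.range p) fun j _ => (hL (pow_mem hb j)).2 u hu
  rwa [Finset.sum_sub_distrib, Finset.sum_const, Finset.card_range, h0, sub_zero] at this

theorem mem_kk {u : B} : u ∈ kk p Y β 𝒬 P ↔ u ∈ β ∧ ∀ Q, Y ≤ Q → Q ≤ P → 𝒬 Q → u ∈ Nm p Y β Q := by
  simp only [kk, AddSubgroup.mem_inf, AddSubgroup.mem_iInf, Subtype.forall, and_imp]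

theorem kk_anti (h : P ≤ P') : kk p Y β 𝒬 P' ≤ kk p Y β 𝒬 P := fun _ hu =>
  mem_kk.2 ⟨(mem_kk.1 hu).1, fun Q h1 h2 h3 => (mem_kk.1 hu).2 Q h1 (h2.trans h) h3⟩

theorem QF.smul_Nm (q : QF p H Y W β 𝒬) (M : Md p H β) {g : G} (hg : g ∈ H) {u : B} (hu : u ∈ Nm p Y β Q) :
    g • u ∈ Nm p Y β (cj g Q) := by
  have : Nm p Y β Q ≤ (Nm p Y β (cj g Q)).comap (DistribMulAction.toAddMonoidHom B g) := by
    refine (AddSubgroup.closure_le _).2 ?_
    rintro _ ⟨A₀, u, a, h1, h2, h3, hu, h0, hf, ha, ha', rfl⟩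
    refine AddSubgroup.subset_closure ⟨cj g A₀, g • u, g * a * g⁻¹, ?_, cj_mono g h2, by rw [relIndex_cj, h3],
      M.inv g hg u hu, by rw [smul_comm, h0, smul_zero], fun x hx => ?_, conj_mem_cj.2 ha,
      fun e => ha' (conj_mem_cj.1 e), ?_⟩
    · rw [← cj_eq_iff.2 (q.norm hg)]; exact cj_mono g h1
    · have := hf _ (mem_cj.1 hx)
      rwa [mul_smul, mul_smul, inv_smul_eq_iff] at this
    · simp [Finset.smul_sum, mul_smul]
  exact this hu

theorem QF.smul_kk (q : QF p H Y W β 𝒬) (M : Md p H β) {g : G} (hg : g ∈ H) (hP : P ≤ H) {u : B}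
    (hu : u ∈ kk p Y β 𝒬 P) : g • u ∈ kk p Y β 𝒬 (cj g P) := by
  refine mem_kk.2 ⟨M.inv g hg u (mem_kk.1 hu).1, fun Q h1 h2 h3 => ?_⟩
  have := q.smul_Nm M hg ((mem_kk.1 hu).2 (cj g⁻¹ Q) (by
    rw [← cj_eq_iff.2 (q.norm (inv_mem hg))]; exact cj_mono _ h1) (by
    simpa only [← cj_mul, inv_mul_cancel, cj_one] using cj_mono g⁻¹ h2)
    (q.inv _ (inv_mem hg) Q (h2.trans (cj_le hg hP)) h3))
  rwa [← cj_mul, mul_inv_cancel, cj_one] at this

theorem QF.kk_cj (q : QF p H Y W β 𝒬) (M : Md p H β) {g : G} (hg : g ∈ H) (hP : P ≤ H) :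
    kk p Y β 𝒬 (cj g P) = ac g (kk p Y β 𝒬 P) := by
  refine le_antisymm (fun u hu => ?_) ?_
  · have := q.smul_kk M (inv_mem hg) (cj_le hg hP) hu
    rw [← cj_mul, inv_mul_cancel, cj_one] at this
    exact ⟨g⁻¹ • u, this, smul_inv_smul g u⟩
  · rintro _ ⟨u, hu, rfl⟩
    exact q.smul_kk M hg hP hu

theorem QF.card_kk (q : QF p H Y W β 𝒬) (M : Md p H β) (hY : Y ≤ P) (hP : P ≤ H) (hp : IsPGroup p P)
    (h : 𝒬 P) : Nat.card (kk p Y β 𝒬 P) ∣ p := by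
  obtain ⟨Q, h1, h2, h3, h4⟩ := q.ex P hY hP hp h
  exact (AddSubgroup.card_dvd_of_le fun u hu => (mem_kk.1 hu).2 Q h1 h2 h3).trans
    (card_Nm h1 (h2.trans (hP.trans q.norm)) (fun g hg => M.inv g (hP (h2 hg))) q.fixβ h4)

end CfsgLib.MPZ
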