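import Mathlib
import Cfsg.Agent.Lib.MPZ.LocA

set_option autoImplicit false

namespace CfsgLib.MPZ

open Subgroup CfsgLib.Fusion

/-! MPZ package LOC: the local vanishing theorem. -/

variable {G : Type*} [Group G] [Finite G] {Ω : Type*} [MulAction G Ω] {B : Type*} [AddCommGroup B]
  [DistribMulAction G B] {p : ℕ} [Fact p.Prime] {H Y : Subgroup G} {W : Set Ω} {β : AddSubgroup B}
  {𝒬 : Subgroup G → Prop} {m : ℕ}

theorem QF.le_St (q : QF p H Y W β 𝒬) {l : List Ω} (hl : In W l) : Y ≤ St H l := fun g hg =>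
  ⟨q.le hg, fun y hy => q.fixW g hg y (hl y hy)⟩

theorem QF.lr_cl (q : QF p H Y W β 𝒬) (A : Amb p H W) {l l' : List Ω} (h : l ⊆ l') (h0 : l ≠ [])
    (hl : LR H W 𝒬 l') : LR H W 𝒬 l :=
  have hW : In W l := fun y hy => hl.2.1 y (h hy)
  ⟨h0, hW, q.up _ _ (q.le_St hl.2.1) (St_anti H h) (St_le _ _) (A.isPGroup h0 hW) hl.2.2⟩

theorem QF.ac_kk (q : QF p H Y W β 𝒬) (M : Md p H β) {P : Subgroup G} (hP : P ≤ H) {g : G} (hg : g ∈ H)
    (hn : g ∈ normalizer (P : Set G)) : ac g (kk p Y β 𝒬 P) = kk p Y β 𝒬 P := by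
  rw [← q.kk_cj M hg hP, cj_eq_iff.2 hn]

omit [Finite G] [Fact p.Prime] in
theorem loc_mem_ac {g : G} {k : AddSubgroup B} (h : ac g k = k) {u : B} (hu : u ∈ k) : g • u ∈ k :=
  h ▸ AddSubgroup.mem_map_of_mem (DistribMulAction.toAddMonoidHom B g) hu

theorem QF.sys_kk (q : QF p H Y W β 𝒬) (A : Amb p H W) (M : Md p H β) :
    Sys H (LR H W 𝒬) (fun l => kk p Y β 𝒬 (St H l)) (fun _ => ⊥)  where
  cvx l l' l'' h1 h2 h3 h4 := q.lr_cl A h2 (fun e => h3.1 (List.subset_nil.1 (e ▸ h1))) h4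
  inv := lr_inv A fun g hg P hP _ h => q.inv g hg P hP h
  le _ _ := bot_le
  mono_a _ _ _ _ _ := le_rfl
  mono_b _ _ _ _ h := kk_anti (St_anti H h)
  smul_a g _ l _ u hu := by rw [AddSubgroup.mem_bot.1 hu, smul_zero]; exact zero_mem _
  smul_b g hg l _ u hu := by
    rw [St_sm hg, q.kk_cj M hg (St_le _ _)]
    exact AddSubgroup.mem_map_of_mem (DistribMulAction.toAddMonoidHom B g) hu
  triv l hl g hg u hu := by
    have hp := A.isPGroup hl.1 hl.2.1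
    rw [fix_of_card (q.card_kk M (q.le_St hl.2.1) (St_le _ _) hp hl.2.2) hp
      (fun g hg u hu => loc_mem_ac (q.ac_kk M (St_le _ _) hg.1 (le_normalizer hg)) hu) g hg u hu, sub_self]
    exact zero_mem _

theorem QF.ex_kk (q : QF p H Y W β 𝒬) (A : Amb p H W) (M : Md p H β) (hm : 2 ≤ m) :
    Ex H (LR H W 𝒬) (fun l => kk p Y β 𝒬 (St H l)) (fun _ => ⊥) m := by
  have S := q.sys_kk A M
  have a1 : ∀ k : AddSubgroup B, ac (1 : G) k = k := fun k => by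
    ext u; simp
  have amul : ∀ (g h : G) (k : AddSubgroup B), ac (g * h) k = ac g (ac h k) := fun g h k => by
    ext u; simp [mul_smul]
  have hj : ∀ g ∈ H, ∀ l : List Ω, kk p Y β 𝒬 (St H (sm g l)) = ac g (kk p Y β 𝒬 (St H l)) := fun g hg l => by
    rw [St_sm hg, q.kk_cj M hg (St_le _ _)]
  have hc : ∀ l, LR H W 𝒬 l → Nat.card (kk p Y β 𝒬 (St H l)) ∣ p := fun l hl =>
    q.card_kk M (q.le_St hl.2.1) (St_le _ _) (A.isPGroup hl.1 hl.2.1) hl.2.2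
  have inv : ∀ g ∈ H, ∀ l, LR H W 𝒬 l ∧ kk p Y β 𝒬 (St H l) ≠ ⊥ →
      LR H W 𝒬 (sm g l) ∧ kk p Y β 𝒬 (St H (sm g l)) ≠ ⊥ := fun g hg l hl => ⟨S.inv g hg l hl.1, fun e => hl.2 (by
    have := hj _ (inv_mem hg) (sm g l)
    rwa [sm_inv_sm, e, ac, AddSubgroup.map_bot] at this)⟩
  refine (shrink S (R' := fun l => LR H W 𝒬 l ∧ kk p Y β 𝒬 (St H l) ≠ ⊥) (fun _ h => h.1) inv
    fun l h1 h2 => (not_not.1 fun e => h2 ⟨h1, e⟩).le).2 ?_
  let Hs : AddSubgroup B → Subgroup G := fun k =>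
    { carrier := {g | g ∈ H ∧ ac g k = k}
      one_mem' := ⟨H.one_mem, a1 k⟩
      mul_mem' := fun {a b} ha hb => ⟨H.mul_mem ha.1 hb.1, by rw [amul, hb.2, ha.2]⟩
      inv_mem' := fun {a} ha => ⟨H.inv_mem ha.1, by
        nth_rewrite 1 [← ha.2]
        rw [← amul, inv_mul_cancel, a1]⟩ }
  refine red1 (S.restrict le_rfl (fun _ h => h.1) (fun l l' l'' h1 h2 h3 h4 => ⟨S.cvx l l' l'' h1 h2 h3.1 h4.1,
      fun e => h3.2 (le_bot_iff.1 (e ▸ kk_anti (St_anti H h1)))⟩) inv) ac a1 amul (fun l => kk p Y β 𝒬 (St H l))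
    (fun g hg l _ => hj g hg l) (fun l l' h h' hs => ?_) Hs (fun _ _ => Iff.rfl) fun l₀ h₀ => ?_
  · have hp : p.Prime := Fact.out
    haveI : Finite (kk p Y β 𝒬 (St H l')) := Nat.finite_of_card_ne_zero fun e => hp.ne_zero (by
      simpa [e] using hc l' h'.1)
    refine (AddSubgroup.eq_of_le_of_card_ge (kk_anti (St_anti H hs)) ?_).symm
    rw [((Nat.dvd_prime hp).1 (hc l h.1)).resolve_left fun e => h.2 (AddSubgroup.card_eq_one.1 e)]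
    exact Nat.le_of_dvd hp.pos (hc l' h'.1)
  have hk := hc l₀ h₀.1
  have hkβ : kk p Y β 𝒬 (St H l₀) ≤ β := inf_le_left
  have hk0 := h₀.2
  generalize kk p Y β 𝒬 (St H l₀) = k at hk hkβ hk0
  have hK : Hs k ≤ H := fun _ h => h.1
  have M' : Md p (Hs k) k := ⟨fun g hg u hu => loc_mem_ac hg.2 hu, M.tor.imp fun e he u hu => he u (hkβ hu)⟩
  have hfix : ∀ P ≤ Hs k, IsPGroup p P → ∀ g ∈ P, ∀ u ∈ k, g • u = u := fun P hP hp =>
    fix_of_card hk hp fun g hg => M'.inv g (hP hg)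
  have F : Fam p (Hs k) (fun P => Y ≤ P ∧ 𝒬 P ∧ kk p Y β 𝒬 P = k) :=
    ⟨fun P₁ P₂ P₃ h1 h2 h3 h4 h5 h6 => ⟨h5.1.trans h1, q.up _ _ h5.1 h1 (h2.trans (h3.trans hK)) (h4.to_le h2) h5.2.1,
        le_antisymm (h5.2.2 ▸ kk_anti h1) (h6.2.2 ▸ kk_anti h2)⟩,
      fun g hg P hP h => ⟨by rw [← cj_eq_iff.2 (q.norm hg.1)]; exact cj_mono g h.1, q.inv g hg.1 P (hP.trans hK) h.2.1,
        by rw [q.kk_cj M hg.1 (hP.trans hK), h.2.2, hg.2]⟩⟩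
  have e1 : ∀ l, LR (Hs k) W (fun P => Y ≤ P ∧ 𝒬 P ∧ kk p Y β 𝒬 P = k) l → St (Hs k) l = St H l := fun l hl => by
    rw [St_eq_inf hK, inf_eq_left]
    refine le_of_label (A.isPGroup hl.1 hl.2.1) fun g hg hn => ⟨hg.1, ?_⟩
    rw [← St_eq_inf hK] at hn
    rw [← hl.2.2.2.2]
    exact q.ac_kk M ((St_le _ _).trans hK) hg.1 hn
  refine Ex.congr (triv (A.sub hK) M' F hfix hm) (sys_LR (A.sub hK) M' F).inv (fun l => ⟨fun hl => ?_, fun hl => ?_⟩)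
    (fun l hl => ?_) fun _ _ => rfl
  · have e := e1 l hl
    obtain ⟨h1, h2, -, h4, h5⟩ := hl
    rw [e] at h4 h5
    exact ⟨⟨⟨h1, h2, h4⟩, h5 ▸ hk0⟩, h5⟩
  · obtain ⟨⟨⟨h1, h2, h3⟩, -⟩, h5⟩ := hl
    have e : St (Hs k) l = St H l := by
      rw [St_eq_inf hK, inf_eq_left]
      exact fun g hg => ⟨hg.1, h5 ▸ q.ac_kk M (St_le _ _) hg.1 (le_normalizer hg)⟩
    exact ⟨h1, h2, by rw [e]; exact ⟨q.le_St h2, h3, h5⟩⟩
  · rw [← e1 l hl, hl.2.2.2.2]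
    exact le_antisymm (fun _ h => h.1) fun u hu =>
      ⟨hu, fun g hg => hfix _ (St_le _ _) ((A.sub hK).isPGroup hl.1 hl.2.1) g hg u hu⟩

theorem loc (q : QF p H Y W β 𝒬) (A : Amb p H W) (M : Md p H β) (hm : 2 ≤ m) : LEx H W β 𝒬 m := by
  obtain ⟨O, o1, o2, o3⟩ := A.exists_orbit
  have S := q.sys_kk A M
  have hX : XF p H O (LR H W 𝒬) m := ⟨o2, o3, S.inv, fun l l' h1 h2 h3 => q.lr_cl A h1 h2 h3, .inr hm⟩
  have gd : ∀ l, LR H W 𝒬 l → ∀ Q, Y ≤ Q → Q ≤ St H l → 𝒬 Q → ∀ β' U : AddSubgroup B,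
      (∀ A₀, Y ≤ A₀ → A₀ ≤ Q → A₀.relIndex Q = p → Kill p Q A₀ β' U) → Good H O (LR H W 𝒬) β' U l :=
    fun l hl Q h1 h2 h3 β' U hK => good_of hX h2 ((A.isPGroup hl.1 hl.2.1).to_le h2) h1
      (fun g hg y hy => q.fixW g hg y (o1 y hy)) (fun y hy hf => by
        have hW : In W (y :: l) := fun z hz => (List.mem_cons.1 hz).elim (fun e => e ▸ o1 y hy) (hl.2.1 z)
        exact ⟨by simp, hW, q.up _ _ h1 (fun g hg => mem_St_cons.2 ⟨h2 hg, hf g hg⟩) (St_le _ _)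
          (A.isPGroup (by simp) hW) h3⟩) hK
  intro ξ hξ hd
  obtain ⟨η₁, c1, e1⟩ := pt_lay hX M 1 (fun i hi l hl _ => by
    obtain ⟨Q, h1, h2, h3, h4⟩ := q.ex _ (q.le_St hl.2.1) (St_le _ _) (A.isPGroup hl.1 hl.2.1) hl.2.2
    exact gd l hl Q h1 h2 h3 _ _ fun A₀ a1 a2 a3 =>
      kill_lay h1 (fun g hg => M.inv g (h2 hg).1) q.fixβ h4 hi a1 a2 a3) hξ hd
  have c2 := hξ.sub (c1.dR (hX.sys M))
  have c3 : Coch H (LR H W 𝒬) (fun l => Fx (lay p β 1) (St H l)) (fun _ => ⊥)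
      (trunc m fun l => ξ l - dR (LR H W 𝒬) η₁ l) := (c2.trunc m).mono hX.inv (fun l hl => by
    by_cases e : l.length = m
    · rw [trunc_pos _ e]
      exact ⟨by rw [dR_pos _ hl]; exact e1 l hl e, (c2.mem l hl).2⟩
    · rw [trunc_neg _ e]; exact zero_mem _) fun _ _ => le_rfl
  have d3 : ∀ l, LR H W 𝒬 l → l.length = m + 1 → d (trunc m fun l => ξ l - dR (LR H W 𝒬) η₁ l) l = 0 :=
    fun l hl h => by rw [d_trunc _ h, d_sub, AddSubgroup.mem_bot.1 (hd l hl h), d_dR hX.cvx c1.zero hl, sub_zero]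
  obtain ⟨η₂, c4, e2⟩ := pt hX (M.lay 1) c3 d3
  have c5 := c3.sub (c4.dR (hX.sys (M.lay 1)))
  have c6 : Coch H (LR H W 𝒬) (fun l => kk p Y β 𝒬 (St H l)) (fun _ => ⊥)
      (trunc m fun l => trunc m (fun l => ξ l - dR (LR H W 𝒬) η₁ l) l - dR (LR H W 𝒬) η₂ l) :=
    (c5.trunc m).mono hX.inv (fun l hl => by
      by_cases e : l.length = m
      · rw [trunc_pos _ e]
        refine mem_kk.2 ⟨(c5.mem l hl).1.1, fun Q h1 h2 h3 => ?_⟩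
        rw [dR_pos _ hl]
        exact e2 l hl e _ (gd l hl Q h1 h2 h3 _ _ fun A₀ a1 a2 a3 => kill_Nm a1 a2 a3)
      · rw [trunc_neg _ e]; exact zero_mem _) fun _ _ => le_rfl
  obtain ⟨η₃, c7, e3⟩ := q.ex_kk A M hm _ c6 fun l hl h => by
    rw [d_trunc _ h, d_sub, d3 l hl h, d_dR hX.cvx c4.zero hl, sub_zero]; exact zero_mem _
  have c8 : Coch H (LR H W 𝒬) (fun l => Fx β (St H l)) (fun _ => ⊥) η₂ :=
    c4.mono hX.inv (fun l hl => ⟨(c4.mem l hl).1.1, (c4.mem l hl).2⟩) fun _ _ => le_rfl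
  have c9 : Coch H (LR H W 𝒬) (fun l => Fx β (St H l)) (fun _ => ⊥) η₃ :=
    c7.mono hX.inv (fun l hl => ⟨(mem_kk.1 (c7.mem l hl)).1, fun g hg =>
      sub_eq_zero.1 (AddSubgroup.mem_bot.1 (S.triv l hl g hg _ (c7.mem l hl)))⟩) fun _ _ => le_rfl
  refine ⟨_, (c1.add c8).add c9, fun l hl h => ?_⟩
  have := e3 l hl h
  rwa [trunc_pos _ h, trunc_pos _ h, dR_pos _ hl, dR_pos _ hl, sub_sub, sub_sub, ← add_assoc, ← d_add,
    ← d_add] at this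

end CfsgLib.MPZ
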