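import Mathlib
import Cfsg.Agent.Lib.MPZ.Loc
import Cfsg.Agent.Lib.MPZ.Gv2
import Cfsg.Agent.Lib.MPZ.Val

set_option autoImplicit false

namespace CfsgLib.MPZ

open Subgroup CfsgLib.Fusion

/-! MPZ package ZTH: vanishing of the higher limits of the centre functor. -/

variable {G : Type*} [Group G] {p : ℕ}

/-- The centre of `Y` as a module for the normaliser of `Y`. -/
def ZD (Y : Subgroup G) : Type _ := Additive (Zc Y)

instance (Y : Subgroup G) : AddCommGroup (ZD Y) := inferInstanceAs (AddCommGroup (Additive (Zc Y)))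

/-- The element of `G` underlying an element of `ZD Y`. -/
def ZD.toG {Y : Subgroup G} (z : ZD Y) : G := ((Additive.toMul (show Additive (Zc Y) from z) : Zc Y) : G)

/-- The element of `ZD Y` given by an element of the centre. -/
def ZD.mk {Y : Subgroup G} (x : G) (hx : x ∈ Zc Y) : ZD Y := Additive.ofMul (⟨x, hx⟩ : Zc Y)

theorem ZD.toG_mk {Y : Subgroup G} (x : G) (hx : x ∈ Zc Y) : (ZD.mk x hx).toG = x := rfl

theorem ZD.toG_mem {Y : Subgroup G} (z : ZD Y) : z.toG ∈ Zc Y :=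
  (Additive.toMul (show Additive (Zc Y) from z) : Zc Y).2

theorem ZD.ext {Y : Subgroup G} {z w : ZD Y} (h : z.toG = w.toG) : z = w := Subtype.ext h

theorem ZD.toG_add {Y : Subgroup G} (z w : ZD Y) : (z + w).toG = z.toG * w.toG := rfl

theorem ZD.toG_zero {Y : Subgroup G} : (0 : ZD Y).toG = 1 := rfl

theorem ZD.toG_neg {Y : Subgroup G} (z : ZD Y) : (-z).toG = z.toG⁻¹ := rfl

theorem conj_mem_Zc {Y : Subgroup G} {g x : G} (hg : g ∈ normalizer (Y : Set G)) (hx : x ∈ Zc Y) :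
    g * x * g⁻¹ ∈ Zc Y := by
  have h : g * x * g⁻¹ ∈ cj g (Zc Y) := conj_mem_cj.2 hx
  rwa [← Zc_cj, cj_eq_iff.2 hg] at h

instance (Y : Subgroup G) : DistribMulAction (normalizer (Y : Set G)) (ZD Y) where
  smul g z := ZD.mk ((g : G) * z.toG * (g : G)⁻¹) (conj_mem_Zc g.2 z.toG_mem)
  one_smul z := ZD.ext (show ((1 : normalizer (Y : Set G)) : G) * z.toG * ((1 : normalizer (Y : Set G)) : G)⁻¹ = z.toG by
    simp)
  mul_smul g h z := ZD.ext (show ((g * h : normalizer (Y : Set G)) : G) * z.toG * ((g * h : normalizer (Y : Set G)) : G)⁻¹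
      = (g : G) * ((h : G) * z.toG * (h : G)⁻¹) * (g : G)⁻¹ by simp [mul_assoc])
  smul_zero g := ZD.ext (show (g : G) * 1 * (g : G)⁻¹ = 1 by simp)
  smul_add g z w := ZD.ext (show (g : G) * (z.toG * w.toG) * (g : G)⁻¹
      = (g : G) * z.toG * (g : G)⁻¹ * ((g : G) * w.toG * (g : G)⁻¹) by group)

theorem ZD.toG_smul {Y : Subgroup G} (g : normalizer (Y : Set G)) (z : ZD Y) :
    (g • z).toG = (g : G) * z.toG * (g : G)⁻¹ := rfl

theorem ZD.toG_sub {Y : Subgroup G} (z w : ZD Y) : (z - w).toG = z.toG * w.toG⁻¹ := by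
  rw [sub_eq_add_neg, ZD.toG_add, ZD.toG_neg]

theorem ZD.toG_nsmul {Y : Subgroup G} (n : ℕ) (z : ZD Y) : (n • z).toG = z.toG ^ n := by
  induction n with
  | zero => rw [zero_nsmul, pow_zero, ZD.toG_zero]
  | succ n ih => rw [succ_nsmul, ZD.toG_add, ih, pow_succ]

theorem ZD.smul_eq_iff {Y : Subgroup G} (g : normalizer (Y : Set G)) (z : ZD Y) :
    g • z = z ↔ (g : G) * z.toG = z.toG * g :=
  ⟨fun h => by rw [← mul_inv_eq_iff_eq_mul, ← ZD.toG_smul, h],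
    fun h => ZD.ext (by rw [ZD.toG_smul, h, mul_inv_cancel_right])⟩

theorem zth_le_map {Y : Subgroup G} {P : Subgroup (normalizer (Y : Set G))}
    (h : Y.subgroupOf (normalizer (Y : Set G)) ≤ P) : Y ≤ P.map (normalizer (Y : Set G)).subtype :=
  fun y hy => ⟨⟨y, le_normalizer hy⟩, h hy, rfl⟩

theorem zth_map_cj {N : Subgroup G} (g : N) (P : Subgroup N) :
    (cj g P).map N.subtype = cj (g : G) (P.map N.subtype) := by
  rw [cj, cj, map_map, map_map]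
  rfl

variable [Finite G] [Fact p.Prime] {Ω : Type*} [MulAction G Ω] {Y : Subgroup G} {m : ℕ}

theorem md_ZD (hY : IsPGroup p Y) : Md p (⊤ : Subgroup (normalizer (Y : Set G))) (⊤ : AddSubgroup (ZD Y)) := by
  obtain ⟨e, he⟩ := hY.exists_card_eq
  refine ⟨fun _ _ _ _ => trivial, e, fun u _ => ZD.ext ?_⟩
  rw [ZD.toG_nsmul, ZD.toG_zero, ← he]
  exact congrArg Subtype.val (pow_card_eq_one' (x := (⟨u.toG, Zc_le Y u.toG_mem⟩ : Y)))

theorem qf_ZD (hJ : JJ Y = Y) :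
    QF p (⊤ : Subgroup (normalizer (Y : Set G))) (Y.subgroupOf (normalizer (Y : Set G)))
      (FixW (Set.univ : Set Ω) (Y.subgroupOf (normalizer (Y : Set G)))) (⊤ : AddSubgroup (ZD Y))
      (fun P' => JJ (P'.map (normalizer (Y : Set G)).subtype) ≠ Y) := by
  refine ⟨le_top, (normalizer_eq_top _).ge, fun g hg y hy => hy.2 g hg,
    fun g hg u _ => (ZD.smul_eq_iff g u).2 ((mem_Zc.1 u.toG_mem).2 g hg),
    fun P P' hP hle _ _ h e => h (JJ_down (zth_le_map hP) (map_mono hle) e), fun g _ P _ h e => h ?_,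
    fun P hP _ hp h => ?_⟩
  · rw [zth_map_cj, JJ_cj] at e
    exact (cj_inj (g : G)).1 (e.trans (cj_eq_iff.2 g.2).symm)
  obtain ⟨Q, h1, h2, h3, h4⟩ := dich (p := p) hJ (zth_le_map hP) (map_subtype_le P) (hp.map _) h
  have hQ : Q ≤ normalizer (Y : Set G) := h2.trans (map_subtype_le P)
  have eQ : (Q.subgroupOf (normalizer (Y : Set G))).map (normalizer (Y : Set G)).subtype = Q := by
    rw [subgroupOf_map_subtype, inf_eq_left.2 hQ]
  refine ⟨Q.subgroupOf _, comap_mono h1,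
    fun x hx => (mem_map_iff_mem (normalizer (Y : Set G)).subtype_injective).1 (h2 hx), by rwa [eQ],
    h4.imp (fun h5 A₀ a1 a2 a3 u hu => ⟨trivial, fun g hg => (ZD.smul_eq_iff g u).2 ?_⟩) fun h5 => ⟨?_, ?_⟩⟩
  · refine mem_centralizer_iff.1 (h5 (A₀.map (normalizer (Y : Set G)).subtype) (zth_le_map a1)
      (eQ ▸ map_mono a2) ?_ ⟨u.toG_mem, mem_centralizer_iff.2 ?_⟩) g hg
    · rw [← eQ, relIndex_map_map_of_injective _ _ (normalizer (Y : Set G)).subtype_injective, a3]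
    · rintro _ ⟨x, hx, rfl⟩
      exact (ZD.smul_eq_iff x u).1 (hu.2 x hx)
  · rw [relIndex_subgroupOf hQ, h5.1]
  · have e : Fx (⊤ : AddSubgroup (ZD Y)) (Q.subgroupOf (normalizer (Y : Set G)))
        = ((Zc Y ⊓ centralizer (Q : Set G)).subgroupOf (Zc Y)).toAddSubgroup := by
      ext u
      exact ⟨fun hu => ⟨u.toG_mem, mem_centralizer_iff.2 fun x hx =>
          (ZD.smul_eq_iff ⟨x, hQ hx⟩ u).1 (hu.2 _ hx)⟩,
        fun hu => ⟨trivial, fun g hg => (ZD.smul_eq_iff g u).2 (mem_centralizer_iff.1 hu.2 g hg)⟩⟩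
    rw [AddSubgroup.relIndex_top_right, e]
    exact index_toAddSubgroup.trans h5.2

theorem lex_ZD (A : Am p G Ω) (hY : IsPGroup p Y) (hJ : JJ Y = Y) (hm : 3 ≤ m) :
    LEx (⊤ : Subgroup (normalizer (Y : Set G)))
      (FixW (Set.univ : Set Ω) (Y.subgroupOf (normalizer (Y : Set G)))) (⊤ : AddSubgroup (ZD Y))
      (fun P' => JJ (P'.map (normalizer (Y : Set G)).subtype) = Y) m := by
  have A' := amb_sub A hY
  have M := md_ZD hY
  have q := qf_ZD (p := p) (Ω := Ω) hJ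
  have := f3 (sys_LR A' M (fam_true p _))
    ⟨fun l h => ⟨h.1, h.2.1, trivial⟩, fun l l' hs hl hl' => q.lr_cl A' hs hl.1 hl',
      lr_inv A' fun g hg P hP _ h => q.inv g hg P hP h⟩ (t0' A' M (by omega : 2 ≤ m))
    fun k hk => loc q A' M (by omega : 2 ≤ k)
  simp only [lr_diff, true_and, not_not] at this
  exact this

theorem zth_cen (A : Am p G Ω) (hY : IsPGroup p Y) (hJ : JJ Y = Y) (hc : Cen p Y) (hm : 3 ≤ m) :
    HEx Ω (normalizer (Y : Set G)) (fun P => Cen p P ∧ JJ P = Y) (zq ⊤) (zq ⊥) m := by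
  have hle : ∀ P : Subgroup G, JJ P = Y → Y ≤ P := fun P e => e ▸ JJ_le P
  have hN : ∀ P : Subgroup G, JJ P = Y → normalizer (P : Set G) ≤ normalizer (Y : Set G) := fun P e =>
    e ▸ normalizer_le_JJ P
  refine gmod (D := ZD Y) A (fun P _ h => ⟨hle P h.2, hN P h.2⟩)
    (fun g hg P _ h => ⟨h.1.conj g, by rw [JJ_cj, h.2, cj_eq_iff.2 hg]⟩)
    (fun P z u => u ∈ zb P ∧ val P u = z.toG) (fun P _ _ => ⟨zero_mem _, val_zero P⟩)
    (fun P _ _ u' u v' v hu hv => ⟨sub_mem hu.1 hv.1, by rw [val_sub, ZD.toG_sub, hu.2, hv.2]⟩)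
    (fun P Q h hQ hP _ u' u hu => ⟨zb_mono (hP.1.zc_le h hQ) hu.1, by
      rw [val_mono (hP.1.zc_le h hQ) hu.1, hu.2]⟩)
    (fun g P _ _ u' u hu => ⟨smul_zb _ hu.1, by rw [val_smul, hu.2, ZD.toG_smul]⟩)
    (fun P _ _ u' u hu => ⟨fun g hg => (ZD.smul_eq_iff g u').2 ((mem_Zc.1 (hu.2 ▸ val_mem P u : u'.toG ∈ Zc P)).2 g hg),
      hu.1, trivial⟩)
    (fun P hP h u hu => ⟨ZD.mk (val P u) (hc.zc_le (hle P h.2) hP (val_mem P u)), hu.1, rfl⟩)
    (fun P _ h u' hu => exists_val (mem_Zc.2 ⟨hle P h.2 (Zc_le Y u'.toG_mem), fun y hy =>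
      (ZD.smul_eq_iff ⟨y, hN P h.2 (le_normalizer hy)⟩ u').1 (hu _ hy)⟩))
    (fun P _ _ u' u hu => ⟨fun e => ⟨hu.1, by rw [hu.2, e]; exact one_mem _⟩,
      fun e => ZD.ext (hu.2.symm.trans (mem_bot.1 e.2))⟩) ?_
  have e : ∀ P : Subgroup G, (Cen p P ∧ JJ P = Y) ↔ JJ P = Y := fun P =>
    ⟨fun h => h.2, fun h => ⟨hc.up (hle P h), h⟩⟩
  simp only [e]
  exact lex_ZD A hY hJ hm

theorem gsys_Z : GSys p (Cen p) (zq (⊤ : Subgroup G)) (zq ⊥) :=
  gsys_zq (tf_const p ⊥) (tf_const p ⊤) fun _ => bot_le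

theorem zth_nc (A : Am p G Ω) (hc : ¬ Cen p Y) (m : ℕ) :
    HEx Ω (normalizer (Y : Set G)) (fun P => Cen p P ∧ JJ P = Y) (zq ⊤) (zq ⊥) m := by
  refine gv2' A gsys_Z (fun _ _ h => h.1)
    (fun P₁ P₂ P₃ h1 h2 _ h3 h4 => ⟨h3.1.up h1, JJ_down ((h3.2 ▸ JJ_le P₁ : Y ≤ P₁).trans h1) h2 h4.2⟩)
    (fun g hg P _ h => ⟨h.1.conj g, by rw [JJ_cj, h.2, cj_eq_iff.2 hg]⟩)
    (fun P _ h => h.2 ▸ normalizer_le_JJ P) (fun Q hQ h => ?_) m
  obtain ⟨R, h1, h2, h3, h4⟩ := esc_JJ hQ (h.2 ▸ hc)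
  refine ⟨R, h1, h2, h3, fun g hg u hu => ?_⟩
  rw [smul_eq_of_cent (h4 hg) hu.1, sub_self]
  exact zero_mem _

theorem zth (A : Am p G Ω) (hm : 3 ≤ m) : GEx Ω (Cen p) (zq (⊤ : Subgroup G)) (zq ⊥) m := by
  refine gred A gsys_Z JJ rk _ rk_le rk_cj JJ_cj (fun P Q h => rk_lt h) fun P₀ hP _ => ?_
  by_cases hc : Cen p (JJ P₀)
  · exact zth_cen A (hP.to_le (JJ_le _)) (JJ_JJ _) hc hm
  · exact zth_nc A hc m

end CfsgLib.MPZ
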