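import Mathlib
import Cfsg.Agent.Lib.MPZ.Kex1
import Cfsg.Agent.Lib.MPZ.Zth

set_option autoImplicit false

namespace CfsgLib.MPZ

open Subgroup CfsgLib.Fusion

/-! MPZ package KEX: the obstruction group vanishes. -/

variable {G G' : Type*} [Group G] [Group G'] {V : Type*} [AddCommGroup V] {p : ℕ} {e : V → G} {A : Subgroup G}
  {π : G →* G'} [Finite G] [Fact p.Prime] {Ω : Type*} [MulAction G Ω] [MulAction G' Ω]

theorem kex (h : Cext p e A) (hπ : Function.Surjective π) (hk : π.ker = A)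
    (hq : ∀ (g : G) (y : Ω), π g • y = g • y) (Am₀ : Am p G Ω) :
    GEx Ω (fun P => A ≤ P) (bG A) (kG h) 2 := by
  haveI : Finite G' := Finite.of_surjective π hπ
  haveI := h.normal
  have hA : ∀ a ∈ A, ∀ y : Ω, a • y = y := fun a ha y => by
    rw [← hq, (MonoidHom.mem_ker).1 (hk ▸ ha), one_smul]
  have Am' : Am p G' Ω := am_map π hπ hq (hk ▸ h.isPGroup) Am₀
  have ttop := tf_const p (⊤ : Subgroup G)
  have tA := tf_const p A
  have tbot := tf_const p (⊥ : Subgroup G)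
  have ttop' := tf_const p (⊤ : Subgroup G')
  have tbot' := tf_const p (⊥ : Subgroup G')
  have tZ := tf_Zi h hπ hk
  -- (6) `Z / A` on centric subgroups
  have e6 : GEx Ω (Cen p) (zq (⊤ : Subgroup G)) (zq A) 4 :=
    gl2 Am₀ (gsys_zq tbot tA fun _ => bot_le) (gsys_zq tA ttop fun _ => le_top) (gsys_zq tbot ttop fun _ => le_top)
      (zth Am₀ (by norm_num)) (tr3 h Am₀ (gex_cst h Am₀ (fam_cen p G) (by norm_num)))
  -- (5) on subgroups with centric image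
  have c5 : GCl p (Cen p) (CB p A π) :=
    ⟨fun P _ hP => hP.cen hk, fun P Q hle _ hP _ => hP.up hle, fun g P _ hP => hP.conj h g⟩
  have e5 : GEx Ω (CB p A π) (zq (⊤ : Subgroup G)) (zq A) 4 :=
    gf2 Am₀ (gsys_zq tA ttop fun _ => le_top) c5 e6 (nc_zq h hπ hk Am₀ 5)
  -- (4), (3)
  have e3 : GEx Ω (Cen p) (zq (⊤ : Subgroup G')) (fun P' => zq (Zi π P') P') 3 :=
    gl2 Am' (gsys_zq tbot' tZ fun _ => bot_le) (gsys_zq tZ ttop' fun _ => le_top)
      (gsys_zq tbot' ttop' fun _ => le_top) (zth Am' le_rfl) (tr2 h hπ hk hq Am₀ e5)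
  -- (2)
  have c2 : GCl p (fun P => A ≤ P) (CB p A π) :=
    ⟨fun P _ hP => hP.1, fun P Q hle _ hP _ => hP.up hle, fun g P _ hP => hP.conj h g⟩
  have e2 : GEx Ω (fun P => A ≤ P) (kG h) (aG A) 3 :=
    gf1 Am₀ (gsys_ka h) c2 (nc_ka h hπ hk Am₀ 3) (tr1 h hπ hk hq Am₀ e3)
  -- (1)
  exact gl2 Am₀ (gsys_ka h) (gsys_bk h) (gsys_ba h) (gex_ba h Am₀ hA le_rfl) e2

end CfsgLib.MPZ
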