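import Mathlib
import Cfsg.Agent.Lib.MPZ.Gam
import Cfsg.Agent.Lib.Fusion.Sat2
import Cfsg.Agent.Lib.Fusion.Notions

set_option autoImplicit false
set_option linter.unusedVariables false
set_option linter.unusedSectionVars false

namespace CfsgLib.MPZ

open Cfsg Subgroup CfsgLib.Fusion

/-! MPZ package TW: twisted conjugation maps in a fusion system that agrees with the fusion system of `G` modulo `A`. -/

variable {G : Type*} [Group G] {V : Type*} [AddCommGroup V] {p : ℕ} {e : V → G} {A S P Q : Subgroup G}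
  {F : FusionSystem S} {g h k : G} {γ γ' : G → V}

/-- `F` is a saturated system on a Sylow subgroup of `G` that agrees with the system of `G` modulo the central
subgroup `A`. -/
structure Cmp (p : ℕ) (e : V → G) (A : Subgroup G) {S : Subgroup G} (F : FusionSystem S) : Prop where
  sat : F.IsSaturated p
  syl : SylIn p S ⊤
  ext : Cext p e A
  cen : F.IsCentral A
  up : ∀ P f, Mor F P f → A ≤ P → ∃ g : G, ∀ x ∈ P, ∃ v, f x = g * x * g⁻¹ * e v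
  down : ∀ (P : Subgroup G) (g : G), A ≤ P → P ≤ S → (∀ x ∈ P, g * x * g⁻¹ ∈ S) →
    ∃ f, Mor F P f ∧ ∀ x ∈ P, ∃ v, f x = g * x * g⁻¹ * e v

/-- The map `x ↦ x e(γ x)` on `P`, read from `g⁻¹ P g` to `h⁻¹ P h`, lies in `F`. -/
def Tw (F : FusionSystem S) (e : V → G) (P : Subgroup G) (g h : G) (γ : G → V) : Prop :=
  Mor F (cj g⁻¹ P) (fun s => h⁻¹ * (g * s * g⁻¹ * e (γ (g * s * g⁻¹))) * h)

theorem mem_cj_inv {s : G} : s ∈ cj g⁻¹ P ↔ g * s * g⁻¹ ∈ P := by rw [mem_cj, inv_inv]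

theorem Cext.cj_e (E : Cext p e A) (g x : G) (v : V) : g * (x * e v) * g⁻¹ = g * x * g⁻¹ * e v := by
  rw [mul_assoc (g * x), E.cen v g⁻¹]; group

theorem Cext.cj_e' (E : Cext p e A) (g x : G) (v : V) : g⁻¹ * (x * e v) * g = g⁻¹ * x * g * e v := by
  simpa only [inv_inv] using E.cj_e g⁻¹ x v

theorem Tw.congr (t : Tw F e P g h γ) (hγ : ∀ x ∈ P, γ x = γ' x) : Tw F e P g h γ' := 
  Mor.congr t fun s hs => by rw [hγ _ (mem_cj_inv.1 hs)]

theorem Tw.mono (t : Tw F e P g h γ) (hQ : Q ≤ P) : Tw F e Q g h γ := Mor.mono t (cj_mono _ hQ)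

theorem Tw.le (t : Tw F e P g h γ) : cj g⁻¹ P ≤ S := Mor.le t

theorem Tw.rep (t : Tw F e P g h γ) {s s' : G} (hs : s ∈ S) (hs' : s' ∈ S) : Tw F e P (g * s) (h * s') γ := by
  have h1 : ∀ x ∈ cj (g * s)⁻¹ P, s * x * s⁻¹ ∈ cj g⁻¹ P := fun x hx => by
    rw [mem_cj_inv] at hx ⊢
    simpa only [mul_inv_rev, mul_assoc] using hx
  have h2 : cj (g * s)⁻¹ P ≤ S := fun x hx => by
    have := S.mul_mem (S.mul_mem (S.inv_mem hs) (t.le (h1 x hx))) hs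
    simpa [mul_assoc] using this
  refine (((Mor.conj F h2 hs).comp' t h1).conj_left (S.inv_mem hs')).congr fun x _ => ?_
  simp only [mul_inv_rev, mul_assoc, inv_inv]

theorem Tw.conj (t : Tw F e P g h γ) (E : Cext p e A) (k : G) :
    Tw F e (cj k P) (k * g) (k * h) (fun x => γ (k⁻¹ * x * k)) := by
  have h1 : cj (k * g)⁻¹ (cj k P) = cj g⁻¹ P := by rw [← cj_mul, mul_inv_rev, inv_mul_cancel_right]
  unfold Tw
  rw [h1]
  refine Mor.congr t fun s _ => ?_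
  beta_reduce
  rw [show k⁻¹ * (k * g * s * (k * g)⁻¹) * k = g * s * g⁻¹ by group, E.cj_e', E.cj_e']
  congr 1; group

theorem tw_one : Tw F e P 1 h γ ↔ Mor F P (fun s => h⁻¹ * (s * e (γ s)) * h) := by
  simp only [Tw, inv_one, cj_one, one_mul, mul_one]

theorem Cmp.tw_ex (C : Cmp p e A F) (hA : A ≤ P) (hg : cj g⁻¹ P ≤ S) (hh : cj h⁻¹ P ≤ S) :
    ∃ γ, Tw F e P g h γ := by
  obtain ⟨f, hf, hv⟩ := C.down (cj g⁻¹ P) (h⁻¹ * g) (C.ext.le_cj _ hA) hg fun x hx => hh (by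
    rw [mem_cj_inv] at hx ⊢
    simpa [mul_assoc] using hx)
  choose! v hv using hv
  refine ⟨fun x => v (g⁻¹ * x * g), hf.congr fun s hs => ?_⟩
  beta_reduce
  rw [hv s hs, C.ext.cj_e', show g⁻¹ * (g * s * g⁻¹) * g = s by group]
  congr 1; group

theorem Cmp.tw_add (C : Cmp p e A F) (t : Tw F e P g h γ) {x y : G} (hx : x ∈ P) (hy : y ∈ P) :
    γ (x * y) = γ x + γ y := by
  have hm : ∀ z ∈ P, g⁻¹ * z * g ∈ cj g⁻¹ P := fun z hz => mem_cj_inv.2 (by simpa [mul_assoc] using hz)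
  have h1 := Mor.map_mul t (hm x hx) (hm y hy)
  simp only [show ∀ z : G, g * (g⁻¹ * z * g) * g⁻¹ = z from fun z => by group,
    show g * (g⁻¹ * x * g * (g⁻¹ * y * g)) * g⁻¹ = x * y by group] at h1
  refine C.ext.inj ?_
  rw [show ∀ a b : G, h⁻¹ * a * h * (h⁻¹ * b * h) = h⁻¹ * (a * b) * h from fun a b => by group, mul_left_inj,
    mul_right_inj, mul_assoc x (e _), ← mul_assoc (e (γ x)) y, ← C.ext.cen (γ x) y, mul_assoc y, ← mul_assoc x,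
    mul_right_inj] at h1
  rw [h1, C.ext.add]

theorem Cmp.tw_zero (C : Cmp p e A F) (hA : A ≤ P) (t : Tw F e P g h γ) {a : G} (ha : a ∈ A) : γ a = 0 := by
  have h1 := Mor.eq_of_isCentral t C.cen (C.ext.le_cj g⁻¹ hA ha) ha
  have h2 : g * a * g⁻¹ = a := by rw [C.ext.comm ha g, mul_inv_cancel_right]
  rw [h2, C.ext.cj_e', C.ext.comm ha h⁻¹, inv_mul_cancel_right, mul_eq_left] at h1
  exact C.ext.inj (h1.trans C.ext.zero.symm)

theorem Cmp.tw_e (C : Cmp p e A F) (hA : A ≤ P) (t : Tw F e P g h γ) {x : G} (hx : x ∈ P) (v : V) :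
    γ (x * e v) = γ x := by
  rw [C.tw_add t hx (hA (C.ext.e_mem v)), C.tw_zero hA t (C.ext.e_mem v), add_zero]

theorem Cmp.tw_comp (C : Cmp p e A F) (hA : A ≤ P) (t : Tw F e P g h γ) (t' : Tw F e P h k γ') :
    Tw F e P g k (fun x => γ x + γ' x) := by
  have e1 : ∀ z : G, h * (h⁻¹ * z * h) * h⁻¹ = z := fun z => by group
  refine (Mor.comp' t t' fun s hs => mem_cj_inv.2 ?_).congr fun s hs => ?_
  · rw [e1]; exact P.mul_mem (mem_cj_inv.1 hs) (hA (C.ext.e_mem _))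
  · simp only [e1]
    rw [C.tw_e hA t' (mem_cj_inv.1 hs), C.ext.add, mul_assoc _ (e _) (e _)]

theorem Cmp.tw_inv (C : Cmp p e A F) (hA : A ≤ P) (hh : cj h⁻¹ P ≤ S) (t : Tw F e P g h γ) :
    Tw F e P h g (fun x => -γ x) := by
  have e1 : ∀ z : G, h * (h⁻¹ * z * h) * h⁻¹ = z := fun z => by group
  have e2 : ∀ z : G, g * (g⁻¹ * z * g) * g⁻¹ = z := fun z => by group
  refine (Mor.inv_of t fun s hs => ?_).mono fun y hy => ?_
  · simp only [e1]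
    rw [C.tw_e hA t (mem_cj_inv.1 hs), C.ext.neg, mul_inv_cancel_right]; group
  · have hy' := mem_cj_inv.1 hy
    have hz := P.mul_mem hy' (hA (C.ext.e_mem (-γ (h * y * h⁻¹))))
    refine (Mor.mem_img t).2 ⟨g⁻¹ * (h * y * h⁻¹ * e (-γ (h * y * h⁻¹))) * g, mem_cj_inv.2 (by rwa [e2]), ?_⟩
    simp only [e2]
    rw [C.tw_e hA t hy', C.ext.neg, inv_mul_cancel_right]; group

variable [Finite G] [Fact p.Prime]

theorem Cmp.tw_one_iff (C : Cmp p e A F) (hA : A ≤ P) (hP : P ≤ S) :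
    Mor F P (fun x => x * e (γ x)) ↔ ∃ g₀ : G, ∀ x ∈ P, g₀ * x * g₀⁻¹ = x * e (γ x) := by
  have E := C.ext
  have hPp : IsPGroup p P := C.syl.isPGroup.to_le hP
  have hfix : ∀ {φ : G → G}, Mor F P φ → ∀ x ∈ P, ∀ v, φ (x * e v) = φ x * e v := fun hφ x hx v => by
    rw [hφ.map_mul hx (hA (E.e_mem v)), hφ.eq_of_isCentral C.cen (hA (E.e_mem v)) (E.e_mem v)]
  constructor
  · intro hf
    obtain ⟨α, hα, eα⟩ := hf.exists_aut_of_mem fun x hx => P.mul_mem hx (hA (E.e_mem _))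
    have hp := isPGroup_zpowers_of_fix (Q := A) hPp α
      (fun x hx hxA => by rw [eα x hx]; exact hf.eq_of_isCentral C.cen hx hxA)
      (fun x hx => by rw [eα x hx, inv_mul_cancel_left]; exact E.e_mem _)
    obtain ⟨Q, hQ, hau, -⟩ := C.sat P hP
    obtain ⟨φ, hφ, -, h1⟩ := exists_adjust' hau hQ hp (zpowers_le.2 hα)
    obtain ⟨s, -, hs⟩ := h1 α (mem_zpowers α)
    obtain ⟨t, ht⟩ := C.up P φ hφ hA
    refine ⟨t⁻¹ * s * t, fun x hx => ?_⟩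
    obtain ⟨v, hv⟩ := ht x hx
    have h2 := hs x hx
    rw [eα x hx, hfix hφ x hx, hv, E.cj_e, mul_assoc _ (e v), E.cen (γ x) (e v), ← mul_assoc, mul_left_inj] at h2
    rw [show t⁻¹ * s * t * x * (t⁻¹ * s * t)⁻¹ = t⁻¹ * (s * (t * x * t⁻¹) * s⁻¹) * t by group, ← h2, E.cj_e']
    congr 1; group
  · rintro ⟨g₀, hg₀⟩
    obtain ⟨g, hp, hg⟩ := E.pel hg₀
    have hn : g ∈ normalizer (P : Set G) :=
      mem_normalizer_of_conj_mem fun x hx => by rw [hg x hx]; exact P.mul_mem hx (hA (E.e_mem _))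
    obtain ⟨t, -, ht⟩ := C.syl.exists_conj (hp.to_sup_of_normal_right' hPp (zpowers_le.2 hn)) le_top
    obtain ⟨φ, hφ, hv⟩ := C.down P t hA hP fun x hx => ht x (mem_sup_right hx)
    obtain ⟨ψ, hψ, h1, -⟩ := hφ.exists_inv
    have key : ∀ x ∈ P, t * g * t⁻¹ * φ x * (t * g * t⁻¹)⁻¹ = φ (x * e (γ x)) := fun x hx => by
      obtain ⟨v, hv⟩ := hv x hx
      rw [hfix hφ x hx, hv, E.cj_e, show t * g * t⁻¹ * (t * x * t⁻¹) * (t * g * t⁻¹)⁻¹ = t * (g * x * g⁻¹) * t⁻¹ by group,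
        hg x hx, E.cj_e, mul_assoc _ (e v), E.cen (γ x) (e v), ← mul_assoc]
    refine ((hφ.conj_left (ht g (mem_sup_left (mem_zpowers g)))).comp' hψ fun x hx => ?_).congr fun x hx => ?_
    · rw [key x hx]; exact mem_img_of_mem φ (P.mul_mem hx (hA (E.e_mem _)))
    · rw [key x hx, h1 _ (P.mul_mem hx (hA (E.e_mem _)))]

theorem Cmp.tw_iff (C : Cmp p e A F) (hA : A ≤ P) (hg : cj g⁻¹ P ≤ S) :
    Tw F e P g g γ ↔ ∃ g₀ : G, ∀ x ∈ P, g₀ * x * g₀⁻¹ = x * e (γ x) := by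
  have E := C.ext
  have h1 : Tw F e P g g γ ↔ Mor F (cj g⁻¹ P) (fun s => s * e (γ (g * s * g⁻¹))) := by
    have : ∀ s : G, g⁻¹ * (g * s * g⁻¹ * e (γ (g * s * g⁻¹))) * g = s * e (γ (g * s * g⁻¹)) := fun s => by
      rw [E.cj_e']; congr 1; group
    simp only [Tw, this]
  rw [h1, C.tw_one_iff (E.le_cj _ hA) hg]
  refine ⟨fun ⟨g₀, h⟩ => ⟨g * g₀ * g⁻¹, fun x hx => ?_⟩, fun ⟨g₀, h⟩ => ⟨g⁻¹ * g₀ * g, fun s hs => ?_⟩⟩
  · have e2 : g * (g⁻¹ * x * g) * g⁻¹ = x := by group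
    have := h (g⁻¹ * x * g) (mem_cj_inv.2 (by rwa [e2]))
    rw [e2] at this
    rw [show g * g₀ * g⁻¹ * x * (g * g₀ * g⁻¹)⁻¹ = g * (g₀ * (g⁻¹ * x * g) * g₀⁻¹) * g⁻¹ by group, this, E.cj_e, e2]
  · rw [show g⁻¹ * g₀ * g * s * (g⁻¹ * g₀ * g)⁻¹ = g⁻¹ * (g₀ * (g * s * g⁻¹) * g₀⁻¹) * g by group,
      h _ (mem_cj_inv.1 hs), E.cj_e']
    congr 1; group

end CfsgLib.MPZ
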