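import Mathlib
import Cfsg.Agent.Lib.MPZ.Tw
import Cfsg.Agent.Lib.MPZ.Kex
import Cfsg.Agent.Lib.Fusion.GroupFactor

set_option autoImplicit false

namespace CfsgLib.MPZ

open Cfsg Subgroup CfsgLib.Fusion

/-! MPZ package FIN: untwisting. -/

universe u

variable {G : Type u} [Group G] {V : Type*} [AddCommGroup V] {p : ℕ} {e : V → G} {A S P Q : Subgroup G}
  {F : FusionSystem S}

theorem kG_anti (h : Cext p e A) (hPQ : P ≤ Q) : kG h Q ≤ kG h P := fun _ hf =>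
  ⟨bG_anti hPQ hf.1, hf.2.imp fun _ hg x hx => hg x (hPQ hx)⟩

theorem St_pt {Ω : Type*} [MulAction G Ω] {x₀ : Ω} (hx : ∀ g : G, g • x₀ = x₀ ↔ g ∈ S) (g h : G) :
    h • g • x₀ = g • x₀ ↔ h ∈ cj g S := by
  rw [mem_cj, ← hx, mul_smul, mul_smul, inv_smul_eq_iff]

variable [Finite G] [Fact p.Prime]

theorem am_of_trans {Ω : Type*} [MulAction G Ω] (hS : SylIn p S ⊤) (x₀ : Ω) (hx : ∀ g : G, g • x₀ = x₀ ↔ g ∈ S)
    (htr : ∀ y : Ω, ∃ g : G, g • x₀ = y) : Am p G Ω := by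
  refine ⟨fun _ _ _ _ => trivial, fun y _ => ?_, fun P _ hP => ?_⟩
  · obtain ⟨g, rfl⟩ := htr y
    exact (isPGroup_cj g hS.isPGroup).to_le fun h hh => (St_pt hx g h).1 (hh.2 _ (List.mem_singleton_self _))
  · obtain ⟨y, -, hy⟩ := hS.exists_conj hP le_top
    refine ⟨y⁻¹ • x₀, trivial, fun g hg => (St_pt hx _ _).2 ?_⟩
    rw [mem_cj, inv_inv]
    exact hy g hg

theorem Cmp.sub_mem_kG (C : Cmp p e A F) (hA : A ≤ P) {g h : G} (hh : cj h⁻¹ P ≤ S) {f f' : FB G V}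
    (hf : f ∈ bG A P) (hf' : f' ∈ bG A P) (t : Tw F e P g h (gam f)) (t' : Tw F e P g h (gam f')) :
    f - f' ∈ kG C.ext P := by
  refine ⟨(bG A P).sub_mem hf hf', (C.tw_iff hA t.le).1 ?_⟩
  refine (C.tw_comp hA t (C.tw_inv hA hh t')).congr fun x _ => ?_
  rw [gam_sub, sub_eq_add_neg]

theorem Cmp.tw_of_kG (C : Cmp p e A F) (hA : A ≤ P) {g h : G} {f f' : FB G V} (t : Tw F e P g h (gam f))
    (hk : f - f' ∈ kG C.ext P) : Tw F e P g h (gam f') := by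
  have h1 := (C.tw_iff hA t.le).2 ((kG C.ext P).neg_mem hk).2
  refine (C.tw_comp hA h1 t).congr fun x _ => ?_
  rw [gam_neg, gam_sub]; abel

theorem Cmp.exists_eps (C : Cmp p e A F) {Ω : Type*} [MulAction G Ω] (x₀ : Ω)
    (hx : ∀ g : G, g • x₀ = x₀ ↔ g ∈ S) (htr : ∀ y : Ω, ∃ g : G, g • x₀ = y)
    (hk : GEx Ω (fun P => A ≤ P) (bG A) (kG C.ext) 2) :
    ∃ ε : G → V, (∀ x ∈ S, ∀ y ∈ S, ε (x * y) = ε x + ε y) ∧ (∀ a ∈ A, ε a = 0) ∧
      ∀ g : G, Tw F e (S ⊓ cj g S) 1 g (fun x => ε (g⁻¹ * x * g) - ε x) := by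
  choose r hr using htr
  have hAl : ∀ l : List Ω, A ≤ St ⊤ l := fun l a ha => ⟨trivial, fun y _ => by
    rw [← hr y, St_pt hx, mem_cj, mul_assoc, ← C.ext.comm ha, inv_mul_cancel_left]; exact C.cen.1 ha⟩
  have hle : ∀ (l : List Ω) (y : Ω), y ∈ l → cj (r y)⁻¹ (St ⊤ l) ≤ S := fun l y hy s hs => by
    rw [mem_cj, inv_inv] at hs
    have := hs.2 y hy
    rw [← hr y, St_pt hx, hr y, mem_cj] at this
    simpa [mul_assoc] using this
  have hrep : ∀ {P : Subgroup G} {γ : G → V} {x y : Ω} {g h : G}, g • x₀ = x → h • x₀ = y →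
      (Tw F e P (r x) (r y) γ ↔ Tw F e P g h γ) := fun {P γ x y g h} hg hh => by
    have h1 : ∀ {z : Ω} {k : G}, k • x₀ = z → (r z)⁻¹ * k ∈ S := fun {z k} hk => by
      rw [← hx, mul_smul, hk, inv_smul_eq_iff, hr]
    refine ⟨fun t => ?_, fun t => ?_⟩
    · simpa using t.rep (h1 hg) (h1 hh)
    · simpa using t.rep (S.inv_mem (h1 hg)) (S.inv_mem (h1 hh))
  have hex : ∀ x y : Ω, ∃ f : FB G V, f ∈ bG A (St ⊤ [x, y]) ∧ Tw F e (St ⊤ [x, y]) (r x) (r y) (gam f) := by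
    intro x y
    obtain ⟨γ, t⟩ := C.tw_ex (hAl [x, y]) (hle _ x (by simp)) (hle _ y (by simp))
    obtain ⟨f, hf, hγ⟩ := exists_bG (hAl [x, y]) γ (fun _ ha _ hb => C.tw_add t ha hb)
      (fun _ ha => C.tw_zero (hAl _) t ha)
    exact ⟨f, hf, t.congr fun z hz => (hγ z hz).symm⟩
  choose ξ₂ hξb hξt using hex
  let ξ : List Ω → FB G V := fun l => match l with
    | [x, y] => ξ₂ x y
    | _ => 0
  have hR : ∀ l : List Ω, l ≠ [] → LR (⊤ : Subgroup G) (Set.univ : Set Ω) (fun P => A ≤ P) l :=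
    fun l hl => ⟨hl, fun _ _ => trivial, hAl l⟩
  have hξ : Coch (⊤ : Subgroup G) (LR ⊤ (Set.univ : Set Ω) (fun P => A ≤ P)) (fun l => bG A (St ⊤ l))
      (fun l => kG C.ext (St ⊤ l)) ξ := by
    refine ⟨fun l _ => ?_, fun l hl => ?_, fun g _ l _ => ?_⟩
    · match l with
      | [] => exact zero_mem _
      | [_] => exact zero_mem _
      | [x, y] => exact hξb x y
      | _ :: _ :: _ :: _ => exact zero_mem _
    · match l with
      | [] => rfl
      | y :: l => exact absurd (hR _ (List.cons_ne_nil y l)) hl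
    · match l with
      | [] => show (0 : FB G V) - g • 0 ∈ _; rw [smul_zero, sub_zero]; exact zero_mem _
      | [_] => show (0 : FB G V) - g • 0 ∈ _; rw [smul_zero, sub_zero]; exact zero_mem _
      | _ :: _ :: _ :: _ => show (0 : FB G V) - g • 0 ∈ _; rw [smul_zero, sub_zero]; exact zero_mem _
      | [x, y] =>
        show ξ₂ (g • x) (g • y) - g • ξ₂ x y ∈ kG C.ext (St ⊤ [g • x, g • y])
        have hP : St (⊤ : Subgroup G) [g • x, g • y] = cj g (St ⊤ [x, y]) := St_sm (mem_top g) [x, y]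
        refine C.sub_mem_kG (hAl _) (hle _ (g • y) (by simp)) (hξb _ _) (hP ▸ smul_bG C.ext g (hξb x y))
          (hξt _ _) ?_
        rw [hrep (g := g * r x) (h := g * r y) (by rw [mul_smul, hr]) (by rw [mul_smul, hr]), hP]
        refine ((hξt x y).conj C.ext g).congr fun z hz => ?_
        have := gam_smul (hξb x y) g (mem_cj.1 hz)
        rw [← this]; congr 1; group
  obtain ⟨η, hη, hd⟩ := hk ξ hξ (fun l _ hl => by
    match l, hl with
    | [x, y, z], _ =>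
      rw [d_three]
      show ξ₂ y z - ξ₂ x z + ξ₂ x y ∈ kG C.ext (St ⊤ [x, y, z])
      have h1 : St (⊤ : Subgroup G) [x, y, z] ≤ St ⊤ [x, y] := St_anti _ (by simp)
      have h2 : St (⊤ : Subgroup G) [x, y, z] ≤ St ⊤ [y, z] := St_anti _ (by simp)
      have h3 : St (⊤ : Subgroup G) [x, y, z] ≤ St ⊤ [x, z] := St_anti _ (by simp)
      rw [show ξ₂ y z - ξ₂ x z + ξ₂ x y = ξ₂ x y + ξ₂ y z - ξ₂ x z by abel]
      refine C.sub_mem_kG (hAl _) (hle _ z (by simp))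
        (add_mem (bG_anti h1 (hξb x y)) (bG_anti h2 (hξb y z))) (bG_anti h3 (hξb x z)) ?_ ((hξt x z).mono h3)
      exact (C.tw_comp (hAl _) ((hξt x y).mono h1) ((hξt y z).mono h2)).congr fun w _ => (gam_add _ _ w).symm)
  have hS0 : St (⊤ : Subgroup G) [x₀] = S := by
    ext g; simp [mem_St, hx]
  have hf₀ : η [x₀] ∈ bG A S := hS0 ▸ hη.mem _ (hR _ (by simp))
  refine ⟨gam (η [x₀]), fun x hx' y _ => gam_mul hf₀ hx' y, fun a ha => gam_of_mem hf₀ ha, fun g => ?_⟩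
  have hP : St (⊤ : Subgroup G) [x₀, g • x₀] = S ⊓ cj g S := by
    ext h; simp [mem_St, hx, St_pt hx]
  have h1 := hd [x₀, g • x₀] (hR _ (by simp)) rfl
  rw [d_two] at h1
  have h2 : η [g • x₀] - g • η [x₀] ∈ kG C.ext (St ⊤ [x₀, g • x₀]) :=
    kG_anti C.ext (St_anti _ (by simp [sm])) (hη.eqv g trivial [x₀] (hR _ (by simp)))
  have h3 : ξ₂ x₀ (g • x₀) - (g • η [x₀] - η [x₀]) ∈ kG C.ext (St ⊤ [x₀, g • x₀]) := by
    have := add_mem h1 h2
    rwa [show ξ [x₀, g • x₀] - (η [g • x₀] - η [x₀]) + (η [g • x₀] - g • η [x₀]) =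
      ξ [x₀, g • x₀] - (g • η [x₀] - η [x₀]) by abel] at this
  have h4 := C.tw_of_kG (hAl _) (hξt x₀ (g • x₀)) h3
  rw [hrep (g := 1) (h := g) (one_smul _ _) rfl, hP] at h4
  refine h4.congr fun z hz => ?_
  have := gam_smul hf₀ g (mem_cj.1 hz.2)
  rw [gam_sub, ← this]; congr 2; group

theorem Cmp.realized (C : Cmp p e A F) {ε : G → V} (h1 : ∀ x ∈ S, ∀ y ∈ S, ε (x * y) = ε x + ε y)
    (h2 : ∀ a ∈ A, ε a = 0) (h3 : ∀ g : G, Tw F e (S ⊓ cj g S) 1 g (fun x => ε (g⁻¹ * x * g) - ε x)) :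
    ∃ ι : S →* G, F.IsRealizedBy ι ∧ ι.range = S := by
  have E := C.ext
  have heS : ∀ v, e v ∈ S := fun v => C.cen.1 (E.e_mem v)
  have hεe : ∀ x ∈ S, ∀ v, ε (x * e v) = ε x := fun x hx v => by
    rw [h1 x hx _ (heS v), h2 _ (E.e_mem v), add_zero]
  have hc : ∀ (g x : G) (v : V), g * (x * e v) * g⁻¹ = g * x * g⁻¹ * e v := fun g x v => by
    rw [mul_assoc (g * x), E.cen v g⁻¹]; group
  let ι : S →* G := MonoidHom.mk' (fun s => s * e (-ε s)) (fun s t => by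
    show (s : G) * t * e (-ε (s * t)) = s * e (-ε s) * (t * e (-ε t))
    rw [h1 _ s.2 _ t.2, neg_add, E.add, mul_assoc (s : G) (e _), ← mul_assoc (e (-ε s)) (t : G), ← E.cen (-ε s) (t : G)]
    group)
  have hι : ∀ x ∈ S, extFun ι x = x * e (-ε x) := fun x hx => by rw [extFun_apply ι hx]; rfl
  have hmor : ∀ (g : G) (P : Subgroup G), P ≤ S → (∀ x ∈ P, g * x * g⁻¹ ∈ S) →
      Tw F e P 1 g⁻¹ (fun x => ε (g * x * g⁻¹) - ε x) := fun g P hP hg => by
    have := (h3 g⁻¹).mono (Q := P) (fun x hx => ⟨hP hx, mem_cj.2 (by rw [inv_inv]; exact hg x hx)⟩)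
    simpa only [inv_inv] using this
  refine ⟨ι, isRealizedBy_of_mor (fun s t h => ?_) (fun P f hP _ hm => ⟨fun hf => ?_, ?_⟩), ?_⟩
  · have h' : (s : G) * e (-ε s) = t * e (-ε t) := h
    have h4 : ε s = ε t := by rw [← hεe _ s.2 (-ε s), h', hεe _ t.2]
    rw [h4] at h'
    exact Subtype.ext (mul_right_cancel h')
  · obtain ⟨f', hf', e1, -⟩ := (isCentral_iff.1 C.cen).2 P f hf
    obtain ⟨g, hg⟩ := C.up _ f' hf' le_sup_right
    choose! γ hγ using hg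
    have hgS : ∀ x ∈ P ⊔ A, g * x * g⁻¹ ∈ S := fun x hx => by
      have := S.mul_mem (hf'.mem hx) (S.inv_mem (heS (γ x)))
      rwa [hγ x hx, mul_inv_cancel_right] at this
    have t1 : Tw F e (P ⊔ A) 1 g⁻¹ γ := tw_one.2 (hf'.congr fun x hx => by rw [hγ x hx, inv_inv, hc])
    have hh : cj g⁻¹⁻¹ (P ⊔ A) ≤ S := fun y hy => by
      have := hgS _ (mem_cj.1 hy)
      simpa [mul_assoc] using this
    have t2 := C.tw_comp le_sup_right t1 (C.tw_inv le_sup_right hh (hmor g _ hf'.le hgS))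
    obtain ⟨g₀, hg₀⟩ := (C.tw_iff le_sup_right t2.le).1 t2
    refine ⟨g * g₀, fun x hx => ?_⟩
    have hx' : x ∈ P ⊔ A := mem_sup_left hx
    rw [hι _ (hm x hx), hι _ (hP hx), ← e1 x hx, hγ x hx', hεe _ (hgS x hx'), hc,
      show g * g₀ * x * (g * g₀)⁻¹ = g * (g₀ * x * g₀⁻¹) * g⁻¹ by group, hg₀ x hx', hc, mul_assoc, mul_assoc _ (e _),
      ← E.add, ← E.add]
    congr 2; abel
  · rintro ⟨g, hg⟩
    have h4 : ∀ x ∈ P, g * x * g⁻¹ = f x * e (ε x - ε (f x)) := fun x hx => by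
      have := hg x hx
      rw [hι _ (hm x hx), hι _ (hP hx), hc, E.neg (ε x), eq_mul_inv_iff_mul_eq, mul_assoc, ← E.add] at this
      rw [← this]; congr 2; abel
    have t := tw_one.1 (hmor g P hP fun x hx => by rw [h4 x hx]; exact S.mul_mem (hm x hx) (heS _))
    refine t.congr fun x hx => ?_
    rw [inv_inv, hc, h4 x hx, hεe _ (hm x hx), mul_assoc, ← E.add, sub_add_sub_cancel, sub_self, E.zero, mul_one]
  · refine le_antisymm ?_ fun s hs => ⟨⟨s * e (ε s), S.mul_mem hs (heS _)⟩, ?_⟩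
    · rintro _ ⟨s, rfl⟩
      exact S.mul_mem s.2 (heS _)
    · show s * e (ε s) * e (-ε (s * e (ε s))) = s
      rw [hεe s hs, mul_assoc, ← E.add, add_neg_cancel, E.zero, mul_one]

theorem Cmp.realizable_of (C : Cmp p e A F) {G' : Type*} [Group G'] (π : G →* G') (hπ : Function.Surjective π)
    (hk : π.ker = A) : F.IsRealizable p := by
  let _ : MulAction G (G' ⧸ S.map π) := MulAction.compHom _ π
  have hq : ∀ (g : G) (y : G' ⧸ S.map π), π g • y = g • y := fun _ _ => rfl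
  have hx : ∀ g : G, g • ((1 : G') : G' ⧸ S.map π) = ((1 : G') : G' ⧸ S.map π) ↔ g ∈ S := fun g => by
    rw [← hq, MulAction.Quotient.smul_coe, smul_eq_mul, mul_one, QuotientGroup.eq, mul_one, inv_mem_iff,
      ← mem_comap, comap_map_eq_self (hk ▸ C.cen.1)]
  have htr : ∀ y : G' ⧸ S.map π, ∃ g : G, g • ((1 : G') : G' ⧸ S.map π) = y := fun y => by
    obtain ⟨y, rfl⟩ := QuotientGroup.mk_surjective y
    obtain ⟨g, rfl⟩ := hπ y
    exact ⟨g, by rw [← hq, MulAction.Quotient.smul_coe, smul_eq_mul, mul_one]⟩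
  obtain ⟨ε, h1, h2, h3⟩ := C.exists_eps _ hx htr (kex C.ext hπ hk hq (am_of_trans C.syl _ hx htr))
  obtain ⟨ι, hι, hr⟩ := C.realized h1 h2 h3
  obtain ⟨T, hT⟩ := C.syl.exists_sylow
  exact ⟨G, inferInstance, inferInstance, ι, hι, T, by rw [hT, hr]⟩

theorem Cmp.realizable (C : Cmp p e A F) : F.IsRealizable p :=
  haveI := C.ext.normal
  C.realizable_of (QuotientGroup.mk' A) (QuotientGroup.mk'_surjective A) (QuotientGroup.ker_mk' A)

end CfsgLib.MPZ
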