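import Mathlib
import Cfsg.Agent.Lib.MPZ.Fin
import Cfsg.Agent.Lib.Fusion.ModelEquiv
import Cfsg.Agent.Lib.Fusion.Iso

set_option autoImplicit false

namespace CfsgLib.MPZ

open Cfsg Subgroup CfsgLib.Fusion

/-! MPZ package TOP: realizability passes up and down a central factor. -/

universe u w

variable {Ω : Type u} [Group Ω] {S A : Subgroup Ω} {F : FusionSystem S} {p : ℕ}
  {Ω' : Type*} [Group Ω'] {S' : Subgroup Ω'} {E : FusionSystem S'} {t : Ω → Ω'}

/-- `F` is realized modulo `A` through `c`. -/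
structure RealMod (F : FusionSystem S) (A : Subgroup Ω) {G : Type*} [Group G] (c : Ω → G) : Prop where
  hom : IsHomOn S c
  ker : ∀ x ∈ S, c x = 1 ↔ x ∈ A
  up : ∀ P f, Mor F P f → A ≤ P → ∃ g : G, ∀ x ∈ P, c (f x) = g * c x * g⁻¹
  down : ∀ (P : Subgroup Ω) (g : G), P ≤ S → (∀ x ∈ P, ∃ y ∈ S, c y = g * c x * g⁻¹) →
    ∃ f, Mor F P f ∧ ∀ x ∈ P, c (f x) = g * c x * g⁻¹

theorem realMod_of (h : IsFactor F A t E) (hT : F.StronglyClosed A) {G : Type*} [Group G] {ι : S' →* G}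
    (hι : E.IsRealizedBy ι) : RealMod F A (fun x => extFun ι (t x)) := by
  refine ⟨h.hom.comp (isHomOn_extFun ι) fun x hx => h.mem hx, fun x hx => ?_, fun P f hf hA => ?_,
    fun P g hP hg => ?_⟩
  · rw [← h.ker x hx, extFun_apply ι (h.mem hx), map_eq_one_iff ι hι.1, Subtype.ext_iff, OneMemClass.coe_one]
  · obtain ⟨f', hf', e⟩ := h.ind_of_le hT hf hA
    obtain ⟨-, -, g, hg⟩ := (realized_mor_iff hι).1 hf'
    exact ⟨g, fun x hx => by rw [← e x hx, hg _ (mem_img_of_mem t hx)]⟩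
  · obtain ⟨f', hf', e⟩ := realized_exists_mor hι (h.img_le hP) (g := g) (fun y hy => by
      obtain ⟨x, hx, rfl⟩ := (h.hom.mono hP).mem_img.1 hy
      obtain ⟨z, -, hz⟩ := hg x hx
      rw [← hz]; exact extFun_mem_range ι _)
    obtain ⟨f, hf, e'⟩ := h.lift hf'
    have hle : P ≤ pre S t (img P t) := fun x hx => mem_pre_of_mem (hP hx) (mem_img_of_mem t hx)
    exact ⟨f, hf.mono hle, fun x hx => by rw [← e' x (hle hx), e _ (mem_img_of_mem t hx)]⟩

theorem RealMod.realized (h : IsFactor F A t E) {G : Type*} [Group G] {c : Ω → G}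
    (r : RealMod F A c) : ∃ ι : S' →* G, E.IsRealizedBy ι ∧ ι.range = img S c := by
  have hs : ∀ y : Ω', ∃ x, y ∈ S' → x ∈ S ∧ t x = y := fun y => by
    by_cases hy : y ∈ S'
    · obtain ⟨x, hx, e⟩ := h.exists_eq hy
      exact ⟨x, fun _ => ⟨hx, e⟩⟩
    · exact ⟨1, fun h => absurd h hy⟩
  choose s hs using hs
  have hc : ∀ x ∈ S, ∀ y ∈ S, t x = t y ↔ c x = c y := fun x hx y hy => by
    rw [h.eq_iff hx hy, r.hom.eq_iff_mem_ker r.ker hx hy]
  have hcs : ∀ x ∈ S, c (s (t x)) = c x := fun x hx =>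
    (hc _ (hs _ (h.mem hx)).1 _ hx).1 (hs _ (h.mem hx)).2
  have hom : IsHomOn S' (fun y => c (s y)) := by
    refine isHomOn_of_eq (MonoidHom.mk' (fun y : S' => c (s y)) fun y z => ?_) fun _ => rfl
    have h1 := hs _ y.2
    have h2 := hs _ z.2
    show c (s (y * z)) = c (s y) * c (s z)
    rw [← r.hom.map_mul h1.1 h2.1, ← hcs _ (S.mul_mem h1.1 h2.1), h.hom.map_mul h1.1 h2.1, h1.2, h2.2]
  have hι : ∀ x ∈ S, extFun hom.toHom (t x) = c x := fun x hx => by
    rw [extFun_apply _ (h.mem hx), hom.toHom_apply, hcs x hx]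
  refine ⟨hom.toHom, isRealizedBy_of_mor (fun y z e => ?_) (fun P' f' hP' _ hm => ⟨fun hf' => ?_, ?_⟩), ?_⟩
  · have := (hc _ (hs _ y.2).1 _ (hs _ z.2).1).2 e
    rw [(hs _ y.2).2, (hs _ z.2).2] at this
    exact Subtype.ext this
  · obtain ⟨f, hf, e⟩ := h.lift hf'
    obtain ⟨g, hg⟩ := r.up _ f hf (h.ker_le_pre P')
    refine ⟨g, fun y hy => ?_⟩
    obtain ⟨x, hx, rfl⟩ := h.exists_pre hP' hy
    rw [e x hx, hι _ (hf.mem hx), hι _ (hf.le hx), hg x hx]
  · rintro ⟨g, hg⟩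
    have key : ∀ x ∈ pre S t P', c (s (f' (t x))) = g * c x * g⁻¹ := fun x hx => by
      have h1 := h.mem_pre.1 hx
      rw [← hι x h1.1, ← hg _ h1.2, extFun_apply _ (hm _ h1.2), hom.toHom_apply]
    obtain ⟨f, hf, e⟩ := r.down (pre S t P') g (pre_le _ _ _) fun x hx =>
      ⟨_, (hs _ (hm _ (h.mem_pre.1 hx).2)).1, key x hx⟩
    refine (h.mor_iff P' f').2 ⟨hP', f, hf, fun x hx => ?_⟩
    have h2 := hs _ (hm _ (h.mem_pre.1 hx).2)
    rw [← h2.2, hc _ h2.1 _ (hf.mem hx), key x hx, e x hx]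
  · rw [hom.range_toHom]
    refine le_antisymm (img_le_iff.2 fun y hy => mem_img_of_mem c (hs y hy).1) (img_le_iff.2 fun x hx => ?_)
    rw [← hcs x hx]
    exact mem_img_of_mem (fun y => c (s y)) (h.mem hx)

variable [Fact p.Prime]

theorem exists_real {G : Type*} [Group G] [Finite G] {ι : S' →* G} (hι : E.IsRealizedBy ι)
    (hT : SylIn p ι.range ⊤) :
    ∃ (G' : Type w) (_ : Group G') (_ : Finite G') (ι' : S' →* G'), E.IsRealizedBy ι' ∧ SylIn p ι'.range ⊤ := by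
  let e := (Shrink.mulEquiv.{w} (α := G)).symm
  exact ⟨Shrink.{w} G, inferInstance, inferInstance, _, realized_comp hι hT e.toMonoidHom e.surjective
    (by rw [(MonoidHom.ker_eq_bot_iff _).2 e.injective, inf_bot_eq])⟩

theorem realizable_of {G : Type*} [Group G] [Finite G] {ι : S →* G} (hι : F.IsRealizedBy ι)
    (hT : SylIn p ι.range ⊤) : F.IsRealizable p := by
  obtain ⟨G', _, _, ι', h1, h2⟩ := exists_real.{u} hι hT
  exact ⟨G', inferInstance, inferInstance, ι', h1, h2.exists_sylow⟩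

theorem exists_cext {G : Type u} [Group G] [Finite G] {Z : Subgroup G} (hc : ∀ a ∈ Z, ∀ g, g * a = a * g)
    (hp : IsPGroup p Z) : ∃ (V : Type u) (_ : AddCommGroup V) (e : V → G), Cext p e Z := by
  let _ : CommGroup Z := { (inferInstance : Group Z) with mul_comm := fun a b => Subtype.ext (hc b b.2 a) }
  obtain ⟨n, hn⟩ := exists_pow_eq_one_of_isPGroup hp
  refine ⟨Additive Z, inferInstance, fun v => (v.toMul : Z), fun _ _ => rfl, fun _ _ h => Subtype.ext h,
    fun v g => hc _ v.toMul.2 g, fun g => ⟨fun hg => ⟨Additive.ofMul ⟨g, hg⟩, rfl⟩, ?_⟩, n, fun v => ?_⟩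
  · rintro ⟨v, rfl⟩
    exact v.toMul.2
  · exact Subtype.ext (hn _ v.toMul.2)

variable [Finite S]

/-- The easy direction. -/
theorem realizable_down (hA : F.IsCentral A) (h : IsFactor F A t E) (hF : F.IsRealizable p) :
    E.IsRealizable p := by
  obtain ⟨G, _, _, ι, hι, T, hT⟩ := hF
  have hsyl : SylIn p ι.range ⊤ := hT ▸ sylIn_top T
  have hom := isHomOn_extFun ι
  let Z : Subgroup G := img A (extFun ι)
  let H : Subgroup G := centralizer (Z : Set G)
  have hH : ∀ g : G, (∀ a ∈ A, g * extFun ι a * g⁻¹ = extFun ι a) → g ∈ H := fun g hg =>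
    mem_centralizer_iff.2 fun z hz => by
      obtain ⟨a, ha, rfl⟩ := (hom.mono hA.1).mem_img.1 hz
      rw [← mul_inv_eq_iff_eq_mul.1 (hg a ha)]
  have hιH : ∀ x : S, ι x ∈ H := fun x => hH _ fun a ha => by
    rw [coe_eq_extFun ι x, ← hom.map_conj x.2 (hA.1 ha), comm_of_isCentral hA x.2 ha, mul_inv_cancel_right]
  have : (Z.subgroupOf H).Normal := ⟨fun z hz g => by
    rw [mem_subgroupOf] at hz ⊢
    have := mem_centralizer_iff.1 g.2 _ hz
    simp only [coe_mul, InvMemClass.coe_inv]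
    rwa [← this, mul_inv_cancel_right]⟩
  let π := QuotientGroup.mk' (Z.subgroupOf H)
  let ι' := ι.codRestrict H hιH
  have hπ : ∀ a b : H, π a = π b ↔ (a : G)⁻¹ * b ∈ Z := fun a b => QuotientGroup.eq
  have r : RealMod F A (extFun (π.comp ι')) := by
    refine ⟨isHomOn_extFun _, fun x hx => ?_, fun P f hf hP => ?_, fun P g hP hg => ?_⟩
    · rw [extFun_comp, ← map_one π, eq_comm, hπ, extFun_codRestrict, OneMemClass.coe_one, inv_one, one_mul]
      exact hom.mem_img_iff_of_injOn (realized_injOn hι) hA.1 hx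
    · obtain ⟨-, -, g, hg⟩ := (realized_mor_iff hι).1 hf
      refine ⟨π ⟨g, hH g fun a ha => by rw [← hg a (hP ha), hf.eq_of_isCentral hA (hP ha) ha]⟩, fun x hx => ?_⟩
      rw [extFun_comp, extFun_comp, ← map_inv, ← map_mul, ← map_mul]
      exact congrArg π (Subtype.ext (by simpa only [ι', extFun_codRestrict, coe_mul, InvMemClass.coe_inv] using hg x hx))
    · obtain ⟨g, rfl⟩ := QuotientGroup.mk'_surjective (Z.subgroupOf H) g
      obtain ⟨f, hf, e⟩ := realized_exists_mor hι hP (g := (g : G)) (fun x hx => by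
        obtain ⟨y, -, hy⟩ := hg x hx
        rw [extFun_comp, extFun_comp, ← map_inv, ← map_mul, ← map_mul, hπ] at hy
        simp only [ι', extFun_codRestrict, coe_mul, InvMemClass.coe_inv] at hy
        have := ι.range.mul_mem (extFun_mem_range ι y) (img_extFun_le_range ι A hy)
        rwa [mul_inv_cancel_left] at this)
      refine ⟨f, hf, fun x hx => ?_⟩
      rw [extFun_comp, extFun_comp, ← map_inv, ← map_mul, ← map_mul]
      exact congrArg π (Subtype.ext (by simpa only [ι', extFun_codRestrict, coe_mul, InvMemClass.coe_inv] using e x hx))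
  obtain ⟨κ, hκ, hr⟩ := r.realized h
  refine realizable_of hκ ?_
  have h1 : SylIn p ι'.range ⊤ := by
    have h2 := hsyl.subgroupOf (K := H) (by rintro _ ⟨x, rfl⟩; exact hιH x)
    rw [top_subgroupOf] at h2
    convert h2 using 1
    ext y
    simp only [ι', mem_subgroupOf, MonoidHom.mem_range, Subtype.ext_iff, MonoidHom.codRestrict_apply]
  have h3 := h1.map π
  rw [map_top_of_surjective _ (QuotientGroup.mk'_surjective _), ← MonoidHom.range_comp] at h3
  rwa [hr, img_extFun_top]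

/-- The extension of a realizing group of the factor. -/
theorem RealMod.realizable (hS : IsPGroup p S) (hF : F.IsSaturated p) (hA : F.IsCentral A) {G' : Type u} [Group G']
    [Finite G'] {c : Ω → G'} (r : RealMod F A c) (hT : SylIn p (img S c) ⊤) : F.IsRealizable p := by
  let c₀ : S →* G' := r.hom.toHom
  have hc₀ : ∀ x : S, c₀ x = c x := fun _ => rfl
  have hker : ∀ x : S, x ∈ c₀.ker ↔ (x : Ω) ∈ A := fun x => r.ker x x.2
  obtain ⟨G, _, ι, ρ, hM, -⟩ := exists_isModelExt c₀ c₀.ker 1 (fun s q => by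
      rw [MonoidHom.one_apply, MulAut.one_apply, eq_mul_inv_iff_mul_eq]
      exact Subtype.ext (comm_of_isCentral hA s.2 ((hker q).1 q.2)).symm) le_rfl (by
      obtain ⟨n, hn⟩ := IsPGroup.iff_card.1 (hS.to_subgroup c₀.ker)
      rw [hn, r.hom.range_toHom, ← relIndex_top_right]
      exact ((Nat.Prime.coprime_iff_not_dvd Fact.out).2 hT.not_dvd_relIndex).pow_left n)
    (fun _ _ => True) (fun a => by
      let P : Subgroup Ω := pre S c (cj a (img S c))
      obtain ⟨f, hf, e⟩ := r.down P a⁻¹ (pre_le _ _ _) fun x hx => by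
        obtain ⟨y, hy, e⟩ := r.hom.mem_img.1 (mem_cj.1 (r.hom.mem_pre.1 hx).2)
        exact ⟨y, hy, by rw [e, inv_inv]⟩
      let K : Subgroup (S × S) :=
        { carrier := {h | (h.1 : Ω) ∈ P ∧ f h.1 = h.2}
          one_mem' := ⟨P.one_mem, hf.map_one⟩
          mul_mem' := fun {x y} hx hy => ⟨P.mul_mem hx.1 hy.1, by
            show f (x.1 * y.1) = x.2 * y.2
            rw [hf.map_mul hx.1 hy.1, hx.2, hy.2]⟩
          inv_mem' := fun {x} hx => ⟨P.inv_mem hx.1, by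
            show f (x.1 : Ω)⁻¹ = (x.2 : Ω)⁻¹
            rw [hf.map_inv hx.1, hx.2]⟩ }
      refine ⟨K, trivial, fun h hh => ?_, fun s s' hs => ?_, fun s hs => ?_, fun q => ?_⟩
      · rw [hc₀, hc₀, ← hh.2, e _ hh.1]; group
      · rw [hc₀, hc₀] at hs
        have h1 : a⁻¹ * c s * a = c s' := by rw [mul_assoc, hs, inv_mul_cancel_left]
        have hsP : (s : Ω) ∈ P := mem_pre_of_mem s.2 (mem_cj.2 (h1 ▸ mem_img_of_mem c s'.2))
        refine ⟨⟨f s, hf.mem hsP⟩ * s'⁻¹, ?_, hsP, by simp⟩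
        rw [MonoidHom.mem_ker, map_mul, map_inv, hc₀, hc₀, mul_inv_eq_one, ← h1]
        simpa using e _ hsP
      · exact Subtype.ext (hs.2.symm.trans hf.map_one)
      · have hq : ((q : S) : Ω) ∈ A := (hker q).1 q.2
        have hqP : ((q : S) : Ω) ∈ P := mem_pre_of_mem (q : S).2 (by
          rw [(r.ker _ (q : S).2).2 hq]; exact one_mem _)
        exact ⟨hqP, hf.eq_of_isCentral hA hqP hq⟩)
    (fun _ _ _ _ _ => trivial)
  have := hM.finite
  have hom := isHomOn_extFun ι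
  have hρ : ∀ x ∈ S, ρ (extFun ι x) = c x := fun x hx => by rw [extFun_apply ι hx, hM.comp, hc₀]
  have hZ : img A (extFun ι) = ρ.ker := by
    refine le_antisymm (img_le_iff.2 fun x hx => ?_) fun g hg => ?_
    · rw [MonoidHom.mem_ker, hρ x (hA.1 hx), (r.ker x (hA.1 hx)).2 hx]
    · obtain ⟨z, hz, rfl⟩ := hM.ker g hg
      rw [coe_eq_extFun ι z]
      exact mem_img_of_mem _ ((hker z).1 hz)
  have hZc : ∀ a ∈ ρ.ker, ∀ g, g * a = a * g := fun a ha g => by
    obtain ⟨z, hz, rfl⟩ := hM.ker a ha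
    exact mul_inv_eq_iff_eq_mul.1 (hM.conj g ⟨z, hz⟩)
  have hrg : ι.range = (img S c).comap ρ := by
    refine le_antisymm ?_ fun g hg => ?_
    · rintro _ ⟨s, rfl⟩
      rw [mem_comap, hM.comp]
      exact mem_img_of_mem c s.2
    · obtain ⟨x, hx, e⟩ := r.hom.mem_img.1 (mem_comap.1 hg)
      obtain ⟨z, -, hz⟩ := hM.ker (g * (ι ⟨x, hx⟩)⁻¹) (by rw [map_mul, map_inv, hM.comp, hc₀, e, mul_inv_cancel])
      exact ⟨z * ⟨x, hx⟩, by rw [map_mul, ← hz, inv_mul_cancel_right]⟩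
  have hZp : IsPGroup p ρ.ker := (hS.of_surjective ι.rangeRestrict ι.rangeRestrict_surjective).to_le
    (hZ ▸ img_extFun_le_range ι A)
  have hsyl : SylIn p ι.range ⊤ := by
    have := hT.comap ρ hZp (by rw [MonoidHom.range_eq_top.2 hM.surj]; exact le_top)
    rwa [← hrg, comap_top] at this
  obtain ⟨V, _, e, hE⟩ := exists_cext hZc hZp
  obtain ⟨F₁, h₁⟩ := exists_isFactor (F := F) (S₀ := ⊥) hom (stronglyClosed_bot F)
    (fun x hx => by rw [extFun_apply ι hx, map_eq_one_iff ι hM.inj, mem_bot, Subtype.ext_iff, OneMemClass.coe_one])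
    (img_extFun_top ι)
  have hev : ∀ a b : G, ρ a = ρ b → ∃ v, a = b * e v := fun a b hab => by
    obtain ⟨v, hv⟩ := (hE.mem (b⁻¹ * a)).1 (by rw [MonoidHom.mem_ker, map_mul, map_inv, hab, inv_mul_cancel])
    exact ⟨v, by rw [hv, mul_inv_cancel_left]⟩
  have C : Cmp p e ρ.ker F₁ := by
    refine ⟨h₁.iso_saturated hS hF, hsyl, hE, hZ ▸ h₁.iso_isCentral hA, fun P₁ f₁ hf₁ hP₁ => ?_,
      fun P₁ g _ hP₁ hg => ?_⟩
    · obtain ⟨f, hf, e₁⟩ := h₁.lift hf₁
      obtain ⟨a, ha⟩ := r.up _ f hf fun x hx =>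
        mem_pre_of_mem (hA.1 hx) (hP₁ (hZ ▸ mem_img_of_mem (extFun ι) hx))
      obtain ⟨g, rfl⟩ := hM.surj a
      refine ⟨g, fun y hy => ?_⟩
      obtain ⟨x, hx, rfl⟩ := h₁.exists_pre hf₁.le hy
      refine hev _ _ ?_
      rw [e₁ x hx, hρ _ (hf.mem hx), ha x hx, map_mul, map_mul, map_inv, hρ _ (hf.le hx)]
    · obtain ⟨f, hf, e₁⟩ := r.down (pre S (extFun ι) P₁) (ρ g) (pre_le _ _ _) fun x hx => by
        have h2 := h₁.mem_pre.1 hx
        obtain ⟨y, hy, e₂⟩ := h₁.exists_eq (hg _ h2.2)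
        exact ⟨y, hy, by rw [← hρ y hy, e₂, map_mul, map_mul, map_inv, hρ x h2.1]⟩
      obtain ⟨f₁, hf₁, e₂⟩ := h₁.ind_of_le (stronglyClosed_bot F) hf bot_le
      rw [h₁.img_pre hP₁] at hf₁
      refine ⟨f₁, hf₁, fun y hy => ?_⟩
      obtain ⟨x, hx, rfl⟩ := h₁.exists_pre hP₁ hy
      refine hev _ _ ?_
      rw [e₂ x hx, hρ _ (hf.mem hx), e₁ x hx, map_mul, map_mul, map_inv, hρ _ (hf.le hx)]
  obtain ⟨G₁, _, _, ι₁, hι₁, T, hT₁⟩ := C.realizable
  have r₁ := realMod_of h₁ (stronglyClosed_bot F) hι₁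
  have hid : IsFactor F ⊥ id F := ⟨isHomOn_id S, bot_le, fun x _ => mem_bot.symm, img_id S, fun P f => by
    have hp : P ≤ S → pre S id P = P := fun hP => le_antisymm (fun x hx => ((isHomOn_id S).mem_pre.1 hx).2)
      fun x hx => mem_pre_of_mem (hP hx) hx
    exact ⟨fun hf => ⟨hf.le, f, by rwa [hp hf.le], fun _ _ => rfl⟩, fun ⟨hP, g, hg, e⟩ => by
      rw [hp hP] at hg e; exact hg.congr fun x hx => (e x hx).symm⟩⟩
  obtain ⟨κ, hκ, hr⟩ := r₁.realized hid
  refine realizable_of hκ ?_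
  rw [hr, show (fun x => extFun ι₁ (extFun ι x)) = extFun ι₁ ∘ extFun ι from rfl, ← hom.img_img, img_extFun_top,
    img_extFun_top, ← hT₁]
  exact sylIn_top T

/-- The hard direction. -/
theorem realizable_up (hS : IsPGroup p S) (hF : F.IsSaturated p) (hA : F.IsCentral A) (h : IsFactor F A t E)
    (hE : E.IsRealizable p) : F.IsRealizable p := by
  obtain ⟨G₀, _, _, ι₀, hι₀, T, hT⟩ := hE
  obtain ⟨G', _, _, ι, hι, hsyl⟩ := exists_real.{u} hι₀ (hT ▸ sylIn_top T)
  refine (realMod_of h (stronglyClosed_of_isNormal (isNormal_of_isCentral hA)) hι).realizable hS hF hA ?_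
  rwa [show (fun x => extFun ι (t x)) = extFun ι ∘ t from rfl, ← h.hom.img_img, h.img_eq, img_extFun_top]

end CfsgLib.MPZ
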